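import Cfsg.Agent.Omega.All.NOne.Ti

/-!
# THEOREM ALL-N1 (bb #15220): the conjugates of `R` in `V`

* `cj g R`, `cj g Q` : the conjugates; `cen_cj` : the centraliser of `x ∈ cj g R - 1` normalises `cj g R` and `cj g Q`;
* `exists_sing`, `exists_nonsing` : the orbits of `X` on `V`;
* `line_of` : `cj g R ≤ V` containing a nonsingular vector `x` is `F x`.
-/

set_option autoImplicit false
set_option linter.unusedSectionVars false

namespace Cfsg.Agent.Omega.All.NOne

open Subgroup Cfsg Cfsg.Agent.ZN Cfsg.Agent.Omega.MinPar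

universe u

variable {G : Type u} [Group G]

/-- the conjugate `g H g⁻¹` -/
def cj (g : G) (H : Subgroup G) : Subgroup G := H.map (MulAut.conj g).toMonoidHom

theorem mem_cj {g x : G} {H : Subgroup G} : x ∈ cj g H ↔ g⁻¹ * x * g ∈ H := by
  constructor
  · rintro ⟨u, hu, rfl⟩
    have : g⁻¹ * (g * u * g⁻¹) * g = u := by group
    simpa [this] using hu
  · intro hy
    exact ⟨g⁻¹ * x * g, hy, by simp [mul_assoc]⟩

theorem conj_mem_cj {g x : G} {H : Subgroup G} (hx : x ∈ H) : g * x * g⁻¹ ∈ cj g H := by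
  rw [mem_cj]
  have : g⁻¹ * (g * x * g⁻¹) * g = x := by group
  rwa [this]

theorem card_cj (g : G) (H : Subgroup G) : Nat.card (cj g H) = Nat.card H :=
  (Nat.card_congr (H.equivMapOfInjective _ (MulAut.conj g).injective).toEquiv).symm

theorem mem_norm_of {H : Subgroup G} {y : G} (h1 : ∀ x ∈ H, y * x * y⁻¹ ∈ H) (h2 : ∀ x ∈ H, y⁻¹ * x * y ∈ H) :
    y ∈ normalizer (H : Set G) := by
  rw [mem_normalizer_iff]
  intro x
  refine ⟨h1 x, fun hx => ?_⟩
  have := h2 _ hx
  have e1 : y⁻¹ * (y * x * y⁻¹) * y = x := by group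
  rwa [e1] at this

/-- an element of `N(H)` conjugated -/
theorem conj_mem_norm_cj {g y : G} {H : Subgroup G} (hy : g⁻¹ * y * g ∈ normalizer (H : Set G)) :
    y ∈ normalizer (cj g H : Set G) := by
  have key : ∀ y, g⁻¹ * y * g ∈ normalizer (H : Set G) → ∀ x ∈ cj g H, y * x * y⁻¹ ∈ cj g H := by
    intro y hy x hx
    rw [mem_cj] at hx ⊢
    have := (mem_normalizer_iff.1 hy _).1 hx
    have e1 : g⁻¹ * (y * x * y⁻¹) * g = g⁻¹ * y * g * (g⁻¹ * x * g) * (g⁻¹ * y * g)⁻¹ := by group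
    rwa [e1]
  apply mem_norm_of (key y hy)
  intro x hx
  have h1 : g⁻¹ * y⁻¹ * g ∈ normalizer (H : Set G) := by
    have := inv_mem hy
    have e1 : (g⁻¹ * y * g)⁻¹ = g⁻¹ * y⁻¹ * g := by group
    rwa [e1] at this
  have := key y⁻¹ h1 x hx
  rwa [inv_inv] at this

namespace Core

variable {F T : Type*} [Field F] [AddCommGroup T] [Module F T]
  {V R Q X : Subgroup G} {e : F → T → F → G} {N : T → F} {B : T → T → F}

section

variable {S : Subgroup G} (h : Core S V R Q X e N B)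
include h

theorem cj_QQ {g p q : G} (hp : p ∈ cj g Q) (hq : q ∈ cj g Q) : p * q * p⁻¹ * q⁻¹ ∈ cj g R := by
  rw [mem_cj] at hp hq ⊢
  have := h.QQ _ hp _ hq
  have e1 : g⁻¹ * (p * q * p⁻¹ * q⁻¹) * g = g⁻¹ * p * g * (g⁻¹ * q * g) * (g⁻¹ * p * g)⁻¹ * (g⁻¹ * q * g)⁻¹ := by
    group
  rwa [e1]

theorem cj_semi {g w r : G} (hw : w ∈ cj g Q) (hwR : w ∉ cj g R) (hr : r ∈ cj g R) :
    ∃ n ∈ cj g Q, n * w * n⁻¹ * w⁻¹ = r := by
  rw [mem_cj] at hw hwR hr
  obtain ⟨n, hn, h1⟩ := h.semi _ hw hwR _ hr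
  refine ⟨g * n * g⁻¹, conj_mem_cj hn, ?_⟩
  calc g * n * g⁻¹ * w * (g * n * g⁻¹)⁻¹ * w⁻¹ = g * (n * (g⁻¹ * w * g) * n⁻¹ * (g⁻¹ * w * g)⁻¹) * g⁻¹ := by group
    _ = g * (g⁻¹ * r * g) * g⁻¹ := by rw [h1]
    _ = r := by group

theorem cj_cen {g w r : G} (hw : w ∈ cj g Q) (hr : r ∈ cj g R) : r * w = w * r := by
  rw [mem_cj] at hw hr
  have h1 := (mem_centralizer_iff.1 (h.Q_cen hw)) _ hr
  calc r * w = g * (g⁻¹ * r * g * (g⁻¹ * w * g)) * g⁻¹ := by group
    _ = g * (g⁻¹ * w * g * (g⁻¹ * r * g)) * g⁻¹ := by rw [h1]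
    _ = w * r := by group

theorem cj_R_Q {g r : G} (hr : r ∈ cj g R) : r ∈ cj g Q := by
  rw [mem_cj] at hr ⊢
  exact h.R_Q hr

theorem card_R : Nat.card R = Nat.card F := by
  symm
  apply Nat.card_congr
  refine Equiv.ofBijective (fun a => (⟨e a 0 0, h.e_R a⟩ : R)) ⟨fun a b hab => ?_, fun r => ?_⟩
  · exact (h.e_eq (congrArg Subtype.val hab)).1
  · obtain ⟨a, ha⟩ := (h.R_iff r).1 r.2
    exact ⟨a, Subtype.ext ha⟩

theorem finite_F : Finite F := by
  apply Nat.finite_of_card_ne_zero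
  have := h.form.four
  omega

/-- `c ≠ 0, 1` in `F` -/
theorem exists_two : ∃ t : F, t ≠ 0 ∧ 1 + t ≠ 0 := by
  by_contra hcon
  push Not at hcon
  have := h.finite_F
  have h1 : Nat.card F ≤ 2 := by
    have : Function.Surjective (fun b : Bool => (if b then (1 : F) else 0)) := by
      intro t
      by_cases ht : t = 0
      · exact ⟨false, by simp [ht]⟩
      · refine ⟨true, ?_⟩
        have h2 := hcon t ht
        rw [← h.form.neg_F t] at h2
        simp only [if_true]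
        exact (add_neg_eq_zero.1 h2)
    have h3 := Nat.card_le_card_of_surjective _ this
    simpa using h3
  have := h.form.four
  omega

theorem exists_sqrt (f : F) : ∃ t : F, t ^ 2 = f := by
  have := h.finite_F
  have hinj : Function.Injective (fun t : F => t ^ 2) := by
    intro a b hab
    have h1 : (a + b) ^ 2 = 0 := by
      have h2 : (a + b) ^ 2 = a ^ 2 + b ^ 2 + (a * b + a * b) := by ring
      have h3 : a ^ 2 = b ^ 2 := hab
      rw [h2, h.form.F2, h3, h.form.F2, add_zero]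
    have h2 : a + b = 0 := pow_eq_zero_iff two_ne_zero |>.1 h1
    rw [← h.form.neg_F b]
    exact eq_neg_of_add_eq_zero_left h2
  exact Finite.surjective_of_injective hinj f

/-- conjugation by an element of `Q`, with the inverse -/
theorem exists_q (c : T) : ∃ y ∈ Q, ∀ a b d, y * e a b d * y⁻¹ = e (a + B b c + N c * d) (b + d • c) d :=
  h.act_surj c

theorem mul_e_inv (w : G) (a : F) (b : T) (d : F) {a' : F} {b' : T} {d' : F}
    (h1 : w * e a b d * w⁻¹ = e a' b' d') :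
    w * e a b d * w⁻¹ * (e a b d)⁻¹ = e (a' + a) (b' + b) (d' + d) := by
  rw [h1, h.e_inv, ← h.e_add]

/-- **the nonsingular vectors of `V`** -/
theorem exists_nonsing {a : F} {y : T} {d : F} (h1 : a * d + N y ≠ 0) :
    ∃ x ∈ X, ∃ b, N b ≠ 0 ∧ x * e a y d * x⁻¹ = e 0 b 0 := by
  have hf := h.form
  -- the last step: from `e a y 0`
  have last : ∀ (a : F) (y : T), N y ≠ 0 → ∃ x ∈ X, x * e a y 0 * x⁻¹ = e 0 y 0 := by
    intro a y hy
    obtain ⟨c, hc⟩ := hf.B_surj y (hf.ne_zero_of_N hy) a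
    obtain ⟨q, hq, hqa⟩ := h.act_surj c
    refine ⟨q, h.Q_X hq, ?_⟩
    rw [hqa, hc, mul_zero, add_zero, hf.F2, zero_smul, add_zero]
  by_cases hd : d = 0
  · subst hd
    rw [mul_zero, zero_add] at h1
    obtain ⟨x, hx, h2⟩ := last a y h1
    exact ⟨x, hx, y, h1, h2⟩
  · obtain ⟨q, hq, hqa⟩ := h.act_surj (d⁻¹ • y)
    set a' := a + B y (d⁻¹ • y) + N (d⁻¹ • y) * d with ha'
    have hq1 : q * e a y d * q⁻¹ = e a' 0 d := by
      rw [hqa, smul_smul, mul_inv_cancel₀ hd, one_smul, hf.T2]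
    have ha0 : a' ≠ 0 := by
      rw [ha', hf.B_smul', hf.B_self, mul_zero, add_zero, hf.N_smul]
      intro h0
      apply h1
      have : a * d + N y = (a + d⁻¹ ^ 2 * N y * d) * d := by field_simp
      rw [this, h0, zero_mul]
    obtain ⟨b', hb'⟩ := hf.N_surj (d / a')
    have hb'0 : N b' ≠ 0 := by rw [hb']; exact div_ne_zero hd ha0
    obtain ⟨n, hn, hna⟩ := h.opp b' hb'0
    have hn1 : n * e a' 0 d * n⁻¹ = e a' (a' • b') 0 := by
      rw [hna, hf.zero_B, zero_add, add_zero, hb', div_mul_cancel₀ _ ha0, hf.F2]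
    have hN : N (a' • b') ≠ 0 := by
      rw [hf.N_smul]
      exact mul_ne_zero (pow_ne_zero 2 ha0) hb'0
    obtain ⟨x, hx, h2⟩ := last a' (a' • b') hN
    refine ⟨x * (n * q), mul_mem hx (mul_mem hn (h.Q_X hq)), a' • b', hN, ?_⟩
    calc x * (n * q) * e a y d * (x * (n * q))⁻¹ = x * (n * (q * e a y d * q⁻¹) * n⁻¹) * x⁻¹ := by group
      _ = e 0 (a' • b') 0 := by rw [hq1, hn1, h2]

/-- **the singular vectors of `V`** -/
theorem exists_sing {a : F} {y : T} {d : F} (h1 : a * d + N y = 0) :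
    ∃ x ∈ X, x * e a y d * x⁻¹ ∈ R := by
  have hf := h.form
  -- `d ≠ 0`
  have main : ∀ (a : F) (y : T) (d : F), d ≠ 0 → a * d + N y = 0 → ∃ x ∈ X, x * e a y d * x⁻¹ ∈ R := by
    intro a y d hd h1
    obtain ⟨q, hq, hqa⟩ := h.act_surj (d⁻¹ • y)
    have hq1 : q * e a y d * q⁻¹ = e 0 0 d := by
      rw [hqa, smul_smul, mul_inv_cancel₀ hd, one_smul, hf.T2, hf.B_smul', hf.B_self, mul_zero, add_zero, hf.N_smul]
      congr 1
      have : (a + d⁻¹ ^ 2 * N y * d) * d = a * d + N y := by field_simp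
      rw [h1] at this
      exact (mul_eq_zero.1 this).resolve_right hd
    obtain ⟨c, hc, hc0⟩ := hf.exists_ne
    obtain ⟨q', hq', hqa'⟩ := h.act_surj c
    have hq2 : q' * e 0 0 d * q'⁻¹ = e d (d • c) d := by
      rw [hqa', hc, hf.zero_B, one_mul, zero_add, zero_add, zero_add]
    obtain ⟨n, hn, hna⟩ := h.opp c (by rw [hc]; exact one_ne_zero)
    have hn1 : n * e d (d • c) d * n⁻¹ = e d 0 0 := by
      rw [hna, hf.T2, hf.B_smul, hf.B_self, mul_zero, add_zero, hc, one_mul, hf.F2]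
    refine ⟨n * (q' * q), mul_mem hn (mul_mem (h.Q_X hq') (h.Q_X hq)), ?_⟩
    have h2 : n * (q' * q) * e a y d * (n * (q' * q))⁻¹ = n * (q' * (q * e a y d * q⁻¹) * q'⁻¹) * n⁻¹ := by group
    rw [h2, hq1, hq2, hn1]
    exact h.e_R d
  by_cases hd : d = 0
  · subst hd
    rw [mul_zero, zero_add] at h1
    by_cases hy : y = 0
    · subst hy
      exact ⟨1, one_mem _, by rw [one_mul, inv_one, mul_one]; exact h.e_R a⟩
    · obtain ⟨b₀, hb₀⟩ := hf.B_surj y hy 1
      -- `ν ≠ 0`, `1 + ν a ≠ 0`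
      obtain ⟨ν, hν, hνa⟩ : ∃ ν : F, ν ≠ 0 ∧ 1 + ν * a ≠ 0 := by
        by_cases ha : 1 + a = 0
        · obtain ⟨t, ht, ht1⟩ := h.exists_two
          have ha1 : a = 1 := by
            rw [← hf.neg_F a]
            exact (add_eq_zero_iff_eq_neg.1 ha).symm
          refine ⟨t, ht, ?_⟩
          rw [ha1, mul_one]; exact ht1
        · exact ⟨1, one_ne_zero, by rwa [one_mul]⟩
      set b := b₀ + (ν + N b₀) • y with hb
      have hNb : N b = ν := by
        rw [hb, hf.N_add, hf.N_smul, h1, hf.B_smul', hf.B_symm b₀, hb₀, mul_zero, add_zero, mul_one, add_comm ν,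
          ← add_assoc, hf.F2, zero_add]
      have hBb : B y b = 1 := by
        rw [hb, hf.B_add', hf.B_smul', hf.B_self, mul_zero, add_zero, hb₀]
      obtain ⟨n, hn, hna⟩ := h.opp b (by rw [hNb]; exact hν)
      have hn1 : n * e a y 0 * n⁻¹ = e a (y + a • b) (1 + ν * a) := by
        rw [hna, hBb, hNb, zero_add]
      obtain ⟨x, hx, h2⟩ := main a (y + a • b) (1 + ν * a) hνa (by
        rw [hf.N_add, h1, hf.N_smul, hf.B_smul', hBb, hNb]
        have : a * (1 + ν * a) + (0 + a ^ 2 * ν + a * 1) = (a + a) + (a ^ 2 * ν + a ^ 2 * ν) := by ring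
        rw [this, hf.F2, hf.F2, add_zero])
      refine ⟨x * n, mul_mem hx hn, ?_⟩
      have h3 : x * n * e a y 0 * (x * n)⁻¹ = x * (n * e a y 0 * n⁻¹) * x⁻¹ := by group
      rw [h3, hn1]
      exact h2
  · exact main a y d hd h1

end

section sylow

variable [Finite G] (S : Sylow 2 G) (h : Core (S : Subgroup G) V R Q X e N B) (hG : IsCharacteristicTwoType G)
  (hZ : zc (S : Subgroup G) ≠ ⊥)
include h hG hZ

/-- the centraliser of `x ∈ cj g R - 1` -/
theorem cen_cj {g x y : G} (hx : x ∈ cj g R) (hx1 : x ≠ 1) (hy : y * x = x * y) :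
    g⁻¹ * y * g ∈ normalizer (R : Set G) := by
  rw [mem_cj] at hx
  apply h.cen_le S hG hZ hx
  · intro h0
    apply hx1
    calc x = g * (g⁻¹ * x * g) * g⁻¹ := by group
      _ = 1 := by rw [h0]; group
  · calc g⁻¹ * y * g * (g⁻¹ * x * g) = g⁻¹ * (y * x) * g := by group
      _ = g⁻¹ * (x * y) * g := by rw [hy]
      _ = g⁻¹ * x * g * (g⁻¹ * y * g) := by group

theorem cen_cj_R {g x y r : G} (hx : x ∈ cj g R) (hx1 : x ≠ 1) (hy : y * x = x * y) (hr : r ∈ cj g R) :
    y * r * y⁻¹ ∈ cj g R :=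
  (mem_normalizer_iff.1 (conj_mem_norm_cj (h.cen_cj S hG hZ hx hx1 hy)) r).1 hr

theorem cen_cj_Q {g x y r : G} (hx : x ∈ cj g R) (hx1 : x ≠ 1) (hy : y * x = x * y) (hr : r ∈ cj g Q) :
    y * r * y⁻¹ ∈ cj g Q :=
  (mem_normalizer_iff.1 (conj_mem_norm_cj (h.Q_le_norm (h.cen_cj S hG hZ hx hx1 hy))) r).1 hr

/-- two conjugates of `R` with nontrivial intersection are equal -/
theorem cj_eq {g r : G} (hr : r ∈ R) (hr1 : r ≠ 1) (hg : r ∈ cj g R) : ∀ x, x ∈ cj g R ↔ x ∈ R := by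
  have h1 : g⁻¹ ∈ normalizer (R : Set G) := by
    apply h.ti S hG hZ hr hr1
    rw [inv_inv]
    exact mem_cj.1 hg
  intro x
  rw [mem_cj]
  have h2 := mem_normalizer_iff.1 h1 x
  rw [inv_inv] at h2
  exact h2.symm

/-- **`cj g R ≤ V` containing the nonsingular vector `x = (0, b, 0)` is `F x`.** -/
theorem line_of {g : G} {b : T} (hb : N b ≠ 0) (hV : cj g R ≤ V) (hx : e 0 b 0 ∈ cj g R) :
    ∀ y, y ∈ cj g R ↔ ∃ s : F, e 0 (s • b) 0 = y := by
  have hf := h.form
  have := h.finite_F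
  have hb0 : b ≠ 0 := hf.ne_zero_of_N hb
  have hx1 : e 0 b 0 ≠ 1 := fun h0 => hb0 (h.e_inj _ _ _ h0).2.1
  have hcard : Nat.card (cj g R) = Nat.card F := by rw [card_cj, h.card_R]
  -- (1) `d = 0`
  have step1 : ∀ a y d, e a y d ∈ cj g R → d = 0 := by
    intro a y d hw
    by_contra hd
    choose q hq hqa using fun s : F => h.act_surj (s • b)
    have hqx : ∀ s, q s * e 0 b 0 = e 0 b 0 * q s := by
      intro s
      have h1 := hqa s 0 b 0
      rw [hf.B_smul', hf.B_self, mul_zero, mul_zero, zero_smul, add_zero, add_zero, add_zero] at h1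
      calc q s * e 0 b 0 = q s * e 0 b 0 * (q s)⁻¹ * q s := by group
        _ = e 0 b 0 * q s := by rw [h1]
    have hmem : ∀ s : F, e (a + B y (s • b) + N (s • b) * d + a) (y + d • s • b + y) (d + d) ∈ cj g R := by
      intro s
      rw [← h.mul_e_inv (q s) a y d (hqa s a y d)]
      exact mul_mem (h.cen_cj_R S hG hZ hx hx1 (hqx s) hw) (inv_mem hw)
    let f : F → cj g R := fun s => ⟨_, hmem s⟩
    have hinj : Function.Injective f := by
      intro s s' hss
      obtain ⟨-, h2, -⟩ := h.e_eq (congrArg Subtype.val hss)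
      have h3 : d • s • b = d • s' • b := by
        have h4 := add_right_cancel h2
        exact add_left_cancel h4
      have h4 : s • b = s' • b := smul_right_injective T hd h3
      by_contra hne
      have h5 : (s - s') • b = 0 := by rw [sub_smul, h4, sub_self]
      exact hb0 ((smul_eq_zero.1 h5).resolve_left (sub_ne_zero.2 hne))
    have hbij : Function.Bijective f := (Nat.bijective_iff_injective_and_card f).2 ⟨hinj, hcard.symm⟩
    obtain ⟨s, hs⟩ := hbij.2 ⟨_, hw⟩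
    obtain ⟨-, -, h2⟩ := h.e_eq (congrArg Subtype.val hs)
    rw [hf.F2] at h2
    exact hd h2.symm
  -- (2) `w = (0, s b, 0)`
  have step2 : ∀ y ∈ cj g R, ∃ s : F, e 0 (s • b) 0 = y := by
    intro w hw
    obtain ⟨a, y, d, rfl⟩ := h.e_surj w (hV hw)
    obtain rfl := step1 a y d hw
    have h1 : ∀ s : F, s ≠ 0 → s * B y b + s ^ 2 * N b * a = 0 := by
      intro s hs
      have hN : N (s • b) ≠ 0 := by
        rw [hf.N_smul]; exact mul_ne_zero (pow_ne_zero 2 hs) hb
      obtain ⟨n, hn, hna⟩ := h.opp (s • b) hN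
      have hnx : n * e 0 b 0 = e 0 b 0 * n := by
        have h1 := hna 0 b 0
        rw [hf.B_smul', hf.B_self, mul_zero, mul_zero, zero_smul, add_zero, add_zero, add_zero] at h1
        calc n * e 0 b 0 = n * e 0 b 0 * n⁻¹ * n := by group
          _ = e 0 b 0 * n := by rw [h1]
      have h2 := h.cen_cj_R S hG hZ hx hx1 hnx hw
      rw [hna] at h2
      have h3 := step1 _ _ _ h2
      rw [zero_add, hf.B_smul', hf.N_smul] at h3
      exact h3
    obtain ⟨t, ht, ht1⟩ := h.exists_two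
    have h2 := h1 1 one_ne_zero
    have h3 := h1 t ht
    rw [one_mul, one_pow, one_mul] at h2
    have h4 : t * (1 + t) * (N b * a) = 0 := by
      linear_combination h3 + t * h2 - t * hf.F2 (B y b)
    have ha : a = 0 := by
      have h5 := (mul_eq_zero.1 h4).resolve_left (mul_ne_zero ht ht1)
      exact (mul_eq_zero.1 h5).resolve_left hb
    subst ha
    rw [mul_zero, add_zero] at h2
    obtain ⟨s, hs⟩ := hf.B_span b y hb0 (by rw [hf.B_symm]; exact h2)
    exact ⟨s, by rw [hs]⟩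
  intro y
  refine ⟨step2 y, ?_⟩
  rintro ⟨s, rfl⟩
  -- by counting
  choose f hf' using fun y : cj g R => step2 y y.2
  have hinj : Function.Injective f := by
    intro y y' hyy
    apply Subtype.ext
    rw [← hf' y, ← hf' y', hyy]
  have hbij : Function.Bijective f := (Nat.bijective_iff_injective_and_card f).2 ⟨hinj, hcard⟩
  obtain ⟨y, hy⟩ := hbij.2 s
  rw [← hy, hf' y]
  exact y.2

end sylow

end Core

end Cfsg.Agent.Omega.All.NOne
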