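import Cfsg.Agent.Omega.MinPar

/-!
# THEOREM ALL-N1 (bb #15220), the input of BETA level

`V = F + T + F` with the quadratic form `a d + N b` (`T = F_{q²}`: type (β), `T = F × F`: type (γ)), `R = {(a, 0, 0)}`,
`V ∩ Q = {(a, b, 0)}`, `Q = O₂(N_G(R))` semi-extraspecial with centre `R`; `Q` acts on `V` as the group of all
`u_c : (a, b, d) ↦ (a + B b c + N c * d, b + d • c, d)`, `X` contains `v_b : (a, y, d) ↦ (a, y + a • b, d + B y b + N b * a)`
for all nonsingular `b`.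
-/

set_option autoImplicit false
set_option linter.unusedSectionVars false

namespace Cfsg.Agent.Omega.All.NOne

open Subgroup Cfsg Cfsg.Agent.ZN Cfsg.Agent.Omega.MinPar

universe u

/-- The quadratic space `T` of dimension 2 over `F`. -/
structure Form (F T : Type*) [Field F] [AddCommGroup T] [Module F T] (N : T → F) (B : T → T → F) : Prop where
  F2 : ∀ a : F, a + a = 0
  four : 4 ≤ Nat.card F
  B_self : ∀ b, B b b = 0
  B_add : ∀ b b' c, B (b + b') c = B b c + B b' c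
  B_symm : ∀ b c, B b c = B c b
  B_smul : ∀ (s : F) b c, B (s • b) c = s * B b c
  /-- `T` is 2-dimensional and `B` is nondegenerate -/
  B_span : ∀ b c, b ≠ 0 → B b c = 0 → ∃ s : F, c = s • b
  B_surj : ∀ b, b ≠ 0 → ∀ f, ∃ c, B b c = f
  N_add : ∀ b c, N (b + c) = N b + N c + B b c
  N_smul : ∀ (s : F) b, N (s • b) = s ^ 2 * N b
  N_surj : ∀ f, ∃ b, N b = f

/-- The input of BETA level. -/
structure Core {G : Type u} [Group G] {F T : Type*} [Field F] [AddCommGroup T] [Module F T]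
    (S V R Q X : Subgroup G) (e : F → T → F → G) (N : T → F) (B : T → T → F) : Prop where
  form : Form F T N B
  e_add : ∀ a b d a' b' d', e (a + a') (b + b') (d + d') = e a b d * e a' b' d'
  e_inj : ∀ a b d, e a b d = 1 → a = 0 ∧ b = 0 ∧ d = 0
  e_mem : ∀ a b d, e a b d ∈ V
  e_surj : ∀ x ∈ V, ∃ a b d, e a b d = x
  R_iff : ∀ r, r ∈ R ↔ ∃ a, e a 0 0 = r
  E_le : ∀ a b, e a b 0 ∈ Q
  V_Q : ∀ a b d, e a b d ∈ Q → d = 0
  /-- `Q` acts on `V` as the group of all `u_c` -/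
  act : ∀ y ∈ Q, ∃ c, ∀ a b d, y * e a b d * y⁻¹ = e (a + B b c + N c * d) (b + d • c) d
  act_surj : ∀ c, ∃ y ∈ Q, ∀ a b d, y * e a b d * y⁻¹ = e (a + B b c + N c * d) (b + d • c) d
  Q_eq : Q = o2 (normalizer (R : Set G))
  Q_cen : Q ≤ centralizer (R : Set G)
  QQ : ∀ x ∈ Q, ∀ y ∈ Q, x * y * x⁻¹ * y⁻¹ ∈ R
  semi : ∀ w ∈ Q, w ∉ R → ∀ r ∈ R, ∃ n ∈ Q, n * w * n⁻¹ * w⁻¹ = r
  Q_gen : ∀ Y : Subgroup G, (∀ c ∈ normalizer (R : Set G), ∀ a b, c * e a b 0 * c⁻¹ ∈ Y) → Q ≤ Y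
  X_V : X ≤ normalizer (V : Set G)
  Q_X : Q ≤ X
  opp : ∀ b, N b ≠ 0 → ∃ n ∈ X, ∀ a y d, n * e a y d * n⁻¹ = e a (y + a • b) (d + B y b + N b * a)
  tran : ∀ r ∈ R, r ≠ 1 → ∀ r' ∈ R, r' ≠ 1 →
    ∃ n, n ∈ normalizer (V : Set G) ∧ n ∈ normalizer (R : Set G) ∧ n * r * n⁻¹ = r'
  /-- the Sylow group -/
  V_S : V ≤ S
  S_V : S ≤ normalizer (V : Set G)
  S_R : S ≤ normalizer (R : Set G)
  Z_R : zc S ≤ R
  triv : ∀ x ∈ S, (∀ v ∈ V, x * v * x⁻¹ * v⁻¹ ∈ Q) → x ∈ centralizer (R : Set G)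
  quo : ∀ x ∈ S, x ∈ centralizer (R : Set G) → ∀ v ∈ V, x * v * x⁻¹ * v⁻¹ ∈ Q
  two : ∀ s ∈ S, s ∈ centralizer (R : Set G) → ∀ t ∈ S, t ∈ centralizer (R : Set G) →
    (∃ y ∈ Q, s * y⁻¹ ∈ centralizer (V : Set G)) ∨ (∃ y ∈ Q, t * y⁻¹ ∈ centralizer (V : Set G)) ∨
      (∃ y ∈ Q, s * t * y⁻¹ ∈ centralizer (V : Set G))
  cenE : ∀ s ∈ S, (∀ a b, s * e a b 0 = e a b 0 * s) → s ∈ centralizer (V : Set G)
  /-- the torus, the swap -/
  bas : ∀ c, c ≠ 0 → ∃ k, (k ∈ centralizer (R : Set G) ∨ k ∈ S) ∧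
    ∀ b, ∃ (a : F) (f f' : F), e 0 b 0 = e a 0 0 * e 0 (f • c) 0 * (k * e 0 (f' • c) 0 * k⁻¹)
  ns : ∀ b, b ≠ 0 → N b ≠ 0 ∨ ∃ s ∈ S, ∀ a, ∃ a' b', s * e a b 0 * s⁻¹ = e a' b' 0 ∧ N (b + b') ≠ 0

namespace Form

variable {F T : Type*} [Field F] [AddCommGroup T] [Module F T] {N : T → F} {B : T → T → F} (h : Form F T N B)
include h

theorem T2 (b : T) : b + b = 0 := by
  have h1 : b + b = ((1 : F) + 1) • b := by rw [add_smul, one_smul]
  rw [h1, h.F2, zero_smul]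

theorem neg_F (a : F) : -a = a := by
  rw [neg_eq_iff_add_eq_zero]; exact h.F2 a

theorem neg_T (a : T) : -a = a := by
  rw [neg_eq_iff_add_eq_zero]; exact h.T2 a

theorem B_add' (b c c' : T) : B b (c + c') = B b c + B b c' := by
  rw [h.B_symm, h.B_add, h.B_symm c, h.B_symm c']

theorem B_smul' (s : F) (b c : T) : B b (s • c) = s * B b c := by
  rw [h.B_symm, h.B_smul, h.B_symm c]

theorem B_zero (b : T) : B b 0 = 0 := by
  have := h.B_smul' 0 b 0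
  rwa [zero_smul, zero_mul] at this

theorem zero_B (b : T) : B 0 b = 0 := by rw [h.B_symm, h.B_zero]

theorem N_zero : N 0 = 0 := by
  have := h.N_smul 0 0
  rwa [zero_smul, zero_pow two_ne_zero, zero_mul] at this

theorem ne_zero_of_N {b : T} (hb : N b ≠ 0) : b ≠ 0 := by
  rintro rfl
  exact hb h.N_zero

theorem exists_ne : ∃ b : T, N b = 1 ∧ b ≠ 0 := by
  obtain ⟨b, hb⟩ := h.N_surj 1
  exact ⟨b, hb, h.ne_zero_of_N (by rw [hb]; exact one_ne_zero)⟩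

end Form

/-! ### First facts -/

namespace Core

variable {G : Type u} [Group G] {F T : Type*} [Field F] [AddCommGroup T] [Module F T]
  {S V R Q X : Subgroup G} {e : F → T → F → G} {N : T → F} {B : T → T → F} (h : Core S V R Q X e N B)
include h

theorem e_zero : e 0 0 0 = 1 := by
  have := h.e_add 0 0 0 0 0 0
  simp only [add_zero] at this
  exact left_eq_mul.mp this

theorem e_comm (a b d a' b' d') : e a b d * e a' b' d' = e a' b' d' * e a b d := by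
  rw [← h.e_add, ← h.e_add, add_comm a, add_comm b, add_comm d]

theorem e_sq (a b d) : e a b d * e a b d = 1 := by
  rw [← h.e_add, h.form.F2, h.form.F2, h.form.T2, h.e_zero]

theorem e_inv (a b d) : (e a b d)⁻¹ = e a b d := by
  rw [inv_eq_iff_mul_eq_one]; exact h.e_sq a b d

/-- `e` is injective -/
theorem e_eq {a b d a' b' d'} (h1 : e a b d = e a' b' d') : a = a' ∧ b = b' ∧ d = d' := by
  have h2 : e (a + a') (b + b') (d + d') = 1 := by rw [h.e_add, h1, h.e_sq]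
  obtain ⟨h3, h4, h5⟩ := h.e_inj _ _ _ h2
  refine ⟨?_, ?_, ?_⟩
  · rw [← h.form.neg_F a']; exact eq_neg_of_add_eq_zero_left h3
  · rw [← h.form.neg_T b']; exact eq_neg_of_add_eq_zero_left h4
  · rw [← h.form.neg_F d']; exact eq_neg_of_add_eq_zero_left h5

theorem V_comm {x y : G} (hx : x ∈ V) (hy : y ∈ V) : x * y = y * x := by
  obtain ⟨a, b, d, rfl⟩ := h.e_surj x hx
  obtain ⟨a', b', d', rfl⟩ := h.e_surj y hy
  exact h.e_comm _ _ _ _ _ _

theorem V_sq {x : G} (hx : x ∈ V) : x * x = 1 := by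
  obtain ⟨a, b, d, rfl⟩ := h.e_surj x hx
  exact h.e_sq _ _ _

theorem R_V : R ≤ V := by
  intro r hr
  obtain ⟨a, rfl⟩ := (h.R_iff r).1 hr
  exact h.e_mem _ _ _

theorem R_Q : R ≤ Q := by
  intro r hr
  obtain ⟨a, rfl⟩ := (h.R_iff r).1 hr
  exact h.E_le _ _

theorem e_R (a : F) : e a 0 0 ∈ R := (h.R_iff _).2 ⟨a, rfl⟩

/-- `e a b d ∈ R` -/
theorem of_mem_R {a b d} (h1 : e a b d ∈ R) : b = 0 ∧ d = 0 := by
  obtain ⟨a', h2⟩ := (h.R_iff _).1 h1
  obtain ⟨-, h3, h4⟩ := h.e_eq h2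
  exact ⟨h3.symm, h4.symm⟩

theorem mem_E {x : G} (hx : x ∈ V) (hxQ : x ∈ Q) : ∃ a b, e a b 0 = x := by
  obtain ⟨a, b, d, rfl⟩ := h.e_surj x hx
  obtain rfl := h.V_Q a b d hxQ
  exact ⟨a, b, rfl⟩

theorem V_cenR : V ≤ centralizer (R : Set G) := by
  intro v hv
  rw [mem_centralizer_iff]
  exact fun r hr => h.V_comm (h.R_V hr) hv

theorem cenR_norm : centralizer (R : Set G) ≤ normalizer (R : Set G) := by
  have _ := h
  exact centralizer_le_normalizer _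

theorem Q_nor {c : G} (hc : c ∈ normalizer (R : Set G)) {y : G} (hy : y ∈ Q) : c * y * c⁻¹ ∈ Q := by
  have h1 := MinSimple.VModule.le_normalizer_o2 (normalizer (R : Set G)) hc
  rw [← h.Q_eq] at h1
  exact (mem_normalizer_iff.1 h1 y).1 hy

theorem Q_nor' {c : G} (hc : c ∈ normalizer (R : Set G)) {y : G} (hy : y ∈ Q) : c⁻¹ * y * c ∈ Q := by
  have := h.Q_nor (inv_mem hc) hy
  rwa [inv_inv] at this

theorem Q_le_norm : normalizer (R : Set G) ≤ normalizer (Q : Set G) := by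
  intro c hc
  rw [mem_normalizer_iff]
  intro y
  refine ⟨h.Q_nor hc, fun hy => ?_⟩
  have := h.Q_nor' hc hy
  have e1 : c⁻¹ * (c * y * c⁻¹) * c = y := by group
  rwa [e1] at this

theorem V_nor {c : G} (hc : c ∈ normalizer (V : Set G)) {y : G} (hy : y ∈ V) : c * y * c⁻¹ ∈ V := by
  have _ := h
  exact (mem_normalizer_iff.1 hc y).1 hy

theorem V_nor' {c : G} (hc : c ∈ normalizer (V : Set G)) {y : G} (hy : y ∈ V) : c⁻¹ * y * c ∈ V := by
  have := h.V_nor (inv_mem hc) hy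
  rwa [inv_inv] at this

theorem R_nor {c : G} (hc : c ∈ normalizer (R : Set G)) {y : G} (hy : y ∈ R) : c * y * c⁻¹ ∈ R := by
  have _ := h
  exact (mem_normalizer_iff.1 hc y).1 hy

theorem R_nor' {c : G} (hc : c ∈ normalizer (R : Set G)) {y : G} (hy : y ∈ R) : c⁻¹ * y * c ∈ R := by
  have := h.R_nor (inv_mem hc) hy
  rwa [inv_inv] at this

/-- `C_G(V) ≤ C_G(R)` -/
theorem cenV_cenR : centralizer (V : Set G) ≤ centralizer (R : Set G) := centralizer_le h.R_V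

theorem Q_S [Finite G] (hS : ∀ U : Subgroup G, IsPGroup 2 U → S ≤ normalizer (U : Set G) → U ≤ S) : Q ≤ S := by
  apply hS Q
  · rw [h.Q_eq]; exact MinSimple.VModule.o2_isPGroup _
  · exact h.S_R.trans h.Q_le_norm

/-- the centre of `Q` -/
theorem mem_R_of_cen {w : G} (hw : w ∈ Q) (hc : ∀ y ∈ Q, y * w = w * y) : w ∈ R := by
  by_contra hwR
  have h1 : e 1 0 0 ≠ 1 := by
    intro h0
    exact one_ne_zero (h.e_inj _ _ _ h0).1
  obtain ⟨n, hn, h2⟩ := h.semi w hw hwR _ (h.e_R 1)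
  rw [hc n hn] at h2
  apply h1
  rw [← h2]
  group

/-- `N(Q) ≤ N(R)` -/
theorem norm_Q_le : normalizer (Q : Set G) ≤ normalizer (R : Set G) := by
  have key : ∀ c ∈ normalizer (Q : Set G), ∀ r ∈ R, c * r * c⁻¹ ∈ R := by
    intro c hc r hr
    apply h.mem_R_of_cen ((mem_normalizer_iff.1 hc r).1 (h.R_Q hr))
    intro y hy
    have h1 : c⁻¹ * y * c ∈ Q := by
      have := (mem_normalizer_iff.1 (inv_mem hc) y).1 hy
      rwa [inv_inv] at this
    have h2 := (mem_centralizer_iff.1 (h.Q_cen h1)) r hr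
    calc y * (c * r * c⁻¹) = c * (c⁻¹ * y * c * r) * c⁻¹ := by group
      _ = c * (r * (c⁻¹ * y * c)) * c⁻¹ := by rw [h2]
      _ = c * r * c⁻¹ * y := by group
  intro c hc
  rw [mem_normalizer_iff]
  intro r
  refine ⟨key c hc r, fun hr => ?_⟩
  have := key c⁻¹ (inv_mem hc) _ hr
  have e1 : c⁻¹ * (c * r * c⁻¹) * c⁻¹⁻¹ = r := by group
  rwa [e1] at this

/-- elements of `V` outside `Q` -/
theorem exists_not_Q : e 0 0 1 ∉ Q := fun h1 => one_ne_zero (h.V_Q _ _ _ h1)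

/-- `w ∈ Q` which acts on `V` as `u_c`, and `[w, v] ∈ R` for one `v ∉ Q`: `c = 0`. -/
theorem cenV_of_comm {w : G} (hw : w ∈ Q) {v : G} (hv : v ∈ V) (hvQ : v ∉ Q) (h1 : w * v * w⁻¹ * v⁻¹ ∈ R) :
    w ∈ centralizer (V : Set G) := by
  obtain ⟨c, hc⟩ := h.act w hw
  obtain ⟨a, b, d, rfl⟩ := h.e_surj v hv
  have hd : d ≠ 0 := by
    rintro rfl
    exact hvQ (h.E_le _ _)
  rw [hc, h.e_inv, ← h.e_add] at h1
  obtain ⟨h2, -⟩ := h.of_mem_R h1
  have h3 : d • c = 0 := by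
    have : b + d • c + b = d • c := by
      rw [add_comm b, add_assoc, h.form.T2, add_zero]
    rwa [this] at h2
  have h4 : c = 0 := (smul_eq_zero.1 h3).resolve_left hd
  subst h4
  rw [mem_centralizer_iff]
  intro x hx
  obtain ⟨a', b', d', rfl⟩ := h.e_surj x hx
  have h5 := hc a' b' d'
  rw [h.form.B_zero, h.form.N_zero, smul_zero, zero_mul, add_zero, add_zero, add_zero] at h5
  calc e a' b' d' * w = (w * e a' b' d' * w⁻¹) * w := by rw [h5]
    _ = w * e a' b' d' := by group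

/-- `w ∈ Q` centralising `V ∩ Q` centralises `V`. -/
theorem cenV_of_cenE {w : G} (hw : w ∈ Q) (h1 : ∀ b, w * e 0 b 0 = e 0 b 0 * w) : w ∈ centralizer (V : Set G) := by
  obtain ⟨c, hc⟩ := h.act w hw
  have h4 : c = 0 := by
    by_contra hc0
    obtain ⟨b, hb⟩ := h.form.B_surj c hc0 1
    have h2 := hc 0 b 0
    have h3 : w * e 0 b 0 * w⁻¹ = e 0 b 0 := by rw [h1]; group
    rw [h3] at h2
    obtain ⟨h5, -, -⟩ := h.e_eq h2
    rw [mul_zero, add_zero, zero_add, h.form.B_symm, hb] at h5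
    exact one_ne_zero h5.symm
  subst h4
  rw [mem_centralizer_iff]
  intro x hx
  obtain ⟨a', b', d', rfl⟩ := h.e_surj x hx
  have h5 := hc a' b' d'
  rw [h.form.B_zero, h.form.N_zero, smul_zero, zero_mul, add_zero, add_zero, add_zero] at h5
  calc e a' b' d' * w = (w * e a' b' d' * w⁻¹) * w := by rw [h5]
    _ = w * e a' b' d' := by group

end Core

end Cfsg.Agent.Omega.All.NOne
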