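import Mathlib

/-!
# Counting characters

`card_le_index` : pairwise different characters `H → {±1}` trivial on a subgroup `K` are at most `|H : K|` many.
-/

set_option autoImplicit false

namespace Cfsg.Agent.Omega.All.NOne

open Subgroup

/-- The number of pairwise different characters `H → {±1}` trivial on `K` is at most `|H : K|`. -/
theorem card_le_index {H : Type*} [Group H] [Finite H] (K : Subgroup H) {ι : Type*} [Finite ι]
    (χ : ι → H →* ℤˣ) (hinj : Function.Injective χ) (hK : ∀ i, ∀ k ∈ K, χ i k = 1) :
    Nat.card ι ≤ K.index := by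
  classical
  let j : ℤˣ →* ℚ := (Int.castRingHom ℚ : ℤ →+* ℚ).toMonoidHom.comp (Units.coeHom ℤ)
  have hj : Function.Injective j := by
    intro a b hab
    apply Units.ext
    exact_mod_cast (show ((a : ℤ) : ℚ) = ((b : ℤ) : ℚ) from hab)
  let f : ι → H →* ℚ := fun i => j.comp (χ i)
  have hf : Function.Injective f := by
    intro a b hab
    apply hinj
    ext1 x
    exact hj (DFunLike.congr_fun hab x)
  -- the functions on `H / K`
  let g : ι → (H ⧸ K) → ℚ := fun i => Quotient.lift (fun x => f i x) (by
    intro a b hab
    have h1 : a⁻¹ * b ∈ K := QuotientGroup.leftRel_apply.1 hab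
    have h2 : b = a * (a⁻¹ * b) := by group
    rw [h2, map_mul]
    have h3 : f i (a⁻¹ * b) = 1 := by
      change j (χ i (a⁻¹ * b)) = 1
      rw [hK i _ h1, map_one]
    rw [h3, mul_one])
  let L : ((H ⧸ K) → ℚ) →ₗ[ℚ] (H → ℚ) := LinearMap.funLeft ℚ ℚ (QuotientGroup.mk : H → H ⧸ K)
  have hL : ∀ i, L (g i) = (f i : H → ℚ) := fun i => rfl
  have h1 : LinearIndependent ℚ (fun i => (f i : H → ℚ)) :=
    (linearIndependent_monoidHom H ℚ).comp f hf
  have h2 : LinearIndependent ℚ g := by
    apply LinearIndependent.of_comp L
    exact h1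
  have : Fintype ι := Fintype.ofFinite ι
  have : Fintype (H ⧸ K) := Fintype.ofFinite _
  have h3 := h2.fintype_card_le_finrank
  rw [Module.finrank_fintype_fun_eq_card] at h3
  rw [Subgroup.index, Nat.card_eq_fintype_card, Nat.card_eq_fintype_card]
  exact h3

/-- A nontrivial elementary abelian 2-group (as a subgroup) has a character with values `±1` onto. -/
theorem exists_char {G : Type*} [Group G] [Finite G] (R : Subgroup G) (hc : ∀ x ∈ R, ∀ y ∈ R, x * y = y * x)
    (h2 : ∀ x ∈ R, x * x = 1) {r : G} (hr : r ∈ R) (hr1 : r ≠ 1) : ∃ l : R →* ℤˣ, l ⟨r, hr⟩ = -1 := by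
  classical
  -- a subgroup of `R` maximal with respect to not containing `r`
  let s : Set (Subgroup R) := {M | (⟨r, hr⟩ : R) ∉ M}
  have hs : s.Nonempty := ⟨⊥, by
    change (⟨r, hr⟩ : R) ∉ (⊥ : Subgroup R)
    rw [Subgroup.mem_bot]
    exact fun h => hr1 (congrArg Subtype.val h)⟩
  obtain ⟨M, hM⟩ := (Set.toFinite s).exists_maximal hs
  have key : ∀ x : R, x ∈ M ∨ x * ⟨r, hr⟩ ∈ M := by
    intro x
    by_cases hx : x ∈ M
    · exact Or.inl hx
    right
    -- `M ∪ M x`
    let M' : Subgroup R :=
      { carrier := {y | y ∈ M ∨ y * x ∈ M}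
        mul_mem' := by
          rintro a b (ha | ha) (hb | hb)
          · exact Or.inl (mul_mem ha hb)
          · right
            rw [mul_assoc]; exact mul_mem ha hb
          · right
            have : a * b * x = a * x * b := by
              apply Subtype.ext
              change (a : G) * b * x = a * x * b
              rw [mul_assoc, hc _ b.2 _ x.2, mul_assoc]
            rw [this]; exact mul_mem ha hb
          · left
            have : a * b = a * x * (b * x) := by
              apply Subtype.ext
              change (a : G) * b = a * x * (b * x)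
              calc (a : G) * b = a * b * (x * x) := by rw [h2 _ x.2, mul_one]
                _ = a * (b * x) * x := by group
                _ = a * (x * b) * x := by rw [hc _ b.2 _ x.2]
                _ = a * x * (b * x) := by group
            rw [this]; exact mul_mem ha hb
        one_mem' := Or.inl (one_mem _)
        inv_mem' := by
          have hi : ∀ a : R, a⁻¹ = a := by
            intro a
            rw [inv_eq_iff_mul_eq_one]
            exact Subtype.ext (h2 _ a.2)
          intro a ha
          rw [hi a]; exact ha }
    have hle : M ≤ M' := fun y hy => Or.inl hy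
    have hxM' : x ∈ M' := Or.inr (by
      have : x * x = 1 := Subtype.ext (h2 _ x.2)
      rw [this]; exact one_mem _)
    have hM' : (⟨r, hr⟩ : R) ∈ M' := by
      by_contra hcon
      exact hx (hM.le_of_ge hcon hle hxM')
    rcases hM' with h3 | h3
    · exact absurd h3 hM.prop
    · have : x * ⟨r, hr⟩ = ⟨r, hr⟩ * x := Subtype.ext (hc _ x.2 _ hr)
      rw [this]; exact h3
  have hrM : (⟨r, hr⟩ : R) ∉ M := hM.prop
  let l : R →* ℤˣ := MonoidHom.mk' (fun x => if x ∈ M then 1 else -1) (by
    intro a b
    by_cases ha : a ∈ M
    · by_cases hb : b ∈ M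
      · simp [ha, hb, mul_mem ha hb]
      · have : a * b ∉ M := fun h => hb ((Subgroup.mul_mem_cancel_left M ha).1 h)
        simp [ha, hb, this]
    · by_cases hb : b ∈ M
      · have : a * b ∉ M := fun h => ha ((Subgroup.mul_mem_cancel_right M hb).1 h)
        simp [ha, hb, this]
      · have h1 := (key a).resolve_left ha
        have h3 := (key b).resolve_left hb
        have : a * b ∈ M := by
          have h4 := mul_mem h1 h3
          have h5 : a * ⟨r, hr⟩ * (b * ⟨r, hr⟩) = a * b := by
            apply Subtype.ext
            change (a : G) * r * (b * r) = a * b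
            calc (a : G) * r * (b * r) = a * (r * b) * r := by group
              _ = a * (b * r) * r := by rw [hc _ hr _ b.2]
              _ = a * b * (r * r) := by group
              _ = a * b := by rw [h2 _ hr, mul_one]
          rwa [h5] at h4
        simp [ha, hb, this])
  refine ⟨l, ?_⟩
  change (if (⟨r, hr⟩ : R) ∈ M then (1 : ℤˣ) else -1) = -1
  rw [if_neg hrM]

end Cfsg.Agent.Omega.All.NOne
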