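import Cfsg.Agent.Omega.All.NOne.Small
import Cfsg.Agent.Omega.NatPair.NormExc
import Cfsg.Agent.Omega.NO1.Types

/-!
# THEOREM ALL-N1: the type `Nat4` does not coexist with `Core` (bb #16847 (4), helper983, helper940)

`V' = zl S P = F₄²`, `V' ≰ Q`: the transvections of `SL₂(4)` fixing `Z` normalise `R` (TI), so `R` is the `F₄`-point
of `Z`; the torus normalises `R`, `Q` and `V' ∩ Q`, so `V' ≤ Q`.
-/

set_option autoImplicit false
set_option linter.unusedSectionVars false

namespace Cfsg.Agent.Omega.All.NOne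

open Subgroup Cfsg Cfsg.Agent.ZN Cfsg.Agent.Omega.MinPar
open Cfsg.Agent.Omega.FrameFF (NatOver)
open Cfsg.Agent.Omega.NatPair (ap dt dt_add dt_smul exists_smul_of_dt exists_comb)

universe u

variable {G : Type u} [Group G]

/-- `NatOver`, `D = 1`: `e` is injective on `V`. -/
theorem natOver_inj {F : Type} [Field F] {N V : Subgroup G} (M : NatOver F N V ⊥) {v w : G} (hv : v ∈ V)
    (hw : w ∈ V) (h : M.e v = M.e w) : v = w := by
  have h1 : M.e 1 = 0 := (M.ker 1 (one_mem V)).2 (one_mem _)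
  have h2 : M.e w + M.e w⁻¹ = 0 := by
    rw [← M.mul w hw _ (inv_mem hw), mul_inv_cancel, h1]
  have h3 : M.e (v * w⁻¹) = 0 := by
    rw [M.mul v hv _ (inv_mem hw), h, h2]
  have h4 := (M.ker _ (mul_mem hv (inv_mem hw))).1 h3
  rw [mem_bot] at h4
  exact mul_inv_eq_one.1 h4

/-- `|V| = |F|²` -/
theorem natOver_card {F : Type} [Field F] [Finite F] {N V : Subgroup G} (M : NatOver F N V ⊥) :
    Nat.card V = Nat.card F ^ 2 := by
  have h1 : Function.Bijective (fun v : V => M.e v.1) := by
    constructor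
    · intro v w hvw
      exact Subtype.ext (natOver_inj M v.2 w.2 hvw)
    · intro x
      obtain ⟨v, hv, h⟩ := M.surj x
      exact ⟨⟨v, hv⟩, h⟩
  rw [Nat.card_congr (Equiv.ofBijective _ h1), Nat.card_fun, Nat.card_eq_fintype_card (α := Fin 2),
    Fintype.card_fin]

namespace Core

variable {F T : Type*} [Field F] [AddCommGroup T] [Module F T]
  {V R Q X : Subgroup G} {e : F → T → F → G} {N : T → F} {B : T → T → F}

variable [Finite G] (S : Sylow 2 G) (h : Core (S : Subgroup G) V R Q X e N B) (hG : IsCharacteristicTwoType G)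
  (hZ : zc (S : Subgroup G) ≠ ⊥)
include h hG hZ

/-- another `P' ∈ P*(S)` is not of type `Nat4` (unless `V_P' ≤ Q`) -/
theorem not_nat4 {P : Subgroup G} (hP : IsParS (S : Subgroup G) P) (h4 : NO1.Nat4 (S : Subgroup G) P)
    (hPQ : ¬ zl (S : Subgroup G) P ≤ Q) : False := by
  obtain ⟨F', iF, iFin, iCh, hc4, ⟨M⟩⟩ := h4.nat
  set W := zl (S : Subgroup G) P with hW
  have hPW : P ≤ normalizer (W : Set G) := le_normalizer_zl _ _
  have hSW : (S : Subgroup G) ≤ normalizer (W : Set G) := hP.isLoc.le.trans hPW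
  have hWS : W ≤ (S : Subgroup G) :=
    (hP.isLoc.zl_le S hG).trans ((zc_le _).trans (hP.isLoc.o2_le S))
  have hWc : Nat.card W = 16 := by rw [natOver_card M, hc4]; norm_num
  have hR4 : Nat.card R = 4 := h.card_R_of S hG hZ hWS hSW hPQ hWc
  obtain ⟨hRW, w, hwW, hwQ, hwR⟩ := h.R_le_of S hG hZ hWS hSW hPQ
  obtain ⟨z, hz1⟩ := Subgroup.ne_bot_iff_exists_ne_one.1 hZ
  have hz1' : (z : G) ≠ 1 := fun h0 => hz1 (Subtype.ext h0)
  have hzR : (z : G) ∈ R := h.Z_R z.2
  have hzW : (z : G) ∈ W := hRW hzR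
  have hPc : ∀ {g v : G}, g ∈ P → v ∈ W → g * v * g⁻¹ ∈ W := fun hg hv =>
    (mem_normalizer_iff.1 (hPW hg) _).1 hv
  set x0 := M.e z with hx0
  have hx0n : x0 ≠ 0 := by
    intro h0
    have h1 := (M.ker z hzW).1 h0
    exact hz1' ((mem_bot).1 h1)
  have hdd : dt x0 x0 = 0 := by unfold dt; ring
  have finF : Finite (Option F') := inferInstance
  have hO : Nat.card (Option F') = 5 := by rw [Finite.card_option, hc4]
  -- `e a ∈ F' x0` for `a ∈ R`
  have claim1 : ∀ a ∈ R, dt x0 (M.e a) = 0 := by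
    intro a ha
    by_contra hd
    have h1 : ∀ c : F', ∃ r ∈ R, M.e r = M.e a + c • x0 := by
      intro c
      have h2 : dt x0 (M.e a + c • x0) = dt x0 (M.e a) := by
        rw [dt_add, dt_smul, hdd, mul_zero, add_zero]
      obtain ⟨A, hA1, hA2⟩ := NatPair.NormExc.exists_ap2 hd h2
      obtain ⟨g, hg, hg', -⟩ := M.lift A
      have h3 : g * z * g⁻¹ = z := by
        apply natOver_inj M (hPc hg hzW) hzW
        rw [hg' z hzW, ← hx0, hA1]
      have h4 : g ∈ normalizer (R : Set G) := by
        apply h.ti S hG hZ hzR hz1'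
        rw [h3]; exact hzR
      exact ⟨g * a * g⁻¹, h.R_nor h4 ha, by rw [hg' a (hRW ha), hA2]⟩
    choose r hr hr' using h1
    let f : Option F' → R := fun o => o.elim ⟨1, one_mem _⟩ fun c => ⟨r c, hr c⟩
    have hf : Function.Injective f := by
      have hne : ∀ c, r c ≠ 1 := by
        intro c h0
        apply hd
        have h5 := hr' c
        rw [h0, (M.ker 1 (one_mem _)).2 (one_mem _)] at h5
        have h6 : dt x0 (M.e a + c • x0) = dt x0 (M.e a) := by
          rw [dt_add, dt_smul, hdd, mul_zero, add_zero]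
        rw [← h6, ← h5]
        unfold dt; simp
      intro o o' hoo
      rcases o with _ | c <;> rcases o' with _ | c'
      · rfl
      · exact absurd (congrArg Subtype.val hoo).symm (hne c')
      · exact absurd (congrArg Subtype.val hoo) (hne c)
      · have h5 : r c = r c' := congrArg Subtype.val hoo
        have h6 : c • x0 = c' • x0 := by
          have h7 := hr' c
          rw [h5, hr' c'] at h7
          exact (add_left_cancel h7).symm
        rw [smul_left_injective F' hx0n h6]
    have := Nat.card_le_card_of_injective f hf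
    rw [hO, hR4] at this
    omega
  -- `R` is the whole point
  have claim2 : ∀ v ∈ W, dt x0 (M.e v) = 0 → v ∈ R := by
    intro v hv hd
    by_contra hvR
    have h1 : ∀ o : Option R, ∃ c : F', (o.elim (M.e v) fun a => M.e a) = c • x0 := by
      intro o
      apply exists_smul_of_dt hx0n
      rcases o with _ | a
      · exact hd
      · exact claim1 a a.2
    choose c hc using h1
    have hf : Function.Injective c := by
      intro o o' hoo
      have h2 := hc o
      rw [hoo, ← hc o'] at h2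
      rcases o with _ | a <;> rcases o' with _ | a'
      · rfl
      · exact absurd (by rw [natOver_inj M hv (hRW a'.2) h2]; exact a'.2) hvR
      · exact absurd (by rw [← natOver_inj M (hRW a.2) hv h2]; exact a.2) hvR
      · rw [Subtype.ext (natOver_inj M (hRW a.2) (hRW a'.2) h2)]
    have h3 := Nat.card_le_card_of_injective c hf
    rw [Finite.card_option, hR4, hc4] at h3
    omega
  -- the torus
  set y0 := M.e w with hy0
  have hd : dt x0 y0 ≠ 0 := fun h0 => hwR (claim2 w hwW h0)
  obtain ⟨l, hl0, hl1⟩ : ∃ l : F', l ≠ 0 ∧ l ≠ 1 := by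
    by_contra hcon
    push Not at hcon
    classical
    have h1 : Function.Injective (fun x : F' => decide (x = 0)) := by
      intro x y hxy
      replace hxy : (x = 0) ↔ (y = 0) := decide_eq_decide.1 hxy
      by_cases hx : x = 0
      · rw [hx, hxy.1 hx]
      · have hy : y ≠ 0 := fun h0 => hx (hxy.2 h0)
        rw [hcon x hx, hcon y hy]
    have h2 := Nat.card_le_card_of_injective _ h1
    rw [hc4, Nat.card_eq_fintype_card, Fintype.card_bool] at h2
    omega
  have h2 : dt (l • x0) (l⁻¹ • y0) = dt x0 y0 := by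
    have : dt (l • x0) (l⁻¹ • y0) = l * l⁻¹ * dt x0 y0 := by
      unfold dt; simp only [Pi.smul_apply, smul_eq_mul]; ring
    rw [this, mul_inv_cancel₀ hl0, one_mul]
  obtain ⟨A, hA1, hA2⟩ := NatPair.NormExc.exists_ap2 hd h2
  obtain ⟨g, hg, hg', -⟩ := M.lift A
  have hgR : g ∈ normalizer (R : Set G) := by
    apply h.ti S hG hZ hzR hz1'
    apply claim2 _ (hPc hg hzW)
    rw [hg' z hzW, ← hx0, hA1, dt_smul, hdd, mul_zero]
  have hw2 : g * w * g⁻¹ ∈ W ⊓ Q := ⟨hPc hg hwW, h.Q_nor hgR hwQ⟩
  have hw2e : M.e (g * w * g⁻¹) = l⁻¹ • y0 := by rw [hg' w hwW, ← hy0, hA2]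
  -- all multiples of `y0`
  have hmul : ∀ c : F', ∃ v ∈ W ⊓ Q, M.e v = c • y0 := by
    have hlist : ∀ c : F', c = 0 ∨ c = 1 ∨ c = l⁻¹ ∨ c = 1 + l⁻¹ := by
      intro c
      have := Fintype.ofFinite F'
      classical
      have hli0 : l⁻¹ ≠ 0 := inv_ne_zero hl0
      have hli1 : l⁻¹ ≠ 1 := fun h0 => hl1 (inv_eq_one.1 h0)
      have e2 : ∀ x : F', x + x = 0 := fun x => CharTwo.add_self_eq_zero x
      have h7 : ({0, 1, l⁻¹, 1 + l⁻¹} : Finset F') = Finset.univ := by
        apply Finset.eq_univ_of_card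
        rw [← Nat.card_eq_fintype_card, hc4, Finset.card_insert_of_notMem, Finset.card_insert_of_notMem,
          Finset.card_insert_of_notMem, Finset.card_singleton]
        · rw [Finset.mem_singleton]
          intro h0
          exact one_ne_zero (right_eq_add.1 h0)
        · rw [Finset.mem_insert, Finset.mem_singleton]
          push Not
          exact ⟨hli1.symm, fun h0 => hli0 (left_eq_add.1 h0)⟩
        · rw [Finset.mem_insert, Finset.mem_insert, Finset.mem_singleton]
          push Not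
          refine ⟨zero_ne_one, hli0.symm, fun h0 => hli1 ?_⟩
          have h8 := e2 1
          calc l⁻¹ = 0 + l⁻¹ := by rw [zero_add]
            _ = (1 + 1) + l⁻¹ := by rw [h8]
            _ = 1 + (1 + l⁻¹) := by rw [add_assoc]
            _ = 1 := by rw [← h0, add_zero]
      have h8 : c ∈ ({0, 1, l⁻¹, 1 + l⁻¹} : Finset F') := by rw [h7]; exact Finset.mem_univ _
      rwa [Finset.mem_insert, Finset.mem_insert, Finset.mem_insert, Finset.mem_singleton] at h8
    have hwWQ : w ∈ W ⊓ Q := ⟨hwW, hwQ⟩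
    intro c
    rcases hlist c with rfl | rfl | rfl | rfl
    · exact ⟨1, one_mem _, by rw [zero_smul]; exact (M.ker 1 (one_mem _)).2 (one_mem _)⟩
    · exact ⟨w, hwWQ, by rw [one_smul]⟩
    · exact ⟨_, hw2, hw2e⟩
    · exact ⟨w * (g * w * g⁻¹), mul_mem hwWQ hw2, by rw [M.mul w hwW _ hw2.1, hw2e, add_smul, one_smul]⟩
  apply hPQ
  intro v hv
  obtain ⟨a, b, hab⟩ := exists_comb hd (M.e v)
  obtain ⟨v1, hv1, hv1e⟩ := M.surj (a • x0)
  obtain ⟨v2, hv2, hv2e⟩ := hmul b
  have hv1R : v1 ∈ R := by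
    apply claim2 v1 hv1
    rw [hv1e, dt_smul, hdd, mul_zero]
  have h5 : v = v1 * v2 := by
    apply natOver_inj M hv (mul_mem hv1 hv2.1)
    rw [M.mul v1 hv1 v2 hv2.1, hv1e, hv2e, hab]
  rw [h5]
  exact mul_mem (h.R_Q hv1R) hv2.2

end Core

end Cfsg.Agent.Omega.All.NOne
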