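import Cfsg.Agent.Omega.All.NOne.Main
import Cfsg.Agent.Omega.All.Main

/-!
# THEOREM ALL-N1 (bb #15220), consequence for the frame

* `sup_eq_top` : in case `Full S`, `G = ⟨N_G(R), N_G(V)⟩`.
-/

set_option autoImplicit false

namespace Cfsg.Agent.Omega.All.NOne

open Subgroup Cfsg Cfsg.Agent.ZN Cfsg.Agent.Omega.MinPar Cfsg.Agent.Omega.Frame
open Cfsg.Agent.MinSimple.VModule (normalizer_le_normalizer_zc)
open Cfsg.Agent.Omega.FrameNOFF (CZ)

universe u

variable {G : Type u} [Group G] [Finite G]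

/-- **THEOREM ALL-N1**: `G = ⟨N_G(R), N_G(V)⟩`. -/
theorem sup_eq_top {F T : Type*} [Field F] [AddCommGroup T] [Module F T]
    {V R Q X D : Subgroup G} {e : F → T → F → G} {N : T → F} {B : T → T → F}
    (S : Sylow 2 G) (h : Core (S : Subgroup G) V R Q X e N B) (hG : IsCharacteristicTwoType G)
    (hZ : zc (S : Subgroup G) ≠ ⊥) (E : Ext (S : Subgroup G) V R Q D e)
    (hty : ∀ P : Subgroup G, IsParS (S : Subgroup G) P →
      ¬ zl (S : Subgroup G) P ≤ o2 (CZ (S : Subgroup G)) →
      ∃ (F' T' : Type) (_ : Field F') (_ : AddCommGroup T') (_ : Module F' T') (R' Q' X' : Subgroup G)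
        (e' : F' → T' → F' → G) (N' : T' → F') (B' : T' → T' → F'),
        Core (S : Subgroup G) (zl (S : Subgroup G) P) R' Q' X' e' N' B')
    (hF : Full (S : Subgroup G)) : normalizer (R : Set G) ⊔ normalizer (V : Set G) = ⊤ := by
  apply eq_top_of_par S hF
  · exact ((normalizer_le_normalizer_zc _).trans (h.normalizer_zc_le S hG hZ)).trans le_sup_left
  · intro P hP
    rcases h.par_le S hG hZ E hty hP with h | h
    · exact h.trans le_sup_left
    · exact h.trans le_sup_right

end Cfsg.Agent.Omega.All.NOne
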