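import Cfsg.Agent.Omega.All.NOne.Conj
import Cfsg.Agent.Omega.All.NOne.Count

/-!
# THEOREM ALL-N1 (bb #15220): LEMMA W

* `Core.lemW` : there is no conjugate `cj g R = F x ≤ V`, `x` nonsingular, with `R ≤ cj g Q`;
* `Core.mx` : `N_G(V)` permutes the singular points of `V`.
-/

set_option autoImplicit false
set_option linter.unusedSectionVars false

namespace Cfsg.Agent.Omega.All.NOne

open Subgroup Cfsg Cfsg.Agent.ZN Cfsg.Agent.Omega.MinPar

universe u

variable {G : Type u} [Group G]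

/-- a 2-subgroup of `K ≥ S` lies in a conjugate of `S` under `K` -/
theorem exists_conj_sylow [Finite G] {K : Subgroup G} (S : Sylow 2 G) (hS : (S : Subgroup G) ≤ K) {A : Subgroup G}
    (hA : IsPGroup 2 A) (hAK : A ≤ K) : ∃ n ∈ K, ∀ a ∈ A, n⁻¹ * a * n ∈ (S : Subgroup G) := by
  have : Fact (Nat.Prime 2) := ⟨Nat.prime_two⟩
  obtain ⟨Q, hQ⟩ := (hA.comap_of_injective K.subtype K.subtype_injective : IsPGroup 2 (A.subgroupOf K)).exists_le_sylow
  obtain ⟨n, hn⟩ := MulAction.exists_smul_eq K (S.subtype hS) Q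
  refine ⟨n, n.2, fun a ha => ?_⟩
  have h1 : (⟨a, hAK ha⟩ : K) ∈ (Q : Subgroup K) := hQ (mem_subgroupOf.2 ha)
  rw [← hn] at h1
  have h2 : (n⁻¹ * ⟨a, hAK ha⟩ * n : K) ∈ ((S.subtype hS : Sylow 2 K) : Subgroup K) := by
    have h3 := Subgroup.mem_pointwise_smul_iff_inv_smul_mem.1 h1
    rw [← map_inv, MulAut.smul_def, MulAut.conj_apply, inv_inv] at h3
    exact h3
  exact h2

/-- `K₀ ≤ K₁`, no two elements `a`, `b` of `K₁` with `a, b, a b ∉ K₀`: the index is at most 2. -/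
theorem relIndex_le_two {H : Type*} [Group H] [Finite H] {K₀ K₁ : Subgroup H}
    (h : ∀ a ∈ K₁, ∀ b ∈ K₁, a ∈ K₀ ∨ b ∈ K₀ ∨ a * b ∈ K₀) : K₀.relIndex K₁ ≤ 2 := by
  classical
  by_cases h1 : K₁ ≤ K₀
  · rw [relIndex_eq_one.2 h1]; norm_num
  obtain ⟨y, hy, hy0⟩ := SetLike.not_le_iff_exists.1 h1
  rw [relIndex, Subgroup.index]
  have h2 : Function.Surjective (fun b : Bool => (QuotientGroup.mk (if b then ⟨y, hy⟩ else 1) : K₁ ⧸ K₀.subgroupOf K₁)) := by
    intro q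
    obtain ⟨x, rfl⟩ := QuotientGroup.mk_surjective q
    by_cases hx : (x : H) ∈ K₀
    · refine ⟨false, ?_⟩
      rw [QuotientGroup.eq]
      simpa [mem_subgroupOf] using hx
    · refine ⟨true, ?_⟩
      rw [QuotientGroup.eq]
      have h3 := h y⁻¹ (inv_mem hy) x x.2
      rcases h3 with h3 | h3 | h3
      · exact absurd (by simpa using inv_mem h3) hy0
      · exact absurd h3 hx
      · simpa [mem_subgroupOf] using h3
  have h3 := Nat.card_le_card_of_surjective _ h2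
  simpa using h3

namespace Core

variable {F T : Type*} [Field F] [AddCommGroup T] [Module F T]
  {V R Q X : Subgroup G} {e : F → T → F → G} {N : T → F} {B : T → T → F}

variable [Finite G] (S : Sylow 2 G) (h : Core (S : Subgroup G) V R Q X e N B) (hG : IsCharacteristicTwoType G)
  (hZ : zc (S : Subgroup G) ≠ ⊥)
include h hG hZ

/-- **LEMMA W.** -/
theorem lemW {g : G} {b : T} (hb : N b ≠ 0) (hline : ∀ y, y ∈ cj g R ↔ ∃ s : F, e 0 (s • b) 0 = y)
    (hRQ : R ≤ cj g Q) : False := by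
  classical
  have hf := h.form
  have := h.finite_F
  have hb0 : b ≠ 0 := hf.ne_zero_of_N hb
  have hxR : ∀ s : F, e 0 (s • b) 0 ∈ cj g R := fun s => (hline _).2 ⟨s, rfl⟩
  have hx : e 0 b 0 ∈ cj g R := by
    have := hxR 1
    rwa [one_smul] at this
  have hx1 : e 0 b 0 ≠ 1 := fun h0 => hb0 (h.e_inj _ _ _ h0).2.1
  have hRQ' : ∀ r ∈ cj g R, r ∈ cj g Q := fun r hr => h.cj_R_Q hr
  -- `x^⊥ ≤ Q_x`
  obtain ⟨n, hn, hna⟩ := h.opp b hb
  have hnx : n * e 0 b 0 = e 0 b 0 * n := by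
    have h1 := hna 0 b 0
    rw [hf.B_self, mul_zero, zero_smul, add_zero, add_zero, add_zero] at h1
    calc n * e 0 b 0 = n * e 0 b 0 * n⁻¹ * n := by group
      _ = e 0 b 0 * n := by rw [h1]
  have hd : ∀ d, e 0 0 d ∈ cj g Q := by
    intro d
    set a := d / N b with ha
    have h1 : e a (a • b) d ∈ cj g Q := by
      have h2 := h.cen_cj_Q S hG hZ hx hx1 hnx (hRQ (h.e_R a))
      rw [hna, hf.zero_B, zero_add, zero_add, zero_add] at h2
      have h3 : N b * a = d := by rw [ha, mul_div_cancel₀ _ hb]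
      rwa [h3] at h2
    have h2 := mul_mem (mul_mem h1 (hRQ (h.e_R a))) (hRQ' _ (hxR a))
    rw [← h.e_add, ← h.e_add] at h2
    rwa [hf.F2, add_zero, add_zero, add_zero, hf.T2, add_zero] at h2
  have hperp : ∀ a (s : F) d, e a (s • b) d ∈ cj g Q := by
    intro a s d
    have h1 := mul_mem (mul_mem (hRQ (h.e_R a)) (hRQ' _ (hxR s))) (hd d)
    rw [← h.e_add, ← h.e_add] at h1
    rwa [add_zero, add_zero, zero_add, add_zero, zero_add, zero_add] at h1
  -- `Y = C_{Q_x}(R)` normalises `x^⊥`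
  have hYx : ∀ y ∈ cj g Q, ∀ a (s : F) d, ∃ s' : F, y * e a (s • b) d * y⁻¹ = e a (s' • b) d := by
    intro y hy a s d
    obtain ⟨t, ht⟩ := (hline _).1 (h.cj_QQ hy (hperp a s d))
    refine ⟨t + s, ?_⟩
    calc y * e a (s • b) d * y⁻¹ = (y * e a (s • b) d * y⁻¹ * (e a (s • b) d)⁻¹) * e a (s • b) d := by group
      _ = e 0 (t • b) 0 * e a (s • b) d := by rw [ht]
      _ = e a ((t + s) • b) d := by rw [← h.e_add, zero_add, zero_add, add_smul]
  have hYx1 : ∀ y ∈ cj g Q, ∀ a d, ∃ s' : F, y * e a 0 d * y⁻¹ = e a (s' • b) d := by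
    intro y hy a d
    have := hYx y hy a 0 d
    rwa [zero_smul] at this
  -- `Y ≤ N(V)`
  have hYV' : ∀ y ∈ cj g Q, y ∈ centralizer (R : Set G) → ∀ v ∈ V, y * v * y⁻¹ ∈ V := by
    intro y hy hyR v hv
    have hyN := h.cenR_norm hyR
    have hyr : ∀ a, y * e a 0 0 * y⁻¹ = e a 0 0 := by
      intro a
      rw [← (mem_centralizer_iff.1 hyR) _ (h.e_R a)]; group
    obtain ⟨a, c, d, rfl⟩ := h.e_surj v hv
    obtain ⟨q, hq, hqa⟩ := h.act_surj c
    have e1 : e a c d = q * e 0 0 1 * q⁻¹ * (e 0 0 1)⁻¹ * (e (a + N c) 0 0 * e 0 0 d) := by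
      rw [hqa, h.e_inv, ← h.e_add, ← h.e_add, ← h.e_add]
      have e2 : 0 + B 0 c + N c * 1 + 0 + (a + N c + 0) = a := by
        rw [hf.zero_B]
        linear_combination hf.F2 (N c)
      have e3 : 0 + (1 : F) • c + 0 + (0 + 0) = c := by rw [one_smul]; simp
      have e4 : 1 + 1 + (0 + d) = d := by rw [hf.F2]; simp
      rw [e2, e3, e4]
    have hq' : y * q * y⁻¹ ∈ Q := h.Q_nor hyN hq
    obtain ⟨s', hs'⟩ := hYx1 y hy 0 1
    obtain ⟨s'', hs''⟩ := hYx1 y hy 0 d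
    have hq'V : y * q * y⁻¹ ∈ normalizer (V : Set G) := h.X_V (h.Q_X hq')
    have e2 : y * e a c d * y⁻¹ = (y * q * y⁻¹) * (y * e 0 0 1 * y⁻¹) * (y * q * y⁻¹)⁻¹ * (y * e 0 0 1 * y⁻¹)⁻¹ *
        ((y * e (a + N c) 0 0 * y⁻¹) * (y * e 0 0 d * y⁻¹)) := by
      rw [e1]; group
    rw [e2, hs', hs'', hyr]
    exact mul_mem (mul_mem (h.V_nor hq'V (h.e_mem _ _ _)) (inv_mem (h.e_mem _ _ _)))
      (mul_mem (h.e_mem _ _ _) (h.e_mem _ _ _))
  let Y : Subgroup G := cj g Q ⊓ centralizer (R : Set G)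
  have hYV : Y ≤ normalizer (V : Set G) := by
    intro y hy
    apply mem_norm_of (hYV' y hy.1 hy.2)
    intro v hv
    have := hYV' y⁻¹ (inv_mem hy.1) (inv_mem hy.2) v hv
    rwa [inv_inv] at this
  -- Sylow
  have hYp : IsPGroup 2 Y := by
    have h1 : IsPGroup 2 (cj g Q) := by
      have h2 : IsPGroup 2 Q := by
        rw [h.Q_eq]; exact MinSimple.VModule.o2_isPGroup _
      exact h2.map _
    exact h1.to_le inf_le_left
  obtain ⟨m, hm, hmS⟩ := exists_conj_sylow (K := normalizer (V : Set G) ⊓ normalizer (R : Set G)) S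
    (le_inf h.S_V h.S_R) hYp (le_inf hYV (inf_le_right.trans h.cenR_norm))
  have hmR : ∀ y ∈ Y, m⁻¹ * y * m ∈ centralizer (R : Set G) := by
    intro y hy
    rw [mem_centralizer_iff]
    intro r hr
    have h1 := (mem_centralizer_iff.1 hy.2) _ (h.R_nor hm.2 hr)
    calc r * (m⁻¹ * y * m) = m⁻¹ * (m * r * m⁻¹ * y) * m := by group
      _ = m⁻¹ * (y * (m * r * m⁻¹)) * m := by rw [h1]
      _ = m⁻¹ * y * m * r := by group
  -- an element of `Y` acting as an element of `Q` centralises `V`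
  have key : ∀ y ∈ Y, (∃ q ∈ Q, m⁻¹ * y * m * q⁻¹ ∈ centralizer (V : Set G)) → y ∈ centralizer (V : Set G) := by
    rintro y hy ⟨q, hq, hqV⟩
    have hq' : m * q * m⁻¹ ∈ Q := h.Q_nor hm.2 hq
    have h1 : y * (m * q * m⁻¹)⁻¹ ∈ centralizer (V : Set G) := by
      rw [mem_centralizer_iff]
      intro v hv
      have h2 := (mem_centralizer_iff.1 hqV) _ (h.V_nor' hm.1 hv)
      calc v * (y * (m * q * m⁻¹)⁻¹) = m * (m⁻¹ * v * m * (m⁻¹ * y * m * q⁻¹)) * m⁻¹ := by group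
        _ = m * (m⁻¹ * y * m * q⁻¹ * (m⁻¹ * v * m)) * m⁻¹ := by rw [h2]
        _ = y * (m * q * m⁻¹)⁻¹ * v := by group
    set q' := m * q * m⁻¹ with hq'def
    have hact : ∀ v ∈ V, y * v * y⁻¹ = q' * v * q'⁻¹ := by
      intro v hv
      have hv' : q' * v * q'⁻¹ ∈ V := h.V_nor (h.X_V (h.Q_X hq')) hv
      have h2 := (mem_centralizer_iff.1 h1) _ hv'
      calc y * v * y⁻¹ = (y * q'⁻¹) * (q' * v * q'⁻¹) * (y * q'⁻¹)⁻¹ := by group
        _ = (q' * v * q'⁻¹) * (y * q'⁻¹) * (y * q'⁻¹)⁻¹ := by rw [h2]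
        _ = q' * v * q'⁻¹ := by group
    obtain ⟨c, hc⟩ := h.act q' hq'
    -- `y` fixes `x`
    have h2 : y * e 0 b 0 * y⁻¹ = e 0 b 0 := by
      rw [← h.cj_cen hy.1 hx]; group
    rw [hact _ (h.e_mem _ _ _), hc] at h2
    obtain ⟨h3, -, -⟩ := h.e_eq h2
    rw [mul_zero, add_zero, zero_add] at h3
    obtain ⟨s, rfl⟩ := hf.B_span b c hb0 h3
    obtain ⟨s', hs'⟩ := hYx1 y hy.1 0 1
    rw [hact _ (h.e_mem _ _ _), hc] at hs'
    obtain ⟨h4, -, -⟩ := h.e_eq hs'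
    rw [hf.zero_B, zero_add, zero_add, mul_one, hf.N_smul] at h4
    have hs : s = 0 := by
      have h5 := (mul_eq_zero.1 h4).resolve_right hb
      exact pow_eq_zero_iff two_ne_zero |>.1 h5
    subst hs
    rw [mem_centralizer_iff]
    intro v hv
    obtain ⟨a', b', d', rfl⟩ := h.e_surj v hv
    have h5 := hc a' b' d'
    rw [zero_smul, hf.B_zero, hf.N_zero, smul_zero, zero_mul, add_zero, add_zero, add_zero] at h5
    have h6 := hact _ (h.e_mem a' b' d')
    rw [h5] at h6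
    calc e a' b' d' * y = (y * e a' b' d' * y⁻¹) * y := by rw [h6]
      _ = y * e a' b' d' := by group
  have hpair : ∀ y₁ ∈ Y, ∀ y₂ ∈ Y, y₁ ∈ centralizer (V : Set G) ∨ y₂ ∈ centralizer (V : Set G) ∨
      y₁ * y₂ ∈ centralizer (V : Set G) := by
    intro y₁ h₁ y₂ h₂
    rcases h.two _ (hmS y₁ h₁) (hmR y₁ h₁) _ (hmS y₂ h₂) (hmR y₂ h₂) with h3 | h3 | h3
    · exact Or.inl (key y₁ h₁ h3)
    · exact Or.inr (Or.inl (key y₂ h₂ h3))
    · refine Or.inr (Or.inr (key _ (mul_mem h₁ h₂) ?_))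
      obtain ⟨q, hq, h4⟩ := h3
      refine ⟨q, hq, ?_⟩
      have e1 : m⁻¹ * (y₁ * y₂) * m * q⁻¹ = m⁻¹ * y₁ * m * (m⁻¹ * y₂ * m) * q⁻¹ := by group
      rw [e1]; exact h4
  -- counting in `H = Q_x`
  let H : Subgroup G := cj g Q
  let K₀ : Subgroup H := (centralizer (V : Set G)).subgroupOf H
  let K₁ : Subgroup H := (centralizer (R : Set G)).subgroupOf H
  -- the commutator homomorphisms
  have hcm : ∀ w ∈ H, ∀ y ∈ H, y * w * y⁻¹ * w⁻¹ ∈ cj g R := fun w hw y hy => h.cj_QQ hy hw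
  let ψ : ∀ w ∈ H, H →* cj g R := fun w hw =>
    MonoidHom.mk' (fun y => ⟨y * w * (y : G)⁻¹ * w⁻¹, hcm w hw y y.2⟩) (by
      intro y y'
      apply Subtype.ext
      change (y * y' : G) * w * (y * y' : G)⁻¹ * w⁻¹ = y * w * (y : G)⁻¹ * w⁻¹ * (y' * w * (y' : G)⁻¹ * w⁻¹)
      have h1 := h.cj_cen y.2 (hcm w hw y' y'.2)
      have h2 := h.cj_cen hw (hcm w hw y' y'.2)
      calc (y * y' : G) * w * (y * y' : G)⁻¹ * w⁻¹
          = (y * (y' * w * (y' : G)⁻¹ * w⁻¹)) * w * (y : G)⁻¹ * w⁻¹ := by group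
        _ = ((y' * w * (y' : G)⁻¹ * w⁻¹) * y) * w * (y : G)⁻¹ * w⁻¹ := by rw [h1]
        _ = (y' * w * (y' : G)⁻¹ * w⁻¹) * (y * w * (y : G)⁻¹ * w⁻¹) := by group
        _ = y * w * (y : G)⁻¹ * w⁻¹ * (y' * w * (y' : G)⁻¹ * w⁻¹) := by
            exact congrArg Subtype.val (show (⟨_, hcm w hw y' y'.2⟩ : cj g R) * ⟨_, hcm w hw y y.2⟩ =
              ⟨_, hcm w hw y y.2⟩ * ⟨_, hcm w hw y' y'.2⟩ from by
                apply Subtype.ext
                exact (h.cj_cen (hRQ' _ (hcm w hw y y.2)) (hcm w hw y' y'.2))))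
  have hψ : ∀ w hw y, ((ψ w hw y : cj g R) : G) = y * w * (y : G)⁻¹ * w⁻¹ := fun w hw y => rfl
  -- `|H : K₁| ≤ q`
  have hr0 : e 1 0 0 ∈ H := hRQ (h.e_R 1)
  have hr0R : e 1 0 0 ∉ cj g R := by
    intro h0
    obtain ⟨s, hs⟩ := (hline _).1 h0
    exact one_ne_zero (h.e_eq hs).1.symm
  have hr01 : e 1 0 0 ≠ 1 := fun h0 => one_ne_zero (h.e_inj _ _ _ h0).1
  have hK₁ : (ψ _ hr0).ker ≤ K₁ := by
    intro y hy
    rw [MonoidHom.mem_ker] at hy
    have h1 : (y : G) * e 1 0 0 * (y : G)⁻¹ * (e 1 0 0)⁻¹ = 1 := congrArg Subtype.val hy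
    have h2 : (y : G) * e 1 0 0 = e 1 0 0 * y := by
      calc (y : G) * e 1 0 0 = (y * e 1 0 0 * (y : G)⁻¹ * (e 1 0 0)⁻¹) * e 1 0 0 * y := by group
        _ = e 1 0 0 * y := by rw [h1, one_mul]
    have h3 := h.cen_le S hG hZ (h.e_R 1) hr01 h2
    rw [mem_subgroupOf, mem_centralizer_iff]
    intro r hr
    obtain ⟨a, rfl⟩ := (h.R_iff r).1 hr
    have h4 : (y : G) * e a 0 0 * (y : G)⁻¹ * (e a 0 0)⁻¹ ∈ R := mul_mem (h.R_nor h3 hr) (inv_mem hr)
    obtain ⟨s, hs⟩ := (hline _).1 (h.cj_QQ y.2 (hRQ hr))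
    rw [← hs] at h4
    obtain ⟨h5, -⟩ := h.of_mem_R h4
    rw [h5, h.e_zero] at hs
    calc e a 0 0 * (y : G) = 1 * e a 0 0 * y := by group
      _ = (y * e a 0 0 * (y : G)⁻¹ * (e a 0 0)⁻¹) * e a 0 0 * y := by rw [hs]
      _ = (y : G) * e a 0 0 := by group
  have hq1 : K₁.index ≤ Nat.card F := by
    have h1 : (ψ _ hr0).ker.index ≤ Nat.card F := by
      rw [Subgroup.index_ker]
      refine le_trans (Finite.card_subtype_le _) ?_
      rw [card_cj, h.card_R]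
    refine le_trans ?_ h1
    exact Nat.le_of_dvd (Nat.pos_of_ne_zero (Subgroup.index_ne_zero_of_finite)) (Subgroup.index_dvd_of_le hK₁)
  have hK₀₁ : K₀ ≤ K₁ := fun y hy => h.cenV_cenR hy
  have hq2 : K₀.index ≤ 2 * Nat.card F := by
    have h1 : K₀.relIndex K₁ ≤ 2 := by
      apply relIndex_le_two
      intro a ha b hb
      exact hpair a ⟨a.2, ha⟩ b ⟨b.2, hb⟩
    rw [← relIndex_mul_index hK₀₁]
    exact Nat.mul_le_mul h1 hq1
  -- the characters
  obtain ⟨l, hl⟩ := exists_char (cj g R)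
    (fun x hx y hy => h.cj_cen (hRQ' _ hy) hx)
    (fun x hx => by
      obtain ⟨s, rfl⟩ := (hline _).1 hx
      exact h.e_sq _ _ _) hx hx1
  have hwH : ∀ a d, e a 0 d ∈ H := by
    intro a d
    have := hperp a 0 d
    rwa [zero_smul] at this
  let χ : F × F → H →* ℤˣ := fun i => l.comp (ψ _ (hwH i.1 i.2))
  have hinj : Function.Injective χ := by
    rintro ⟨a, d⟩ ⟨a', d'⟩ hχ
    by_contra hne
    have hw : e (a + a') 0 (d + d') ∈ H := hwH _ _
    have hwR : e (a + a') 0 (d + d') ∉ cj g R := by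
      intro h0
      obtain ⟨s, hs⟩ := (hline _).1 h0
      obtain ⟨h1, -, h2⟩ := h.e_eq hs
      apply hne
      have h3 : a = a' := by
        rw [← hf.neg_F a']; exact eq_neg_of_add_eq_zero_left h1.symm
      have h4 : d = d' := by
        rw [← hf.neg_F d']; exact eq_neg_of_add_eq_zero_left h2.symm
      rw [h3, h4]
    obtain ⟨y, hy, h1⟩ := h.cj_semi hw hwR hx
    have h2 : l (ψ _ hw ⟨y, hy⟩) = -1 := by
      rw [← hl]
      congr 1
      exact Subtype.ext h1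
    have h3 : ψ _ hw ⟨y, hy⟩ = ψ _ (hwH a d) ⟨y, hy⟩ * ψ _ (hwH a' d') ⟨y, hy⟩ := by
      apply Subtype.ext
      change y * e (a + a') 0 (d + d') * y⁻¹ * (e (a + a') 0 (d + d'))⁻¹ =
        y * e a 0 d * y⁻¹ * (e a 0 d)⁻¹ * (y * e a' 0 d' * y⁻¹ * (e a' 0 d')⁻¹)
      have e1 : e (a + a') 0 (d + d') = e a 0 d * e a' 0 d' := by rw [← h.e_add, add_zero]
      have h4 := h.cj_cen (hwH a d) (hcm _ (hwH a' d') y hy)
      have h5 : e a' 0 d' * e a 0 d = e a 0 d * e a' 0 d' := h.e_comm _ _ _ _ _ _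
      rw [e1]
      calc y * (e a 0 d * e a' 0 d') * y⁻¹ * (e a 0 d * e a' 0 d')⁻¹
          = y * e a 0 d * y⁻¹ * ((y * e a' 0 d' * y⁻¹ * (e a' 0 d')⁻¹) * (e a 0 d)⁻¹) := by group
        _ = y * e a 0 d * y⁻¹ * ((e a 0 d)⁻¹ * (y * e a' 0 d' * y⁻¹ * (e a' 0 d')⁻¹)) := by
            rw [h.cj_cen (inv_mem (hwH a d)) (hcm _ (hwH a' d') y hy)]
        _ = y * e a 0 d * y⁻¹ * (e a 0 d)⁻¹ * (y * e a' 0 d' * y⁻¹ * (e a' 0 d')⁻¹) := by group
    rw [h3, map_mul] at h2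
    have h4 : l (ψ _ (hwH a d) ⟨y, hy⟩) = l (ψ _ (hwH a' d') ⟨y, hy⟩) := DFunLike.congr_fun hχ ⟨y, hy⟩
    rw [h4, Int.units_mul_self] at h2
    exact absurd h2 (by decide)
  have hq3 := card_le_index K₀ χ hinj (by
    rintro ⟨a, d⟩ y hy
    have h1 : ψ _ (hwH a d) y = 1 := by
      apply Subtype.ext
      change (y : G) * e a 0 d * (y : G)⁻¹ * (e a 0 d)⁻¹ = 1
      have h2 := (mem_centralizer_iff.1 (mem_subgroupOf.1 hy)) _ (h.e_mem a 0 d)
      rw [← h2]; group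
    change l (ψ _ (hwH a d) y) = 1
    rw [h1, map_one])
  rw [Nat.card_prod] at hq3
  have hq4 : Nat.card F * Nat.card F ≤ 2 * Nat.card F := hq3.trans hq2
  have hq5 := hf.four
  have : Nat.card F * 4 ≤ Nat.card F * Nat.card F := Nat.mul_le_mul_left _ hq5
  omega

/-- **`N_G(V)` permutes the singular points of `V`** (MX). -/
theorem mx {m : G} (hm : m ∈ normalizer (V : Set G)) : ∃ x ∈ X, x * m ∈ normalizer (R : Set G) := by
  classical
  have hf := h.form
  have := h.finite_F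
  have hr01 : e 1 0 0 ≠ 1 := fun h0 => one_ne_zero (h.e_inj _ _ _ h0).1
  obtain ⟨a, y, d, hr⟩ := h.e_surj _ (h.V_nor hm (h.e_mem 1 0 0))
  by_cases hsing : a * d + N y = 0
  · obtain ⟨x, hx, h1⟩ := h.exists_sing hsing
    refine ⟨x, hx, ?_⟩
    apply h.ti S hG hZ (h.e_R 1) hr01
    rw [hr] at h1
    have e1 : x * m * e 1 0 0 * (x * m)⁻¹ = x * (m * e 1 0 0 * m⁻¹) * x⁻¹ := by group
    rw [e1]; exact h1
  · exfalso
    obtain ⟨x, hx, b, hb, h1⟩ := h.exists_nonsing hsing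
    rw [hr] at h1
    have hb0 : b ≠ 0 := hf.ne_zero_of_N hb
    set k := x * m with hk
    have hkV : k ∈ normalizer (V : Set G) := mul_mem (h.X_V hx) hm
    have hx0 : e 0 b 0 ∈ cj k R := by
      have e1 : e 0 b 0 = k * e 1 0 0 * k⁻¹ := by rw [← h1, hk]; group
      rw [e1]; exact conj_mem_cj (h.e_R 1)
    have hx1 : e 0 b 0 ≠ 1 := fun h0 => hb0 (h.e_inj _ _ _ h0).2.1
    have hkRV : cj k R ≤ V := by
      intro y hy
      rw [mem_cj] at hy
      have := h.V_nor hkV (h.R_V hy)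
      have e1 : k * (k⁻¹ * y * k) * k⁻¹ = y := by group
      rwa [e1] at this
    have hline := h.line_of S hG hZ hb hkRV hx0
    refine h.lemW S hG hZ hb hline ?_
    -- `H = V ∩ Q_x`
    let E : Subgroup G := V ⊓ Q
    let H : Subgroup G := cj k E
    have hHV : ∀ y ∈ H, y ∈ V := by
      intro y hy
      have h2 := (mem_cj.1 hy).1
      have := h.V_nor hkV h2
      have e1 : k * (k⁻¹ * y * k) * k⁻¹ = y := by group
      rwa [e1] at this
    have hHQ : ∀ y ∈ H, y ∈ cj k Q := fun y hy => mem_cj.2 (mem_cj.1 hy).2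
    have hH : ∀ y ∈ V, y ∈ cj k Q → y ∈ H := fun y hy hyQ =>
      mem_cj.2 ⟨h.V_nor' hkV hy, mem_cj.1 hyQ⟩
    have hHx : ∀ s : F, e 0 (s • b) 0 ∈ H := fun s =>
      hH _ (h.e_mem _ _ _) (h.cj_R_Q ((hline _).2 ⟨s, rfl⟩))
    have hHn : ∀ n ∈ normalizer (V : Set G), n * e 0 b 0 = e 0 b 0 * n → ∀ y ∈ H, n * y * n⁻¹ ∈ H := by
      intro n hn hnx y hy
      exact hH _ (h.V_nor hn (hHV y hy)) (h.cen_cj_Q S hG hZ hx0 hx1 hnx (hHQ y hy))
    suffices hRH : R ≤ H from fun r hr => hHQ r (hRH hr)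
    by_cases hcase : ∃ a y d, e a y d ∈ H ∧ d ≠ 0
    · obtain ⟨a, y, d, hw, hd⟩ := hcase
      -- `(a_s, 0, 0) ∈ H`
      have ha : ∀ s : F, e (s * B y b + s ^ 2 * N b * d) 0 0 ∈ H := by
        intro s
        obtain ⟨q, hq, hqa⟩ := h.act_surj (s • b)
        have hqx : q * e 0 b 0 = e 0 b 0 * q := by
          have h1 := hqa 0 b 0
          rw [hf.B_smul', hf.B_self, mul_zero, mul_zero, zero_smul, add_zero, add_zero, add_zero] at h1
          calc q * e 0 b 0 = q * e 0 b 0 * q⁻¹ * q := by group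
            _ = e 0 b 0 * q := by rw [h1]
        have h2 := mul_mem (mul_mem (hHn q (h.X_V (h.Q_X hq)) hqx _ hw) hw) (hHx (d * s))
        rw [hqa, ← h.e_add, ← h.e_add] at h2
        have e1 : a + B y (s • b) + N (s • b) * d + a + 0 = s * B y b + s ^ 2 * N b * d := by
          rw [hf.B_smul', hf.N_smul]
          linear_combination hf.F2 a
        have e2 : y + d • s • b + y + (d * s) • b = 0 := by
          rw [mul_smul]
          have e3 : y + d • s • b + y + d • s • b = (y + y) + (d • s • b + d • s • b) := by abel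
          rw [e3, hf.T2, hf.T2, add_zero]
        have e3 : d + d + (0 : F) = 0 := by rw [hf.F2, add_zero]
        rwa [e1, e2, e3] at h2
      obtain ⟨s, hs⟩ : ∃ s : F, s * B y b + s ^ 2 * N b * d ≠ 0 := by
        by_contra hcon
        push Not at hcon
        obtain ⟨t, ht, ht1⟩ := h.exists_two
        have h2 := hcon 1
        have h3 := hcon t
        rw [one_mul, one_pow, one_mul] at h2
        have h4 : t * (1 + t) * (N b * d) = 0 := by
          linear_combination h3 + t * h2 - t * hf.F2 (B y b)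
        have h5 := (mul_eq_zero.1 h4).resolve_left (mul_ne_zero ht ht1)
        exact hd ((mul_eq_zero.1 h5).resolve_left hb)
      set a₁ := s * B y b + s ^ 2 * N b * d with ha₁
      -- `(0, 0, d') ∈ H`
      have hd' : ∀ d' : F, e 0 0 d' ∈ H := by
        intro d'
        by_cases hd0 : d' = 0
        · rw [hd0, h.e_zero]; exact one_mem _
        obtain ⟨t, ht⟩ := h.exists_sqrt (d' / (N b * a₁))
        have ht0 : t ≠ 0 := by
          rintro rfl
          rw [zero_pow two_ne_zero] at ht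
          exact (div_ne_zero hd0 (mul_ne_zero hb hs)) ht.symm
        have hN : N (t • b) ≠ 0 := by
          rw [hf.N_smul]; exact mul_ne_zero (pow_ne_zero 2 ht0) hb
        obtain ⟨n, hn, hna⟩ := h.opp (t • b) hN
        have hnx : n * e 0 b 0 = e 0 b 0 * n := by
          have h1 := hna 0 b 0
          rw [hf.B_smul', hf.B_self, mul_zero, mul_zero, zero_smul, add_zero, add_zero, add_zero] at h1
          calc n * e 0 b 0 = n * e 0 b 0 * n⁻¹ * n := by group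
            _ = e 0 b 0 * n := by rw [h1]
        have h2 := mul_mem (mul_mem (hHn n (h.X_V hn) hnx _ (ha s)) (ha s)) (hHx (a₁ * t))
        rw [← ha₁, hna, ← h.e_add, ← h.e_add] at h2
        have e1 : a₁ + a₁ + 0 = 0 := by rw [hf.F2, add_zero]
        have e2 : 0 + a₁ • t • b + 0 + (a₁ * t) • b = 0 := by
          rw [mul_smul, zero_add, add_zero, hf.T2]
        have e3 : 0 + B 0 (t • b) + N (t • b) * a₁ + 0 + 0 = d' := by
          rw [hf.zero_B, hf.N_smul, ht]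
          field_simp
          ring
        rwa [e1, e2, e3] at h2
      -- `(a', 0, 0) ∈ H`
      intro r hr
      obtain ⟨a', rfl⟩ := (h.R_iff r).1 hr
      obtain ⟨q, hq, hqa⟩ := h.act_surj b
      have hqx : q * e 0 b 0 = e 0 b 0 * q := by
        have h1 := hqa 0 b 0
        rw [hf.B_self, mul_zero, zero_smul, add_zero, add_zero, add_zero] at h1
        calc q * e 0 b 0 = q * e 0 b 0 * q⁻¹ * q := by group
          _ = e 0 b 0 * q := by rw [h1]
      have h2 := mul_mem (mul_mem (hHn q (h.X_V (h.Q_X hq)) hqx _ (hd' (a' / N b))) (hd' (a' / N b)))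
        (hHx (a' / N b))
      rw [hqa, ← h.e_add, ← h.e_add] at h2
      have e1 : 0 + B 0 b + N b * (a' / N b) + 0 + 0 = a' := by
        rw [hf.zero_B, mul_div_cancel₀ _ hb]; ring
      have e2 : 0 + (a' / N b) • b + 0 + (a' / N b) • b = 0 := by
        rw [zero_add, add_zero, hf.T2]
      have e3 : a' / N b + a' / N b + 0 = 0 := by rw [hf.F2, add_zero]
      rwa [e1, e2, e3] at h2
    · push Not at hcase
      have hHE : H ≤ E := by
        intro w hw
        obtain ⟨a, y, d, rfl⟩ := h.e_surj w (hHV w hw)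
        obtain rfl := hcase a y d hw
        exact ⟨h.e_mem _ _ _, h.E_le _ _⟩
      have h2 : H = E := Subgroup.eq_of_le_of_card_ge hHE (by rw [card_cj])
      rw [h2]
      exact fun r hr => ⟨h.R_V hr, h.R_Q hr⟩

end Core

end Cfsg.Agent.Omega.All.NOne
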