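import Cfsg.Agent.Omega.All.NOne.SmallTypes
import Cfsg.Agent.Omega.All.NOne.SmallNat
import Cfsg.Agent.Omega.Node.EndPlusQ

/-!
# THEOREM ALL-N1: the hypothesis `hty` of `Core.par_le`, `sup_eq_top`

From (BT) (the five types), the exclusion of the small types (`Small`, `SmallTypes`, `SmallNat`) and `Core` for the
types `PlusQ` (`corePlus`: helper914, helper983) and `MinusQ` (`CoreMinus`: helper177).

* `hty : BT → CoreMinus → EndP.Hty`;
* `Core.sup_eq_top_of` : `G = ⟨N_G(R), N_G(V)⟩`.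
-/

set_option autoImplicit false
set_option linter.unusedSectionVars false

namespace Cfsg.Agent.Omega.All.NOne

open Subgroup Cfsg Cfsg.Agent.ZN Cfsg.Agent.Omega.MinPar Cfsg.Agent.Omega.Frame
open Cfsg.Agent.Omega.FrameNOFF (CZ)

universe u

variable {G : Type u} [Group G]

/-- `W` is of BETA level: `Core` for some data. -/
def HasCore (S W : Subgroup G) : Prop :=
  ∃ (F' T' : Type) (_ : Field F') (_ : AddCommGroup T') (_ : Module F' T') (R' Q' X' : Subgroup G)
    (e' : F' → T' → F' → G) (N' : T' → F') (B' : T' → T' → F'), Core S W R' Q' X' e' N' B'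

/-- `MinusQ` gives `Core`.  Owner: helper177 (`GIn → Two → Core`). -/
def CoreMinus : Prop :=
  ∀ (G : Type u) [Group G] [Finite G] (S : Sylow 2 G) (P : Subgroup G), NO1.Cfg S P →
    ∀ (K : Type) [Field K] [Finite K] [CharP K 2] (σ : K ≃+* K), σ ≠ RingEquiv.refl K → (∀ x, σ (σ x) = x) →
      16 ≤ Nat.card K → NO1.MinusQ K σ P (zl (S : Subgroup G) P) →
        HasCore (S : Subgroup G) (zl (S : Subgroup G) P)

variable [Finite G]

/-- Type `PlusQ`: helper914's coordinates, helper983's `PlusQ.Cx.core`. -/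
theorem corePlus {S : Sylow 2 G} {P : Subgroup G} (h : NO1.Cfg S P) {F : Type} [Field F] [Finite F] [CharP F 2]
    (h4 : 4 ≤ Nat.card F) (hE : 4 ≤ (NO1.EE (S : Subgroup G) P).relIndex (zl (S : Subgroup G) P))
    (m : NO1.PlusQ F P (zl (S : Subgroup G) P)) : HasCore (S : Subgroup G) (zl (S : Subgroup G) P) := by
  obtain ⟨D, g1⟩ := NO1.EndP.exists_gin1 h m h4 hE
  exact ⟨F, F × F, _, _, _, _, _, _, _, _, _, g1.core⟩

/-- **`hty`.** -/
theorem Core.hty_of {F T : Type*} [Field F] [AddCommGroup T] [Module F T]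
    {V R Q X : Subgroup G} {e : F → T → F → G} {N : T → F} {B : T → T → F}
    (S : Sylow 2 G) (h : Core (S : Subgroup G) V R Q X e N B) (hctx : Ctx G) (hF : Full (S : Subgroup G))
    (hBT : NO1.BT.{u}) (cM : CoreMinus.{u}) (P : Subgroup G) (hP : IsParS (S : Subgroup G) P)
    (hV : ¬ zl (S : Subgroup G) P ≤ o2 (CZ (S : Subgroup G))) :
    HasCore (S : Subgroup G) (zl (S : Subgroup G) P) := by
  have hZ : zc (S : Subgroup G) ≠ ⊥ := ZN.zc_ne_bot S.isPGroup' (hctx.sylow_ne_bot S)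
  have hG := hctx.char2
  have hVQ : ¬ zl (S : Subgroup G) P ≤ Q := by rwa [h.o2_CZ S hG hZ] at hV
  have hC := NO1.Cfg.of hctx hF hP hV
  rcases hBT G S P hC with ⟨z, hz⟩ | ⟨z, hz⟩ | hn | ⟨K, σ, ha, hb, hc, ⟨M⟩⟩ | ⟨K, hc, hE, ⟨M⟩⟩
  · exact (h.not_minus2 S hG hZ hP hz hVQ).elim
  · exact (h.not_plus2 S hG hZ hP hz hVQ).elim
  · exact (h.not_nat4 S hG hZ hP hn hVQ).elim
  · exact cM G S P hC K σ ha hb hc M
  · exact corePlus hC hc hE M

/-- **THEOREM ALL-N1 for the frame**: `G = ⟨N_G(R), N_G(V)⟩`, inputs (BT), `Core` for `MinusQ`, and `Ext`. -/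
theorem Core.sup_eq_top_of {F T : Type*} [Field F] [AddCommGroup T] [Module F T]
    {V R Q X D : Subgroup G} {e : F → T → F → G} {N : T → F} {B : T → T → F}
    (S : Sylow 2 G) (h : Core (S : Subgroup G) V R Q X e N B) (E : Ext (S : Subgroup G) V R Q D e) (hctx : Ctx G)
    (hF : Full (S : Subgroup G)) (hBT : NO1.BT.{u}) (cM : CoreMinus.{u}) :
    normalizer (R : Set G) ⊔ normalizer (V : Set G) = ⊤ :=
  sup_eq_top S h hctx.char2 (ZN.zc_ne_bot S.isPGroup' (hctx.sylow_ne_bot S)) E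
    (fun P hP hV => h.hty_of S hctx hF hBT cM P hP hV) hF

/-- **`EndP.Hty`** from (BT) and `Core` for `MinusQ`. -/
theorem hty (hBT : NO1.BT.{u}) (cM : CoreMinus.{u}) : NO1.EndP.Hty.{u} :=
  fun _ _ _ S hctx hF _ _ _ _ _ _ _ _ _ _ _ _ h P hP hV => h.hty_of S hctx hF hBT cM P hP hV

end Cfsg.Agent.Omega.All.NOne
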