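import Cfsg.Agent.Omega.All.NOne.Core

/-!
# THEOREM ALL-N1: the 2-elements of `N(V) ∩ N(R) ∩ N(Q)`

* `Crd.triv` : a 2-element trivial on `V/E` centralises `R`;
* `Crd.lin` : a 2-element of `C(R)` is trivial on `V/E`, and acts on `E/R = T` as an `F`-linear isometry of `B`.
-/

set_option autoImplicit false
set_option linter.unusedSectionVars false

namespace Cfsg.Agent.Omega.All.NOne

open Subgroup

universe u

/-- Coordinates on `V` and the action of `Q`. -/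
structure Crd {G : Type u} [Group G] {F T : Type*} [Field F] [AddCommGroup T] [Module F T]
    (V R Q : Subgroup G) (e : F → T → F → G) (N : T → F) (B : T → T → F) : Prop where
  form : Form F T N B
  e_add : ∀ a b d a' b' d', e (a + a') (b + b') (d + d') = e a b d * e a' b' d'
  e_inj : ∀ a b d, e a b d = 1 → a = 0 ∧ b = 0 ∧ d = 0
  e_mem : ∀ a b d, e a b d ∈ V
  e_surj : ∀ x ∈ V, ∃ a b d, e a b d = x
  R_iff : ∀ r, r ∈ R ↔ ∃ a, e a 0 0 = r
  E_le : ∀ a b, e a b 0 ∈ Q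
  V_Q : ∀ a b d, e a b d ∈ Q → d = 0
  /-- `Q` acts on `V` as the group of all `u_c` -/
  act : ∀ y ∈ Q, ∃ c, ∀ a b d, y * e a b d * y⁻¹ = e (a + B b c + N c * d) (b + d • c) d
  act_surj : ∀ c, ∃ y ∈ Q, ∀ a b d, y * e a b d * y⁻¹ = e (a + B b c + N c * d) (b + d • c) d

namespace Crd

variable {G : Type u} [Group G] {F T : Type*} [Field F] [AddCommGroup T] [Module F T]
  {V R Q : Subgroup G} {e : F → T → F → G} {N : T → F} {B : T → T → F} (h : Crd V R Q e N B)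
include h

theorem e_zero : e 0 0 0 = 1 := by
  have := h.e_add 0 0 0 0 0 0
  simp only [add_zero] at this
  exact left_eq_mul.mp this

theorem e_sq (a b d) : e a b d * e a b d = 1 := by
  rw [← h.e_add, h.form.F2, h.form.F2, h.form.T2, h.e_zero]

theorem e_inv (a b d) : (e a b d)⁻¹ = e a b d := by
  rw [inv_eq_iff_mul_eq_one]; exact h.e_sq a b d

/-- `e` is injective -/
theorem e_eq {a b d a' b' d'} (h1 : e a b d = e a' b' d') : a = a' ∧ b = b' ∧ d = d' := by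
  have h2 : e (a + a') (b + b') (d + d') = 1 := by rw [h.e_add, h1, h.e_sq]
  obtain ⟨h3, h4, h5⟩ := h.e_inj _ _ _ h2
  refine ⟨?_, ?_, ?_⟩
  · rw [← h.form.neg_F a']; exact eq_neg_of_add_eq_zero_left h3
  · rw [← h.form.neg_T b']; exact eq_neg_of_add_eq_zero_left h4
  · rw [← h.form.neg_F d']; exact eq_neg_of_add_eq_zero_left h5

theorem e_R (a : F) : e a 0 0 ∈ R := (h.R_iff _).2 ⟨a, rfl⟩

theorem R_V : R ≤ V := by
  intro r hr
  obtain ⟨a, rfl⟩ := (h.R_iff r).1 hr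
  exact h.e_mem _ _ _

theorem R_Q : R ≤ Q := by
  intro r hr
  obtain ⟨a, rfl⟩ := (h.R_iff r).1 hr
  exact h.E_le _ _

theorem mem_E {x : G} (hx : x ∈ V) (hxQ : x ∈ Q) : ∃ a b, e a b 0 = x := by
  obtain ⟨a, b, d, rfl⟩ := h.e_surj x hx
  obtain rfl := h.V_Q a b d hxQ
  exact ⟨a, b, rfl⟩

/-- every vector is the sum of its three parts -/
theorem split (a : F) (b : T) (d : F) : e a b d = e a 0 0 * (e 0 b 0 * e 0 0 d) := by
  rw [← h.e_add, ← h.e_add]; simp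

theorem sq_one_of_pow {D : F} {n : ℕ} (hD : D ^ 2 ^ n = 1) : D = 1 := by
  induction n with
  | zero => simpa using hD
  | succ n ih =>
    apply ih
    have h1 : (D ^ 2 ^ n) * (D ^ 2 ^ n) = 1 := by rw [← pow_add, ← two_mul, ← pow_succ']; exact hD
    have h2 : (D ^ 2 ^ n + 1) * (D ^ 2 ^ n + 1) = 0 := by
      have h3 := h.form.F2 (D ^ 2 ^ n)
      have h4 := h.form.F2 1
      linear_combination h1 + h3 + h4
    have h3 := mul_self_eq_zero.1 h2
    rw [← h.form.neg_F 1]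
    exact eq_neg_of_add_eq_zero_left h3

/-- the maps induced by an element of `N(V) ∩ N(R) ∩ N(Q)` -/
theorem maps {x : G} (hV : x ∈ normalizer (V : Set G)) (hR : x ∈ normalizer (R : Set G))
    (hQ : x ∈ normalizer (Q : Set G)) :
    ∃ (α γ : F → F) (β δ : T → T), (∀ a, x * e a 0 0 * x⁻¹ = e (α a) 0 0) ∧
      (∀ b, ∃ a, x * e 0 b 0 * x⁻¹ = e a (β b) 0) ∧
      (∀ d, ∃ a b, x * e 0 0 d * x⁻¹ = e a b (γ d)) ∧
      (∀ b c, α (B b c) = B (β b) (δ c)) ∧ ∀ d c, β (d • c) = γ d • δ c := by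
  have hcV : ∀ v ∈ V, x * v * x⁻¹ ∈ V := fun v hv => (mem_normalizer_iff.1 hV v).1 hv
  have hcR : ∀ v ∈ R, x * v * x⁻¹ ∈ R := fun v hv => (mem_normalizer_iff.1 hR v).1 hv
  have hcQ : ∀ v ∈ Q, x * v * x⁻¹ ∈ Q := fun v hv => (mem_normalizer_iff.1 hQ v).1 hv
  choose α hα using fun a => (h.R_iff _).1 (hcR _ (h.e_R a))
  choose f β hβ using fun b => h.mem_E (hcV _ (h.e_mem 0 b 0)) (hcQ _ (h.E_le 0 b))
  choose p k γ hγ using fun d => h.e_surj _ (hcV _ (h.e_mem 0 0 d))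
  choose y hy hya using h.act_surj
  choose δ hδ using fun c => h.act _ (hcQ _ (hy c))
  refine ⟨α, γ, β, δ, fun a => (hα a).symm, fun b => ⟨f b, (hβ b).symm⟩, fun d => ⟨p d, k d, (hγ d).symm⟩, ?_, ?_⟩
  · intro b c
    have h1 : x * (y c * e 0 b 0 * (y c)⁻¹) * x⁻¹ = (x * y c * x⁻¹) * (x * e 0 b 0 * x⁻¹) * (x * y c * x⁻¹)⁻¹ := by
      group
    rw [hya, ← hβ, hδ] at h1
    simp only [mul_zero, add_zero, zero_smul, zero_add] at h1
    have h2 : x * e (B b c) b 0 * x⁻¹ = e (α (B b c) + f b) (β b) 0 := by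
      have e1 : e (B b c) b 0 = e (B b c) 0 0 * e 0 b 0 := by rw [← h.e_add]; simp
      have e2 : x * (e (B b c) 0 0 * e 0 b 0) * x⁻¹ = (x * e (B b c) 0 0 * x⁻¹) * (x * e 0 b 0 * x⁻¹) := by group
      rw [e1, e2, ← hα, ← hβ, ← h.e_add]; simp
    rw [h2] at h1
    have h3 := (h.e_eq h1).1
    rw [add_comm] at h3
    exact add_left_cancel h3
  · intro d c
    have h1 : x * (y c * e 0 0 d * (y c)⁻¹) * x⁻¹ = (x * y c * x⁻¹) * (x * e 0 0 d * x⁻¹) * (x * y c * x⁻¹)⁻¹ := by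
      group
    rw [hya, ← hγ, hδ] at h1
    have h2 : x * e (0 + B 0 c + N c * d) (0 + d • c) d * x⁻¹ =
        e (α (0 + B 0 c + N c * d) + (f (d • c) + p d)) (β (d • c) + k d) (γ d) := by
      rw [h.split]
      have e2 : ∀ a b c : G, x * (a * (b * c)) * x⁻¹ = (x * a * x⁻¹) * ((x * b * x⁻¹) * (x * c * x⁻¹)) := by
        intro a b c; group
      rw [zero_add (d • c), e2, ← hα, ← hβ, ← hγ, ← h.e_add, ← h.e_add]; simp
    rw [h2] at h1
    have h3 := (h.e_eq h1).2.1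
    rw [add_comm (β _)] at h3
    exact add_left_cancel h3

theorem exists_basis : ∃ b c : T, B b c = 1 := by
  obtain ⟨b, -, hb⟩ := h.form.exists_ne
  obtain ⟨c, hc⟩ := h.form.B_surj b hb 1
  exact ⟨b, c, hc⟩

/-- **(triv)** -/
theorem triv {x : G} (hV : x ∈ normalizer (V : Set G)) (hR : x ∈ normalizer (R : Set G))
    (hQ : x ∈ normalizer (Q : Set G)) {n : ℕ} (hn : x ^ 2 ^ n = 1) (hc : ∀ v ∈ V, x * v * x⁻¹ * v⁻¹ ∈ Q) :
    x ∈ centralizer (R : Set G) := by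
  obtain ⟨α, γ, β, δ, hα, hβ, hγ, h1, h2⟩ := h.maps hV hR hQ
  have hγd : ∀ d, γ d = d := by
    intro d
    obtain ⟨a, b, hab⟩ := hγ d
    have h3 := hc _ (h.e_mem 0 0 d)
    rw [hab, h.e_inv, ← h.e_add] at h3
    have h4 := h.V_Q _ _ _ h3
    have h5 := eq_neg_of_add_eq_zero_left h4
    rwa [h.form.neg_F] at h5
  obtain ⟨b₀, c₀, hbc⟩ := h.exists_basis
  have hβδ : ∀ c, β c = δ c := by
    intro c
    have := h2 1 c
    rwa [one_smul, hγd, one_smul] at this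
  have h3 : ∀ a, α a = a * B (δ b₀) (δ c₀) := by
    intro a
    have h4 := h1 (a • b₀) c₀
    rwa [h.form.B_smul, hbc, mul_one, h2, hγd, h.form.B_smul] at h4
  set D := B (δ b₀) (δ c₀) with hD
  have h4 : ∀ m : ℕ, ∀ a, x ^ m * e a 0 0 * (x ^ m)⁻¹ = e (a * D ^ m) 0 0 := by
    intro m
    induction m with
    | zero => intro a; simp
    | succ m ih =>
      intro a
      have e1 : x ^ (m + 1) * e a 0 0 * (x ^ (m + 1))⁻¹ = x * (x ^ m * e a 0 0 * (x ^ m)⁻¹) * x⁻¹ := by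
        rw [pow_succ']; group
      rw [e1, ih, hα, h3, pow_succ, mul_assoc]
  have h5 : D = 1 := by
    apply h.sq_one_of_pow (n := n)
    have h6 := h4 (2 ^ n) 1
    rw [hn, one_mul, inv_one, mul_one, one_mul] at h6
    exact (h.e_eq h6).1.symm
  rw [mem_centralizer_iff]
  intro r hr
  obtain ⟨a, rfl⟩ := (h.R_iff r).1 hr
  have h6 := hα a
  rw [h3, h5, mul_one] at h6
  calc e a 0 0 * x = (x * e a 0 0 * x⁻¹) * x := by rw [h6]
    _ = x * e a 0 0 := by group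

/-- **(quo), (lin)** -/
theorem lin {x : G} (hV : x ∈ normalizer (V : Set G)) (hR : x ∈ normalizer (R : Set G))
    (hQ : x ∈ normalizer (Q : Set G)) {n : ℕ} (hn : x ^ 2 ^ n = 1) (hc : x ∈ centralizer (R : Set G)) :
    (∀ v ∈ V, x * v * x⁻¹ * v⁻¹ ∈ Q) ∧ ∃ β : T → T, (∀ b, ∃ a, x * e 0 b 0 * x⁻¹ = e a (β b) 0) ∧
      (∀ (d : F) (c : T), β (d • c) = d • β c) ∧ ∀ b c, B (β b) (β c) = B b c := by
  obtain ⟨α, γ, β, δ, hα, hβ, hγ, h1, h2⟩ := h.maps hV hR hQ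
  have hαa : ∀ a, α a = a := by
    intro a
    have h3 := hα a
    have h4 := (mem_centralizer_iff.1 hc) _ (h.e_R a)
    rw [← h4, mul_inv_cancel_right] at h3
    exact (h.e_eq h3).1.symm
  obtain ⟨b₀, c₀, hbc⟩ := h.exists_basis
  have h3 : ∀ d, γ d * B (δ b₀) (δ c₀) = d := by
    intro d
    have h4 := h1 (d • b₀) c₀
    rw [h.form.B_smul, hbc, mul_one, h2, hαa, h.form.B_smul] at h4
    exact h4.symm
  set D := B (δ b₀) (δ c₀) with hD
  have hD0 : D ≠ 0 := by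
    intro h0
    have := h3 1
    rw [h0, mul_zero] at this
    exact zero_ne_one this
  have hγD : ∀ d, γ d = d * D⁻¹ := fun d => by rw [eq_mul_inv_iff_mul_eq₀ hD0]; exact h3 d
  have h3' : ∀ a b d, ∃ a' b', x * e a b d * x⁻¹ = e a' b' (d * D⁻¹) := by
    intro a b d
    obtain ⟨a₁, h4⟩ := hβ b
    obtain ⟨a₂, b₂, h5⟩ := hγ d
    refine ⟨α a + (a₁ + a₂), β b + b₂, ?_⟩
    have e2 : ∀ a b c : G, x * (a * (b * c)) * x⁻¹ = (x * a * x⁻¹) * ((x * b * x⁻¹) * (x * c * x⁻¹)) := by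
      intro a b c; group
    rw [h.split, e2, hα, h4, h5, ← h.e_add, ← h.e_add, hγD]; simp
  have h4 : ∀ m : ℕ, ∀ a b d, ∃ a' b', x ^ m * e a b d * (x ^ m)⁻¹ = e a' b' (d * D⁻¹ ^ m) := by
    intro m
    induction m with
    | zero => intro a b d; exact ⟨a, b, by simp⟩
    | succ m ih =>
      intro a b d
      obtain ⟨a₁, b₁, h5⟩ := ih a b d
      obtain ⟨a₂, b₂, h6⟩ := h3' a₁ b₁ (d * D⁻¹ ^ m)
      refine ⟨a₂, b₂, ?_⟩
      have e1 : x ^ (m + 1) * e a b d * (x ^ (m + 1))⁻¹ = x * (x ^ m * e a b d * (x ^ m)⁻¹) * x⁻¹ := by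
        rw [pow_succ']; group
      rw [e1, h5, h6, pow_succ, mul_assoc]
  have h5 : D⁻¹ = 1 := by
    apply h.sq_one_of_pow (n := n)
    obtain ⟨a, b, h6⟩ := h4 (2 ^ n) 0 0 1
    rw [hn, one_mul, inv_one, mul_one, one_mul] at h6
    exact (h.e_eq h6).2.2.symm
  have hγd : ∀ d, γ d = d := fun d => by rw [hγD, h5, mul_one]
  have hβδ : ∀ c, β c = δ c := by
    intro c
    have := h2 1 c
    rwa [one_smul, hγd, one_smul] at this
  refine ⟨?_, β, hβ, ?_, ?_⟩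
  · intro v hv
    obtain ⟨a, b, d, rfl⟩ := h.e_surj v hv
    obtain ⟨a', b', h6⟩ := h3' a b d
    rw [h6, h5, mul_one, h.e_inv, ← h.e_add, h.form.F2]
    exact h.E_le _ _
  · intro d c
    rw [h2, hγd, hβδ]
  · intro b c
    have := h1 b c
    rw [hαa] at this
    rw [this, hβδ c]

end Crd

end Cfsg.Agent.Omega.All.NOne
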