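import Cfsg.Agent.Omega.All.NOne.W

/-!
# THEOREM ALL-N1 (bb #15220)

* `Ext` : the additional input for `V = V_{P₁}` (structure of `L = V D C_Q(V)`, `D = C(V) ∩ Q_∞`);
* `Core.zl_le_R` : (B2) `V_P ≤ Q` implies `V_P ≤ R`;
* `Core.eq_of_core` : (B3) `V_P ≰ Q` implies `V_P = V`;
* `Core.par_le` : every `P ∈ P(S)` lies in `N_G(R)` or in `N_G(V)`.
-/

set_option autoImplicit false
set_option linter.unusedSectionVars false

namespace Cfsg.Agent.Omega.All.NOne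

open Subgroup Cfsg Cfsg.Agent.ZN Cfsg.Agent.Omega.MinPar
open Cfsg.Agent.MinSimple.VModule (le_o2 o2_le o2_isPGroup le_normalizer_o2 mem_zc zc_le zl_le zc_le_zl
  le_normalizer_zl zc_comm)
open Cfsg.Agent.Omega.FrameNOFF (CZ)

universe u

variable {G : Type u} [Group G]

/-- The structure of `L = V D C_Q(V)`, where `D = C(V) ∩ Q_∞` for an opposite point. -/
structure Ext {F T : Type*} [Field F] [AddCommGroup T] [Module F T] (S V R Q D : Subgroup G)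
    (e : F → T → F → G) : Prop where
  D_V : D ≤ centralizer (V : Set G)
  D_S : D ≤ S
  D_nor : ∀ c ∈ centralizer (V : Set G), ∀ y ∈ D, c * y * c⁻¹ ∈ D
  D_Q : ∀ y ∈ D, y ∈ Q → y ∈ V
  D_R : ∀ y ∈ D, y ∈ R → y = 1
  /-- `C_Q(V) ≤ V D D^u` -/
  sp : ∀ w ∈ Q, w ∈ centralizer (V : Set G) → ∃ u ∈ Q, ∃ d ∈ D, ∃ d' ∈ D, ∃ v ∈ V, w = v * d * (u * d' * u⁻¹)
  /-- `C_Q(C_Q(V)) ≤ V` -/
  cc : ∀ w ∈ Q, (∀ y ∈ Q, y ∈ centralizer (V : Set G) → y * w = w * y) → w ∈ V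
  /-- `C_G(V) ∩ C_G(L/V) ≤ L` -/
  norm : ∀ c ∈ centralizer (V : Set G), (∀ d ∈ D, c * d * c⁻¹ * d⁻¹ ∈ V) →
    (∀ w ∈ Q, w ∈ centralizer (V : Set G) → c * w * c⁻¹ * w⁻¹ ∈ V) →
    ∃ v ∈ V, ∃ d ∈ D, ∃ w ∈ Q, w ∈ centralizer (V : Set G) ∧ c = v * d * w
  /-- `[C_Q(V), l] [C_Q(V), l^s] R ≥ V ∩ Q` for `l ∈ L - V C_Q(V)` and some `s ∈ S` -/
  big : ∀ v ∈ V, ∀ d ∈ D, ∀ w ∈ Q, w ∈ centralizer (V : Set G) →
    (¬ ∃ v' ∈ V, ∃ w' ∈ Q, w' ∈ centralizer (V : Set G) ∧ v * d * w = v' * w') →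
    ∃ s ∈ S, ∀ b, ∃ w₁ ∈ Q, w₁ ∈ centralizer (V : Set G) ∧ ∃ w₂ ∈ Q, w₂ ∈ centralizer (V : Set G) ∧
      ∃ r ∈ R, e 0 b 0 = w₁ * (v * d * w) * w₁⁻¹ * (v * d * w)⁻¹ *
        (w₂ * (s * (v * d * w) * s⁻¹) * w₂⁻¹ * (s * (v * d * w) * s⁻¹)⁻¹) * r

/-- A fixed point modulo `R`. -/
theorem exists_fix_mod [Finite G] {S R U : Subgroup G} (hS : IsPGroup 2 S) (hU : U ≤ S)
    (hne : ¬ U ≤ R) (hSU : S ≤ normalizer (U : Set G)) (hSR : S ≤ normalizer (R : Set G)) :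
    ∃ w ∈ U, w ∉ R ∧ ∀ s ∈ S, s * w * s⁻¹ * w⁻¹ ∈ R := by
  have hf : Fact (Nat.Prime 2) := ⟨Nat.prime_two⟩
  let A := U ⧸ R.subgroupOf U
  let _ : MulAction S A :=
    { smul := fun s => Quotient.map' (fun x : U => (⟨s * x * (s : G)⁻¹, (mem_normalizer_iff.1 (hSU s.2) x).1 x.2⟩ : U)) (by
        intro x y hxy
        rw [QuotientGroup.leftRel_apply] at hxy ⊢
        rw [mem_subgroupOf] at hxy ⊢
        change ((s : G) * x * (s : G)⁻¹)⁻¹ * (s * y * (s : G)⁻¹) ∈ R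
        have h1 : (x : G)⁻¹ * y ∈ R := hxy
        have h2 := (mem_normalizer_iff.1 (hSR s.2) _).1 h1
        have e1 : ((s : G) * x * (s : G)⁻¹)⁻¹ * (s * y * (s : G)⁻¹) = s * ((x : G)⁻¹ * y) * (s : G)⁻¹ := by group
        rwa [e1])
      one_smul := by
        rintro ⟨x⟩
        change (QuotientGroup.mk _ : A) = QuotientGroup.mk _
        congr 1
        apply Subtype.ext
        show ((1 : S) : G) * x * ((1 : S) : G)⁻¹ = x
        simp
      mul_smul := by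
        rintro s t ⟨x⟩
        change (QuotientGroup.mk _ : A) = QuotientGroup.mk _
        congr 1
        apply Subtype.ext
        show ((s * t : S) : G) * x * ((s * t : S) : G)⁻¹ = s * (t * x * (t : G)⁻¹) * (s : G)⁻¹
        rw [coe_mul]; group }
  have hval : ∀ (s : S) (x : U), s • (QuotientGroup.mk x : A) =
      QuotientGroup.mk (⟨s * x * (s : G)⁻¹, (mem_normalizer_iff.1 (hSU s.2) x).1 x.2⟩ : U) := fun s x => rfl
  have hcard : 2 ∣ Nat.card A := by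
    have hX : IsPGroup 2 U := hS.to_le hU
    obtain ⟨n, hn⟩ := hX.index (R.subgroupOf U)
    change 2 ∣ (R.subgroupOf U).index
    rw [hn]
    have : n ≠ 0 := by
      rintro rfl
      rw [pow_zero] at hn
      exact hne (relIndex_eq_one.1 hn)
    exact dvd_pow_self 2 this
  have h1 : (QuotientGroup.mk 1 : A) ∈ MulAction.fixedPoints S A := fun s => by
    rw [hval, QuotientGroup.eq, mem_subgroupOf]
    have : ((1 : U) : G) = 1 := rfl
    simp
  obtain ⟨q, hq, hq1⟩ := hS.exists_fixed_point_of_prime_dvd_card_of_fixed_point A hcard h1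
  obtain ⟨w, rfl⟩ := QuotientGroup.mk_surjective q
  have hwR : (w : G) ∉ R := by
    intro h0
    apply hq1
    rw [QuotientGroup.eq, mem_subgroupOf]
    simpa using h0
  refine ⟨w, w.2, hwR, fun s hs => ?_⟩
  have h2 := hq ⟨s, hs⟩
  rw [hval, QuotientGroup.eq, mem_subgroupOf] at h2
  have h3 : (s * (w : G) * s⁻¹)⁻¹ * w ∈ R := h2
  have h4 := (mem_normalizer_iff.1 (hSR (hU w.2)) _).1 (inv_mem h3)
  have e1 : (w : G) * ((s * (w : G) * s⁻¹)⁻¹ * w)⁻¹ * (w : G)⁻¹ = s * w * s⁻¹ * (w : G)⁻¹ := by group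
  rwa [e1] at h4

namespace Core

variable {F T : Type*} [Field F] [AddCommGroup T] [Module F T]
  {V R Q X D : Subgroup G} {e : F → T → F → G} {N : T → F} {B : T → T → F}

section card

variable {S : Subgroup G} (h : Core S V R Q X e N B)
include h

theorem card_T : Nat.card T = Nat.card F * Nat.card F := by
  have hf := h.form
  obtain ⟨b, hb, hb0⟩ := hf.exists_ne
  obtain ⟨c, hc⟩ := hf.B_surj b hb0 1
  rw [← Nat.card_prod]
  symm
  apply Nat.card_congr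
  refine Equiv.ofBijective (fun x : F × F => x.1 • b + x.2 • c) ⟨?_, ?_⟩
  · rintro ⟨s, t⟩ ⟨s', t'⟩ hst
    have h1 : s • b + t • c = s' • b + t' • c := hst
    have h2 : B b (s • b + t • c) = B b (s' • b + t' • c) := by rw [h1]
    simp only [hf.B_add', hf.B_smul', hf.B_self, hc, mul_zero, mul_one, zero_add] at h2
    subst h2
    have h3 : s • b = s' • b := add_right_cancel h1
    have h4 : s = s' := by
      by_contra hne
      have h5 : (s - s') • b = 0 := by rw [sub_smul, h3, sub_self]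
      exact hb0 ((smul_eq_zero.1 h5).resolve_left (sub_ne_zero.2 hne))
    rw [h4]
  · intro y
    obtain ⟨s, hs⟩ := hf.B_span b (y + B b y • c) hb0 (by
      rw [hf.B_add', hf.B_smul', hc, mul_one, hf.F2])
    refine ⟨(s, B b y), ?_⟩
    change s • b + B b y • c = y
    rw [← hs, add_assoc, hf.T2, add_zero]

theorem card_E : Nat.card (V ⊓ Q : Subgroup G) = Nat.card F ^ 3 := by
  have h1 : Nat.card (V ⊓ Q : Subgroup G) = Nat.card (F × T) := by
    symm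
    apply Nat.card_congr
    refine Equiv.ofBijective (fun x => (⟨e x.1 x.2 0, h.e_mem _ _ _, h.E_le _ _⟩ : (V ⊓ Q : Subgroup G))) ⟨?_, ?_⟩
    · rintro ⟨a, b⟩ ⟨a', b'⟩ hab
      obtain ⟨h1, h2, -⟩ := h.e_eq (congrArg Subtype.val hab)
      exact Prod.ext h1 h2
    · rintro ⟨x, hx, hxQ⟩
      obtain ⟨a, b, h1⟩ := h.mem_E hx hxQ
      exact ⟨(a, b), Subtype.ext h1⟩
  rw [h1, Nat.card_prod, h.card_T]; ring

theorem card_V : Nat.card V = Nat.card F ^ 4 := by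
  have h1 : Nat.card V = Nat.card (F × T × F) := by
    symm
    apply Nat.card_congr
    refine Equiv.ofBijective (fun x => (⟨e x.1 x.2.1 x.2.2, h.e_mem _ _ _⟩ : V)) ⟨?_, ?_⟩
    · rintro ⟨a, b, d⟩ ⟨a', b', d'⟩ hab
      obtain ⟨h1, h2, h3⟩ := h.e_eq (congrArg Subtype.val hab)
      exact Prod.ext h1 (Prod.ext h2 h3)
    · rintro ⟨x, hx⟩
      obtain ⟨a, b, d, h1⟩ := h.e_surj x hx
      exact ⟨(a, b, d), Subtype.ext h1⟩
  rw [h1, Nat.card_prod, Nat.card_prod, h.card_T]; ring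

/-- (B3), the last part: `V' ≤ V` -/
theorem eq_of_core [Finite G] {V' X' : Subgroup G} {F' T' : Type*} [Field F'] [AddCommGroup T'] [Module F' T']
    {e' : F' → T' → F' → G} {N' : T' → F'} {B' : T' → T' → F'} (h' : Core S V' R Q X' e' N' B')
    (E : Ext S V R Q D e) : V' = V := by
  classical
  have hf := h.form
  have hf' := h'.form
  have hV'S := h'.V_S
  have hV'R := h'.V_cenR
  -- the cardinalities
  have hcF : Nat.card F' = Nat.card F := by rw [← h'.card_R, ← h.card_R]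
  have hcE : Nat.card (V' ⊓ Q : Subgroup G) = Nat.card (V ⊓ Q : Subgroup G) := by
    rw [h'.card_E, h.card_E, hcF]
  have hcV : Nat.card V' = Nat.card V := by rw [h'.card_V, h.card_V, hcF]
  have hQV' : ∀ q ∈ Q, ∀ v ∈ V', q * v * q⁻¹ ∈ V' := fun q hq v hv => h'.V_nor (h'.X_V (h'.Q_X hq)) hv
  have hQV : ∀ q ∈ Q, ∀ v ∈ V, q * v * q⁻¹ ∈ V := fun q hq v hv => h.V_nor (h.X_V (h.Q_X hq)) hv
  -- elements outside `Q`
  obtain ⟨t, ht, ht1⟩ := h'.exists_two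
  have hn : ∀ d : F', d ≠ 0 → e' 0 0 d ∉ Q := fun d hd h0 => hd (h'.V_Q _ _ _ h0)
  -- Step 1: `V' ≤ C(V)`
  have step1 : V' ≤ centralizer (V : Set G) := by
    obtain ⟨v', hv', hv'Q, y, hy, hyV⟩ : ∃ v' ∈ V', v' ∉ Q ∧ ∃ y ∈ Q, v' * y⁻¹ ∈ centralizer (V : Set G) := by
      have m1 := h'.e_mem 0 0 1
      have m2 := h'.e_mem 0 0 t
      rcases h.two _ (hV'S m1) (hV'R m1) _ (hV'S m2) (hV'R m2) with h3 | h3 | h3
      · exact ⟨_, m1, hn 1 one_ne_zero, h3⟩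
      · exact ⟨_, m2, hn t ht, h3⟩
      · refine ⟨_, mul_mem m1 m2, ?_, h3⟩
        rw [← h'.e_add, add_zero, add_zero]
        exact hn _ ht1
    have h1 : ∀ a b, e a b 0 ∈ centralizer (V' : Set G) := by
      intro a b
      apply h'.cenV_of_comm (h.E_le a b) hv' hv'Q
      -- `[e a b 0, v'] ∈ R`
      obtain ⟨c, hc⟩ := h.act y hy
      have h2 : v' * e a b 0 * v'⁻¹ = e (a + B b c) b 0 := by
        have h3 : y * e a b 0 * y⁻¹ = e (a + B b c) b 0 := by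
          rw [hc, mul_zero, add_zero, zero_smul, add_zero]
        have h4 := (mem_centralizer_iff.1 hyV) _ (h.e_mem (a + B b c) b 0)
        calc v' * e a b 0 * v'⁻¹ = (v' * y⁻¹) * (y * e a b 0 * y⁻¹) * (v' * y⁻¹)⁻¹ := by group
          _ = (e (a + B b c) b 0 * (v' * y⁻¹)) * (v' * y⁻¹)⁻¹ := by rw [h3, h4]
          _ = e (a + B b c) b 0 := by group
      have h5 : e a b 0 * v' * (e a b 0)⁻¹ * v'⁻¹ = e a b 0 * (v' * e a b 0 * v'⁻¹) := by
        rw [h.e_inv]; group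
      rw [h5, h2, ← h.e_add]
      have h6 : a + (a + B b c) = B b c := by rw [← add_assoc, hf.F2, zero_add]
      have h7 : b + b = 0 := hf.T2 b
      rw [h6, h7, add_zero]
      exact h.e_R _
    intro v hv
    apply h.cenE v (hV'S hv)
    intro a b
    exact (mem_centralizer_iff.1 (h1 a b)) v hv
  -- Step 2
  have step2a : ∀ v ∈ V', ∀ d ∈ D, v * d * v⁻¹ * d⁻¹ ∈ V := by
    intro v hv d hd
    have h1 : v * d * v⁻¹ * d⁻¹ ∈ D := mul_mem (E.D_nor v (step1 hv) d hd) (inv_mem hd)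
    apply E.D_Q _ h1
    have h2 := h'.quo d (E.D_S hd) (h.cenV_cenR (E.D_V hd)) v hv
    have h3 := inv_mem h2
    have e1 : (d * v * d⁻¹ * v⁻¹)⁻¹ = v * d * v⁻¹ * d⁻¹ := by group
    rwa [e1] at h3
  have step2b : ∀ v ∈ V', ∀ w ∈ Q, w ∈ centralizer (V : Set G) → v * w * v⁻¹ * w⁻¹ ∈ V := by
    intro v' hv' w hw hwV
    obtain ⟨u, hu, d, hd, d', hd', v, hv, rfl⟩ := E.sp w hw hwV
    have c1 := (mem_centralizer_iff.1 (step1 hv')) v hv
    have h1 := step2a v' hv' d hd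
    have h2 : u⁻¹ * v' * u ∈ V' := by
      have := hQV' u⁻¹ (inv_mem hu) v' hv'
      rwa [inv_inv] at this
    have h3 := hQV u hu _ (step2a _ h2 d' hd')
    have h4 := (mem_centralizer_iff.1 (E.D_V hd)) _ h3
    have e1 : v' * (v * d * (u * d' * u⁻¹)) * v'⁻¹ * (v * d * (u * d' * u⁻¹))⁻¹ =
        (v' * v) * d * (u * d' * u⁻¹) * v'⁻¹ * (u * d' * u⁻¹)⁻¹ * d⁻¹ * v⁻¹ := by group
    have e2 : (v * v') * d * (u * d' * u⁻¹) * v'⁻¹ * (u * d' * u⁻¹)⁻¹ * d⁻¹ * v⁻¹ =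
        v * (v' * d * v'⁻¹ * d⁻¹) * (d * (u * (u⁻¹ * v' * u * d' * (u⁻¹ * v' * u)⁻¹ * d'⁻¹) * u⁻¹)) * d⁻¹ * v⁻¹ := by
      group
    rw [e1, ← c1, e2, ← h4]
    have e3 : v * (v' * d * v'⁻¹ * d⁻¹) *
        (u * (u⁻¹ * v' * u * d' * (u⁻¹ * v' * u)⁻¹ * d'⁻¹) * u⁻¹ * d) * d⁻¹ * v⁻¹ =
        v * (v' * d * v'⁻¹ * d⁻¹) * (u * (u⁻¹ * v' * u * d' * (u⁻¹ * v' * u)⁻¹ * d'⁻¹) * u⁻¹) * v⁻¹ := by group
    rw [e3]
    exact mul_mem (mul_mem (mul_mem hv h1) h3) (inv_mem hv)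
  -- if `V ∩ Q = V' ∩ Q` then `C_Q(V)` centralises `V'`
  have step3 : (V ⊓ Q : Subgroup G) = V' ⊓ Q → ∀ w ∈ Q, w ∈ centralizer (V : Set G) → w ∈ centralizer (V' : Set G) := by
    intro hEE w hw hwV
    apply h'.cenV_of_cenE hw
    intro b
    have h1 : e' 0 b 0 ∈ V ⊓ Q := by
      rw [hEE]; exact ⟨h'.e_mem _ _ _, h'.E_le _ _⟩
    exact ((mem_centralizer_iff.1 hwV) _ h1.1).symm
  -- Step 4: `V' ≤ V C_Q(V)`
  have step4 : ∀ l ∈ V', ∃ v ∈ V, ∃ w ∈ Q, w ∈ centralizer (V : Set G) ∧ l = v * w := by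
    intro l hl
    obtain ⟨v, hv, d, hd, w, hw, hwV, rfl⟩ := E.norm l (step1 hl) (step2a l hl) (step2b l hl)
    by_contra hcon
    obtain ⟨s, hs, hbig⟩ := E.big v hv d hd w hw hwV hcon
    set l := v * d * w with hldef
    have hls : s * l * s⁻¹ ∈ V' := h'.V_nor (h'.S_V hs) hl
    have hE : ∀ b, e 0 b 0 ∈ V' := by
      intro b
      obtain ⟨w₁, h1, -, w₂, h2, -, r, hr, h3⟩ := hbig b
      rw [h3]
      exact mul_mem (mul_mem (mul_mem (hQV' w₁ h1 l hl) (inv_mem hl))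
        (mul_mem (hQV' w₂ h2 _ hls) (inv_mem hls))) (h'.R_V hr)
    have hEE : (V ⊓ Q : Subgroup G) = V' ⊓ Q := by
      apply Subgroup.eq_of_le_of_card_ge _ hcE.le
      rintro x ⟨hx, hxQ⟩
      refine ⟨?_, hxQ⟩
      obtain ⟨a, b, rfl⟩ := h.mem_E hx hxQ
      have h1 : e a b 0 = e a 0 0 * e 0 b 0 := by rw [← h.e_add, add_zero, zero_add, add_zero]
      rw [h1]
      exact mul_mem (h'.R_V (h.e_R a)) (hE b)
    have hc := step3 hEE
    obtain ⟨b, -, hb⟩ := hf.exists_ne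
    obtain ⟨w₁, h1, h1V, w₂, h2, h2V, r, hr, h3⟩ := hbig b
    have c1 := (mem_centralizer_iff.1 (hc w₁ h1 h1V)) l hl
    have c2 := (mem_centralizer_iff.1 (hc w₂ h2 h2V)) _ hls
    rw [← c1, ← c2, mul_inv_cancel_right, mul_inv_cancel, mul_inv_cancel_right, mul_inv_cancel, one_mul, one_mul] at h3
    rw [← h3] at hr
    exact hb (h.of_mem_R hr).1
  -- Step 5: `V' ∩ Q = V ∩ Q`
  have hEE : (V ⊓ Q : Subgroup G) = V' ⊓ Q := by
    symm
    apply Subgroup.eq_of_le_of_card_ge _ hcE.ge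
    obtain ⟨v, hv, w, hw, hwV, hvw⟩ := step4 _ (h'.e_mem 0 0 1)
    rintro x ⟨hx, hxQ⟩
    refine ⟨?_, hxQ⟩
    obtain ⟨a, c, rfl⟩ := h'.mem_E hx hxQ
    obtain ⟨q, hq, hqa⟩ := h'.act_surj c
    have h1 : e' a c 0 = q * e' 0 0 1 * q⁻¹ * (e' 0 0 1)⁻¹ * e' (a + N' c) 0 0 := by
      rw [hqa, h'.e_inv, ← h'.e_add, ← h'.e_add]
      have e2 : 0 + B' 0 c + N' c * 1 + 0 + (a + N' c) = a := by
        rw [hf'.zero_B]
        linear_combination hf'.F2 (N' c)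
      have e3 : 0 + (1 : F') • c + 0 + 0 = c := by rw [one_smul]; simp
      have e4 : 1 + 1 + (0 : F') = 0 := by rw [hf'.F2]; simp
      rw [e2, e3, e4]
    rw [h1, hvw]
    have h2 : q * (v * w) * q⁻¹ * (v * w)⁻¹ = (q * v * q⁻¹ * v⁻¹) * (v * (q * w * q⁻¹ * w⁻¹) * v⁻¹) := by group
    rw [h2]
    have h3 : q * v * q⁻¹ * v⁻¹ ∈ V := mul_mem (hQV q hq v hv) (inv_mem hv)
    have h4 : v * (q * w * q⁻¹ * w⁻¹) * v⁻¹ ∈ V := mul_mem (mul_mem hv (h.R_V (h.QQ q hq w hw))) (inv_mem hv)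
    have h5 : q * v * q⁻¹ * v⁻¹ * (v * (q * w * q⁻¹ * w⁻¹) * v⁻¹) * e' (a + N' c) 0 0 ∈ V :=
      mul_mem (mul_mem h3 h4) (h.R_V (h'.e_R _))
    exact h5
  have hc := step3 hEE
  -- `V' ≤ V`
  apply Subgroup.eq_of_le_of_card_ge _ hcV.ge
  intro l hl
  obtain ⟨v, hv, w, hw, hwV, rfl⟩ := step4 l hl
  have h1 : w ∈ V := by
    apply E.cc w hw
    intro y hy hyV
    have c1 := (mem_centralizer_iff.1 (hc y hy hyV)) _ hl
    have c2 := (mem_centralizer_iff.1 hyV) v hv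
    calc y * w = v⁻¹ * (v * y) * w := by group
      _ = v⁻¹ * (y * v) * w := by rw [c2]
      _ = v⁻¹ * (y * (v * w)) := by group
      _ = v⁻¹ * ((v * w) * y) := by rw [c1]
      _ = w * y := by group
  exact mul_mem hv h1

end card

section sylow

variable [Finite G] (S : Sylow 2 G) (h : Core (S : Subgroup G) V R Q X e N B) (hG : IsCharacteristicTwoType G)
  (hZ : zc (S : Subgroup G) ≠ ⊥) (E : Ext (S : Subgroup G) V R Q D e)
include h hG hZ E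

/-- **(B2)** `V_P ≤ Q` implies `V_P ≤ R`. -/
theorem zl_le_R {P : Subgroup G} (hP : IsParS (S : Subgroup G) P) (hUQ : zl (S : Subgroup G) P ≤ Q) :
    zl (S : Subgroup G) P ≤ R := by
  classical
  by_contra hUR
  have hf := h.form
  set U := zl (S : Subgroup G) P with hU
  have hQS : Q ≤ (S : Subgroup G) := h.Q_S fun U hU hSU => le_of_le_normalizer S hU hSU
  have hQP : Q ≤ P := hQS.trans hP.le
  have hUP : ∀ g ∈ P, ∀ u ∈ U, g * u * g⁻¹ ∈ U := fun g hg u hu =>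
    (mem_normalizer_iff.1 (le_normalizer_zl _ _ hg) u).1 hu
  have hUP' : ∀ g ∈ P, ∀ u ∈ U, g⁻¹ * u * g ∈ U := fun g hg u hu => by
    have := hUP g⁻¹ (inv_mem hg) u hu
    rwa [inv_inv] at this
  have hSU : (S : Subgroup G) ≤ normalizer (U : Set G) := hP.le.trans (le_normalizer_zl _ _)
  have hUc : ∀ x ∈ U, ∀ y ∈ U, x * y = y * x := by
    intro x hx y hy
    exact zc_comm _ _ (hP.isLoc.zl_le S hG hx) _ (hP.isLoc.zl_le S hG hy)
  -- `R ≤ U`
  have hRU : R ≤ U := by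
    obtain ⟨w, hw, hwR⟩ := SetLike.not_le_iff_exists.1 hUR
    intro r hr
    obtain ⟨n, hn, h1⟩ := h.semi w (hUQ hw) hwR r hr
    rw [← h1]
    exact mul_mem (hUP n (hQP hn) w hw) (inv_mem hw)
  -- `U` is the union of the `cj g R`
  have hcov : ∀ u ∈ U, ∃ g ∈ P, u ∈ cj g R := by
    let T' : Subgroup G :=
      { carrier := {u | u ∈ U ∧ ∃ g ∈ P, u ∈ cj g R}
        one_mem' := ⟨one_mem _, 1, one_mem _, one_mem _⟩
        inv_mem' := by
          rintro u ⟨hu, g, hg, hug⟩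
          exact ⟨inv_mem hu, g, hg, inv_mem hug⟩
        mul_mem' := by
          rintro a b ⟨ha, g, hg, hag⟩ ⟨hb, k, hk, hbk⟩
          refine ⟨mul_mem ha hb, ?_⟩
          -- conjugate by `g⁻¹`
          have ha' : g⁻¹ * a * g ∈ R := mem_cj.1 hag
          have hb' : g⁻¹ * b * g ∈ U := hUP' g hg b hb
          by_cases hbR : g⁻¹ * b * g ∈ R
          · refine ⟨g, hg, mem_cj.2 ?_⟩
            have e1 : g⁻¹ * (a * b) * g = g⁻¹ * a * g * (g⁻¹ * b * g) := by group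
            rw [e1]; exact mul_mem ha' hbR
          · obtain ⟨n, hn, h1⟩ := h.semi _ (hUQ hb') hbR _ ha'
            refine ⟨g * n * g⁻¹ * k, mul_mem (mul_mem (mul_mem hg (hQP hn)) (inv_mem hg)) hk, mem_cj.2 ?_⟩
            have e1 : (g * n * g⁻¹ * k)⁻¹ * (a * b) * (g * n * g⁻¹ * k) = k⁻¹ * b * k := by
              have e2 : a * b = g * (g⁻¹ * a * g * (g⁻¹ * b * g)) * g⁻¹ := by group
              rw [e2, ← h1]; group
            rw [e1]; exact mem_cj.1 hbk }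
    have h1 : U ≤ T' := by
      apply zl_le
      · intro z hz
        refine ⟨zc_le_zl _ _ hz, 1, one_mem _, mem_cj.2 ?_⟩
        rw [inv_one, one_mul, mul_one]
        exact h.Z_R hz
      · intro p hp
        apply mem_norm_of
        · rintro u ⟨hu, g, hg, hug⟩
          refine ⟨hUP p hp u hu, p * g, mul_mem hp hg, mem_cj.2 ?_⟩
          have e1 : (p * g)⁻¹ * (p * u * p⁻¹) * (p * g) = g⁻¹ * u * g := by group
          rw [e1]; exact mem_cj.1 hug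
        · rintro u ⟨hu, g, hg, hug⟩
          refine ⟨hUP' p hp u hu, p⁻¹ * g, mul_mem (inv_mem hp) hg, mem_cj.2 ?_⟩
          have e1 : (p⁻¹ * g)⁻¹ * (p⁻¹ * u * p) * (p⁻¹ * g) = g⁻¹ * u * g := by group
          rw [e1]; exact mem_cj.1 hug
    exact fun u hu => (h1 hu).2
  -- `w ∈ U ∩ V - R`
  obtain ⟨w, hw, hwR, hws⟩ := exists_fix_mod S.isPGroup' (hUQ.trans hQS) hUR hSU h.S_R
  have hwQ := hUQ hw
  have hwV : w ∈ centralizer (V : Set G) := by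
    apply h.cenV_of_comm hwQ (h.e_mem 0 0 1) h.exists_not_Q
    have h1 := inv_mem (hws _ (h.V_S (h.e_mem 0 0 1)))
    have e1 : (e 0 0 1 * w * (e 0 0 1)⁻¹ * w⁻¹)⁻¹ = w * e 0 0 1 * w⁻¹ * (e 0 0 1)⁻¹ := by group
    rwa [e1] at h1
  have hwD : ∀ d ∈ D, w * d = d * w := by
    intro d hd
    have h1 : w * d * w⁻¹ * d⁻¹ ∈ D := mul_mem (E.D_nor w hwV d hd) (inv_mem hd)
    have h2 : w * d * w⁻¹ * d⁻¹ ∈ R := by
      have h3 := inv_mem (hws d (E.D_S hd))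
      have e1 : (d * w * d⁻¹ * w⁻¹)⁻¹ = w * d * w⁻¹ * d⁻¹ := by group
      rwa [e1] at h3
    have h3 := E.D_R _ h1 h2
    calc w * d = (w * d * w⁻¹ * d⁻¹) * (d * w) := by group
      _ = d * w := by rw [h3, one_mul]
  have hwv : w ∈ V := by
    apply E.cc w hwQ
    intro y hy hyV
    obtain ⟨u, hu, d, hd, d', hd', v, hv, rfl⟩ := E.sp y hy hyV
    have c1 := (mem_centralizer_iff.1 hwV) v hv
    have c2 := hwD d hd
    -- `w^u ∈ w R`
    have h1 : u⁻¹ * w * u * w⁻¹ ∈ R := by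
      have := h.QQ u⁻¹ (inv_mem hu) w hwQ
      rwa [inv_inv] at this
    have c3 : u⁻¹ * w * u * d' = d' * (u⁻¹ * w * u) := by
      have c4 := (mem_centralizer_iff.1 (E.D_V hd')) _ (h.R_V h1)
      have c5 := hwD d' hd'
      calc u⁻¹ * w * u * d' = (u⁻¹ * w * u * w⁻¹) * (w * d') := by group
        _ = (u⁻¹ * w * u * w⁻¹) * (d' * w) := by rw [c5]
        _ = ((u⁻¹ * w * u * w⁻¹) * d') * w := by group
        _ = (d' * (u⁻¹ * w * u * w⁻¹)) * w := by rw [c4]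
        _ = d' * (u⁻¹ * w * u) := by group
    have c6 : w * (u * d' * u⁻¹) = (u * d' * u⁻¹) * w := by
      calc w * (u * d' * u⁻¹) = u * (u⁻¹ * w * u * d') * u⁻¹ := by group
        _ = u * (d' * (u⁻¹ * w * u)) * u⁻¹ := by rw [c3]
        _ = (u * d' * u⁻¹) * w := by group
    calc v * d * (u * d' * u⁻¹) * w = v * d * ((u * d' * u⁻¹) * w) := by group
      _ = v * (d * w) * (u * d' * u⁻¹) := by rw [← c6]; group
      _ = (v * w) * d * (u * d' * u⁻¹) := by rw [← c2]; group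
      _ = w * (v * d * (u * d' * u⁻¹)) := by rw [c1]; group
  obtain ⟨a, b, rfl⟩ := h.mem_E hwv hwQ
  have hb0 : b ≠ 0 := by
    rintro rfl
    exact hwR (h.e_R a)
  -- a nonsingular vector in `U ∩ V ∩ Q`
  obtain ⟨a₁, b₁, hb₁, hx₁⟩ : ∃ a b, N b ≠ 0 ∧ e a b 0 ∈ U := by
    rcases h.ns b hb0 with h1 | ⟨s, hs, h1⟩
    · exact ⟨a, b, h1, hw⟩
    · obtain ⟨a', b', h2, h3⟩ := h1 a
      refine ⟨a + a', b + b', h3, ?_⟩
      have h4 : e (a + a') (b + b') 0 = e a b 0 * e a' b' 0 := by rw [← h.e_add, add_zero]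
      rw [h4, ← h2]
      exact mul_mem hw (hUP s (hP.le hs) _ hw)
  -- `(0, b, 0) ∈ U`
  have hx₀ : e 0 b₁ 0 ∈ U := by
    obtain ⟨c, hc⟩ := hf.B_surj b₁ (hf.ne_zero_of_N hb₁) a₁
    obtain ⟨q, hq, hqa⟩ := h.act_surj c
    have h1 := hUP q (hQP hq) _ hx₁
    rwa [hqa, hc, mul_zero, add_zero, hf.F2, zero_smul, add_zero] at h1
  have hx1 : e 0 b₁ 0 ≠ 1 := fun h0 => hf.ne_zero_of_N hb₁ (h.e_inj _ _ _ h0).2.1
  obtain ⟨g, hg, hxg⟩ := hcov _ hx₀
  -- `R_x ≤ U`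
  have hRxU : ∀ r ∈ cj g R, r ∈ U := by
    intro r hr
    have h1 := hUP g hg _ (hRU (mem_cj.1 hr))
    have e1 : g * (g⁻¹ * r * g) * g⁻¹ = r := by group
    rwa [e1] at h1
  have hdis : ∀ r ∈ R, r ∈ cj g R → r = 1 := by
    intro r hr hrg
    by_contra hr1
    have h1 := (h.cj_eq S hG hZ hr hr1 hrg _).1 hxg
    exact hf.ne_zero_of_N hb₁ (h.of_mem_R h1).1
  have hRxV : cj g R ≤ V := by
    intro r hr
    apply E.cc r (hUQ (hRxU r hr))
    intro y hy hyV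
    have c1 := ((mem_centralizer_iff.1 hyV) _ (h.e_mem 0 b₁ 0)).symm
    have h1 := h.cen_cj_R S hG hZ hxg hx1 c1 hr
    have h2 : y * r * y⁻¹ * r⁻¹ ∈ cj g R := mul_mem h1 (inv_mem hr)
    have h3 := hdis _ (h.QQ y hy r (hUQ (hRxU r hr))) h2
    calc y * r = (y * r * y⁻¹ * r⁻¹) * (r * y) := by group
      _ = r * y := by rw [h3, one_mul]
  refine h.lemW S hG hZ hb₁ (h.line_of S hG hZ hb₁ hRxV hxg) ?_
  intro r hr
  exact mem_cj.2 (hUQ (hUP' g hg r (hRU hr)))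

/-- **THEOREM ALL-N1**: every `P ∈ P(S)` lies in `N_G(R)` or in `N_G(V)`. -/
theorem par_le (hty : ∀ P : Subgroup G, IsParS (S : Subgroup G) P →
      ¬ zl (S : Subgroup G) P ≤ o2 (CZ (S : Subgroup G)) →
      ∃ (F' T' : Type) (_ : Field F') (_ : AddCommGroup T') (_ : Module F' T') (R' Q' X' : Subgroup G)
        (e' : F' → T' → F' → G) (N' : T' → F') (B' : T' → T' → F'),
        Core (S : Subgroup G) (zl (S : Subgroup G) P) R' Q' X' e' N' B')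
    {P : Subgroup G} (hP : IsPar (S : Subgroup G) P) :
    P ≤ normalizer (R : Set G) ∨ P ≤ normalizer (V : Set G) := by
  by_cases hstar : P ≤ normalizer (zc (S : Subgroup G) : Set G)
  · exact Or.inl (hstar.trans (h.normalizer_zc_le S hG hZ))
  have hPs : IsParS (S : Subgroup G) P := ⟨hP, hstar⟩
  have hCZ := h.o2_CZ S hG hZ
  obtain ⟨z, hz1⟩ := Subgroup.ne_bot_iff_exists_ne_one.1 hZ
  have hz1' : (z : G) ≠ 1 := fun h0 => hz1 (Subtype.ext h0)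
  by_cases hUQ : zl (S : Subgroup G) P ≤ Q
  · left
    have hUR := h.zl_le_R S hG hZ E hPs hUQ
    intro p hp
    apply h.ti S hG hZ (h.Z_R z.2) hz1'
    exact hUR ((mem_normalizer_iff.1 (le_normalizer_zl _ _ hp) _).1 (zc_le_zl _ _ z.2))
  · right
    obtain ⟨F', T', _, _, _, R', Q', X', e', N', B', h'⟩ := hty P hPs (by rwa [hCZ])
    have hQ : Q' = Q := by
      rw [← h'.o2_eq_zc S hG z.2 hz1', ← h.o2_eq_zc S hG z.2 hz1']
    subst hQ
    have hR : R' = R := by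
      apply le_antisymm
      · intro r hr
        apply h.mem_R_of_cen (h'.R_Q hr)
        intro y hy
        exact ((mem_centralizer_iff.1 (h'.Q_cen hy)) r hr).symm
      · intro r hr
        apply h'.mem_R_of_cen (h.R_Q hr)
        intro y hy
        exact ((mem_centralizer_iff.1 (h.Q_cen hy)) r hr).symm
    subst hR
    have h1 := h.eq_of_core h' E
    rw [← h1]
    exact le_normalizer_zl _ _

end sylow

end Core

end Cfsg.Agent.Omega.All.NOne
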