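import Cfsg.Agent.Omega.All.NOne.TwoExt
import Cfsg.Agent.Omega.NO1.Gamma.OfCore

/-!
# THEOREM ALL-N1: the two-point data for type (γ)

* `Gin0.surj_swap` : the swap maps `{v 0 b 0 0}` onto `{v a 0 c 0}` modulo `R`;
* `Gin1.pair` : `Pair` for two opposite points of the grid;
* `Gin1.ext` : `Ext` for type (γ).
-/

set_option autoImplicit false
set_option linter.unusedVariables false
set_option linter.unusedSectionVars false

open Subgroup
open scoped Pointwise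

namespace Cfsg.Agent.Omega.NO1.Gamma

open Cfsg Cfsg.Agent.ZN
open Cfsg.Agent.Omega.NO1.Beta.Meet (cj mem_cj)

universe u

variable {G : Type u} [Group G] {I J : Type*} {F : Type*} [Field F] {S : Sylow 2 G} {V : Subgroup G}
  {R Q : I → J → Subgroup G} {i0 i1 : I} {j0 j1 : J} {v : F → F → F → F → G} {p p' : G → F}

/-- A column-valued additive map: the swap maps `{v 0 b 0 0}` onto `{v a 0 c 0}` modulo `R i0 j0`. -/
theorem Gin0.surj_swap [Finite F] (h : Gin0 F S V R Q i0 i1 j0 j1 v p p') {s : G}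
    (hs : s ∈ normalizer (R i0 j0 : Set G)) {σ : J → I} {τ : I → J}
    (h1 : ∀ i j, cj s (R i j) = R (σ j) (τ i)) (c : F) :
    ∃ b a, s * v 0 b 0 0 * s⁻¹ = v a 0 c 0 := by
  have := h.nonI
  have := h.nonJ
  have h2 : R (σ j0) (τ i0) = R i0 j0 := by
    rw [← h1, Cfsg.Agent.Omega.NO1.Beta.Meet.cj_of_mem_normalizer hs]
  have hτ : τ i0 = j0 := (h.grid.inj h2).2
  have key : ∀ b, ∃ a c, s * v 0 b 0 0 * s⁻¹ = v a 0 c 0 := by
    intro b
    have h3 : s * v 0 b 0 0 * s⁻¹ ∈ R (σ j1) (τ i0) :=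
      mem_of_cj (h1 i0 j1) ((h.R01 _).2 ⟨b, rfl⟩)
    rw [hτ] at h3
    obtain ⟨a, b', c', d', h4⟩ := h.v_surj _ (h.grid.R_le _ _ h3)
    have h5 := h.grid.transpose.R_row _ _ h3
    rw [← h4] at h5
    obtain ⟨h6, h7⟩ := (h.transpose.row_V a c' b' d').1 h5
    exact ⟨a, c', by rw [← h4, h6, h7]⟩
  choose f g hfg using key
  have hinj : Function.Injective g := by
    intro b b' hbb
    have h3 : s * v 0 (b + b') 0 0 * s⁻¹ = v (f b + f b') 0 0 0 := by
      have e1 : v 0 (b + b') 0 0 = v 0 b 0 0 * v 0 b' 0 0 := by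
        rw [← h.v_add]; simp only [add_zero]
      have e2 : s * (v 0 b 0 0 * v 0 b' 0 0) * s⁻¹ = (s * v 0 b 0 0 * s⁻¹) * (s * v 0 b' 0 0 * s⁻¹) := by group
      rw [e1, e2, hfg, hfg, ← h.v_add, hbb]
      simp only [h.dbl]
    have h4 : v 0 (b + b') 0 0 ∈ R i0 j0 := by
      rw [mem_normalizer_iff.1 hs, h3]
      exact (h.R00 _).2 ⟨_, rfl⟩
    obtain ⟨a, ha⟩ := (h.R00 _).1 h4
    have h5 := (h.inj ha).2.1
    linear_combination h5 - b' * h.two
  obtain ⟨b, hb⟩ := (Finite.injective_iff_surjective.1 hinj) c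
  exact ⟨b, f b, by rw [hfg, hb]⟩

namespace Gin1

variable (h : Gin1 F S V R Q i0 i1 j0 j1 v p p')
include h

/-- **The two-point data for type (γ).** -/
theorem pair [Finite G] [Finite F] (hG : IsCharacteristicTwoType G) (hZ : zc (S : Subgroup G) ≠ ⊥) :
    All.NOne.Pair (S : Subgroup G) V (R i0 j0) (Q i0 j0) (R i1 j1) (Q i1 j1)
      (fun a (b : F × F) d => v a b.1 b.2 d) (fun b => b.1 * b.2) (fun b c => b.1 * c.2 + b.2 * c.1) := by
  have h0 := h.gin0 hG hZ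
  refine All.NOne.Pair.of_core h.core ?_ ?_ ?_ (h.char2 hG hZ) ?_ S.isPGroup' ?_
  · intro r
    rw [h.R11]
    exact exists_congr fun a => ⟨fun e => e.symm, fun e => e.symm⟩
  · intro b _
    obtain ⟨x, hx, h1⟩ := h.act' b.2 b.1
    refine ⟨x, hx, fun a y d => ?_⟩
    change x * v a y.1 y.2 d * x⁻¹ = v a (y.1 + a * b.1) (y.2 + a * b.2) (d + (y.1 * b.2 + y.2 * b.1) + b.1 * b.2 * a)
    rw [h1]
    congr 1 <;> ring
  · obtain ⟨x, -, h1⟩ := h.grid.exists_move i0 i1 j0 j1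
    have h2 := h.grid.conj x _ _ _ _ h1
    have e : ∀ H : Subgroup G, All.NOne.cj x H = cj x H := by
      intro H
      ext y
      rw [All.NOne.mem_cj, mem_cj]
    rw [← h2, ← h1, ← e, ← e, h.core.Q_eq, All.NOne.Pair.cj_o2, All.NOne.Pair.cj_norm]
  · exact h.grid.meet i0 j0 i1 j1 h.hi.symm h.hj.symm
  · obtain ⟨s, hs, σ, τ, h1⟩ := h.swap
    have hsR := h.core.S_R hs
    intro A hA
    refine ⟨s, hs, fun b => ?_⟩
    by_cases hc : ∃ c ∈ A, c.1 ≠ 0
    · obtain ⟨c, hcA, hc1⟩ := hc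
      have hc2 : c.2 = 0 := (mul_eq_zero.1 (hA c hcA)).resolve_left hc1
      have hA2 : ∀ c' ∈ A, c'.2 = 0 := by
        intro c' hc'
        by_contra hne
        have h3 : c'.1 = 0 := (mul_eq_zero.1 (hA c' hc')).resolve_right hne
        have h4 := hA (c + c') (A.add_mem hcA hc')
        simp only [Prod.fst_add, Prod.snd_add, hc2, h3, add_zero, zero_add] at h4
        exact mul_ne_zero hc1 hne h4
      obtain ⟨i', a, h3⟩ := h0.surj_swap hsR h1 b.2
      refine ⟨a, (b.1, 0), (i', 0), fun c' hc' => ?_, fun c' hc' => ?_, ?_⟩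
      · simp [hA2 c' hc']
      · simp [hA2 c' hc']
      · change v 0 b.1 b.2 0 = v a 0 0 0 * v 0 b.1 0 0 * (s * v 0 i' 0 0 * s⁻¹)
        rw [h3, ← h.v_add, ← h.v_add]
        simp only [add_zero, zero_add, h0.dbl]
    · push Not at hc
      obtain ⟨i', a, h3⟩ := h0.transpose.surj_swap (σ := τ) (τ := σ) hsR (fun j i => h1 i j) b.1
      refine ⟨a, (0, b.2), (0, i'), fun c' hc' => ?_, fun c' hc' => ?_, ?_⟩
      · simp [hc c' hc']
      · simp [hc c' hc']
      · change v 0 b.1 b.2 0 = v a 0 0 0 * v 0 0 b.2 0 * (s * v 0 0 i' 0 * s⁻¹)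
        have h4 : s * v 0 0 i' 0 * s⁻¹ = v a b.1 0 0 := h3
        rw [h4, ← h.v_add, ← h.v_add]
        simp only [add_zero, zero_add, h0.dbl]

/-- **`Ext` for type (γ).** -/
theorem ext [Finite G] [Finite F] (hG : IsCharacteristicTwoType G) (hZ : zc (S : Subgroup G) ≠ ⊥) :
    All.NOne.Ext (S : Subgroup G) V (R i0 j0) (Q i0 j0) (centralizer (V : Set G) ⊓ Q i1 j1)
      (fun a (b : F × F) d => v a b.1 b.2 d) :=
  (h.pair hG hZ).ext

end Gin1

end Cfsg.Agent.Omega.NO1.Gamma
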