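import Cfsg.Agent.Omega.All.NOne.Ti
import Cfsg.Agent.Omega.All.NOne.Conj

/-!
# THEOREM ALL-N1: the small types do not coexist with `Core` (bb #16847 (4), helper983)

`Core S V R Q X e N B` (`|R| = q ≥ 4`), `P'` another member of `P*(S)` with `V' = zl S P' ≰ Q`.

* `Core.cenQ_le` : `C_G(Q) ≤ Q`;
* `Core.mem_Q_of_triv` : an element of `C(R)` trivial on `Q/R` is in `Q`;
* `Core.R_le_of` : `W ≤ S`, `S ≤ N(W)`, `W ≰ Q` imply `R ≤ W` and `W ∩ Q ≰ R`;
* `Core.card_R_of` : `|W| = 16` implies `|R| = 4`.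
-/

set_option autoImplicit false
set_option linter.unusedSectionVars false

namespace Cfsg.Agent.Omega.All.NOne

open Subgroup Cfsg Cfsg.Agent.ZN Cfsg.Agent.Omega.MinPar
open Cfsg.Agent.MinSimple.VModule (le_o2 o2_le o2_isPGroup le_normalizer_o2 mem_zc zc_le)
open Cfsg.Agent.Omega.FrameNOFF (CZ)

universe u

variable {G : Type u} [Group G]

/-- a group of order 4 with two different involutions -/
theorem mem_of_card_four {R : Subgroup G} (hR : Nat.card R = 4) {z a : G} (hz : z ∈ R) (ha : a ∈ R)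
    (hz1 : z ≠ 1) (ha1 : a ≠ 1) (haz : a ≠ z) (hz2 : z * z = 1) {x : G} (hx : x ∈ R) :
    x = 1 ∨ x = z ∨ x = a ∨ x = a * z := by
  classical
  have hfin : Finite R := Nat.finite_of_card_ne_zero (by rw [hR]; norm_num)
  have := Fintype.ofFinite R
  have hc : Fintype.card R = 4 := by rw [← Nat.card_eq_fintype_card, hR]
  let z' : R := ⟨z, hz⟩
  let a' : R := ⟨a, ha⟩
  have h1 : z' ≠ 1 := fun h => hz1 (congrArg Subtype.val h)
  have h2 : a' ≠ 1 := fun h => ha1 (congrArg Subtype.val h)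
  have h3 : a' ≠ z' := fun h => haz (congrArg Subtype.val h)
  have h4 : a' * z' ≠ a' := fun h => h1 (mul_eq_left.1 h)
  have h5 : a' * z' ≠ z' := fun h => h2 (mul_eq_right.1 h)
  have h6 : a' * z' ≠ 1 := by
    intro h
    apply h3
    have h7 : z' * z' = 1 := Subtype.ext hz2
    calc a' = a' * (z' * z') := by rw [h7, mul_one]
      _ = a' * z' * z' := by group
      _ = z' := by rw [h, one_mul]
  have h7 : ({1, z', a', a' * z'} : Finset R) = Finset.univ := by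
    apply Finset.eq_univ_of_card
    rw [hc, Finset.card_insert_of_notMem, Finset.card_insert_of_notMem, Finset.card_insert_of_notMem,
      Finset.card_singleton]
    · rw [Finset.mem_singleton]; exact h4.symm
    · rw [Finset.mem_insert, Finset.mem_singleton]
      push Not
      exact ⟨h3.symm, h5.symm⟩
    · rw [Finset.mem_insert, Finset.mem_insert, Finset.mem_singleton]
      push Not
      exact ⟨h1.symm, h2.symm, h6.symm⟩
  have h8 : (⟨x, hx⟩ : R) ∈ ({1, z', a', a' * z'} : Finset R) := by rw [h7]; exact Finset.mem_univ _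
  rw [Finset.mem_insert, Finset.mem_insert, Finset.mem_insert, Finset.mem_singleton] at h8
  rcases h8 with h8 | h8 | h8 | h8
  · exact Or.inl (congrArg Subtype.val h8)
  · exact Or.inr (Or.inl (congrArg Subtype.val h8))
  · exact Or.inr (Or.inr (Or.inl (congrArg Subtype.val h8)))
  · exact Or.inr (Or.inr (Or.inr (congrArg Subtype.val h8)))

namespace Core

variable {F T : Type*} [Field F] [AddCommGroup T] [Module F T]
  {V R Q X : Subgroup G} {e : F → T → F → G} {N : T → F} {B : T → T → F}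

variable [Finite G] (S : Sylow 2 G) (h : Core (S : Subgroup G) V R Q X e N B) (hG : IsCharacteristicTwoType G)
  (hZ : zc (S : Subgroup G) ≠ ⊥)
include h hG hZ

/-- `C_G(Q) ≤ Q` -/
theorem cenQ_le : centralizer (Q : Set G) ≤ Q := by
  obtain ⟨z, hz1⟩ := Subgroup.ne_bot_iff_exists_ne_one.1 hZ
  have hz1' : (z : G) ≠ 1 := fun h0 => hz1 (Subtype.ext h0)
  have hzR : (z : G) ∈ R := h.Z_R z.2
  set L := centralizer ({(z : G)} : Set G) with hL
  have hSL : (S : Subgroup G) ≤ L := by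
    intro s hs
    rw [hL, mem_centralizer_singleton_iff]
    exact (mem_zc.1 z.2).2.1 s hs
  have hloc : IsLoc (S : Subgroup G) L := isLoc_centralizer S (mem_zc.1 z.2).2.2 hz1' hSL
  have hchar := hloc.char2 S hG
  rw [h.o2_eq_zc S hG z.2 hz1'] at hchar
  refine le_trans (le_inf ?_ le_rfl) hchar
  intro x hx
  rw [hL, mem_centralizer_singleton_iff]
  exact ((mem_centralizer_iff.1 hx) z (h.R_Q hzR)).symm

omit hZ hG in
theorem Q_two : IsPGroup 2 Q := by rw [h.Q_eq]; exact o2_isPGroup _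

/-- an element of `C(R)` trivial on `Q/R` is in `Q` -/
theorem mem_Q_of_triv {k : G} (hk : k ∈ centralizer (R : Set G)) (hkQ : ∀ x ∈ Q, k * x * k⁻¹ * x⁻¹ ∈ R) :
    k ∈ Q := by
  have cR : ∀ {k r : G}, k ∈ centralizer (R : Set G) → r ∈ R → k * r * k⁻¹ = r := by
    intro k r hk hr
    rw [← (mem_centralizer_iff.1 hk) r hr, mul_inv_cancel_right]
  let W : Subgroup G :=
    { carrier := {k | k ∈ centralizer (R : Set G) ∧ ∀ x ∈ Q, k * x * k⁻¹ * x⁻¹ ∈ R}
      one_mem' := ⟨one_mem _, fun x hx => by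
        have e1 : 1 * x * 1⁻¹ * x⁻¹ = 1 := by group
        rw [e1]; exact one_mem _⟩
      mul_mem' := by
        rintro a b ⟨ha, ha'⟩ ⟨hb, hb'⟩
        refine ⟨mul_mem ha hb, fun x hx => ?_⟩
        have e1 : a * b * x * (a * b)⁻¹ * x⁻¹ = (a * (b * x * b⁻¹ * x⁻¹) * a⁻¹) * (a * x * a⁻¹ * x⁻¹) := by group
        rw [e1, cR ha (hb' x hx)]
        exact mul_mem (hb' x hx) (ha' x hx)
      inv_mem' := by
        rintro a ⟨ha, ha'⟩
        refine ⟨inv_mem ha, fun x hx => ?_⟩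
        have e1 : a⁻¹ * x * a⁻¹⁻¹ * x⁻¹ = a⁻¹ * (a * x * a⁻¹ * x⁻¹)⁻¹ * a⁻¹⁻¹ := by group
        rw [e1, cR (inv_mem ha) (inv_mem (ha' x hx))]
        exact inv_mem (ha' x hx) }
  have hW2 : IsPGroup 2 W := by
    rintro ⟨g, hg, hg'⟩
    have h2 : g * g ∈ Q := by
      apply h.cenQ_le S hG hZ
      rw [mem_centralizer_iff]
      intro x hx
      have h3 := hg' x hx
      have h4 := cR hg h3
      have h5 : (g * x * g⁻¹ * x⁻¹) * (g * x * g⁻¹ * x⁻¹) = 1 := h.V_sq (h.R_V h3)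
      have h6 : g * g * x * (g * g)⁻¹ = (g * (g * x * g⁻¹ * x⁻¹) * g⁻¹) * (g * x * g⁻¹ * x⁻¹) * x := by group
      rw [h4, h5, one_mul] at h6
      calc x * (g * g) = (g * g * x * (g * g)⁻¹) * (g * g) := by rw [h6]
        _ = g * g * x := by group
    obtain ⟨n, hn⟩ := h.Q_two S ⟨g * g, h2⟩
    refine ⟨n + 1, ?_⟩
    have h3 : (g * g) ^ 2 ^ n = 1 := congrArg Subtype.val hn
    refine Subtype.ext ?_
    rw [Subgroup.coe_pow, pow_succ', pow_mul, pow_two]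
    exact h3
  have key : ∀ g ∈ normalizer (R : Set G), ∀ x ∈ W, g * x * g⁻¹ ∈ W := by
    rintro g hg x ⟨hx, hx'⟩
    refine ⟨?_, fun y hy => ?_⟩
    · rw [mem_centralizer_iff]
      intro r hr
      have h1 : g⁻¹ * r * g ∈ R := h.R_nor' hg hr
      have h2 := (mem_centralizer_iff.1 hx) _ h1
      calc r * (g * x * g⁻¹) = g * (g⁻¹ * r * g * x) * g⁻¹ := by group
        _ = g * (x * (g⁻¹ * r * g)) * g⁻¹ := by rw [h2]
        _ = g * x * g⁻¹ * r := by group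
    · have h1 := hx' _ (h.Q_nor' hg hy)
      have h2 := h.R_nor hg h1
      have e1 : g * (x * (g⁻¹ * y * g) * x⁻¹ * (g⁻¹ * y * g)⁻¹) * g⁻¹ = g * x * g⁻¹ * y * (g * x * g⁻¹)⁻¹ * y⁻¹ := by
        group
      rwa [e1] at h2
  have hW : W ≤ o2 (normalizer (R : Set G)) := by
    apply le_o2 _ hW2
    · intro g hg
      rw [mem_normalizer_iff]
      intro x
      constructor
      · exact key g hg x
      · intro hx
        have := key g⁻¹ (inv_mem hg) _ hx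
        have e : g⁻¹ * (g * x * g⁻¹) * g⁻¹⁻¹ = x := by group
        rwa [e] at this
    · intro x hx
      exact h.cenR_norm hx.1
  rw [← h.Q_eq] at hW
  exact hW ⟨hk, hkQ⟩

/-- `W ≤ S` normalised by `S`, not in `Q`: `R ≤ W` and `W ∩ Q ≰ R` -/
theorem R_le_of {W : Subgroup G} (hWS : W ≤ (S : Subgroup G)) (hSW : (S : Subgroup G) ≤ normalizer (W : Set G))
    (hWQ : ¬ W ≤ Q) : R ≤ W ∧ ∃ w ∈ W, w ∈ Q ∧ w ∉ R := by
  have hQS : Q ≤ (S : Subgroup G) := h.Q_S fun U hU hSU => le_of_le_normalizer S hU hSU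
  have h1 : ∃ w ∈ W, w ∈ Q ∧ w ∉ R := by
    by_contra hcon
    push Not at hcon
    obtain ⟨w, hw, hwQ⟩ := SetLike.not_le_iff_exists.1 hWQ
    apply hwQ
    have hwN : w ∈ normalizer (R : Set G) := h.S_R (hWS hw)
    have h2 : ∀ x ∈ Q, w * x * w⁻¹ * x⁻¹ ∈ R := by
      intro x hx
      have h3 : w * x * w⁻¹ * x⁻¹ ∈ Q := mul_mem (h.Q_nor hwN hx) (inv_mem hx)
      have h4 : w * x * w⁻¹ * x⁻¹ ∈ W := by
        have h5 := (mem_normalizer_iff.1 (hSW (hQS hx)) _).1 (inv_mem hw)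
        have e1 : w * x * w⁻¹ * x⁻¹ = w * (x * w⁻¹ * x⁻¹) := by group
        rw [e1]; exact mul_mem hw h5
      by_contra h6
      exact h6 (hcon _ h4 h3)
    apply h.mem_Q_of_triv S hG hZ _ h2
    -- `w` centralises `R = [Q, Q]`
    rw [mem_centralizer_iff]
    intro r hr
    obtain ⟨c, -, hc⟩ := h.form.exists_ne
    have hcR : e 0 c 0 ∉ R := fun h0 => hc (h.of_mem_R h0).1
    obtain ⟨n, hn, hnr⟩ := h.semi _ (h.E_le 0 c) hcR r hr
    set x := e 0 c 0 with hx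
    have hxQ : x ∈ Q := h.E_le 0 c
    have e1 : w * n * w⁻¹ = (w * n * w⁻¹ * n⁻¹) * n := by group
    have e2 : w * x * w⁻¹ = (w * x * w⁻¹ * x⁻¹) * x := by group
    set r1 := w * n * w⁻¹ * n⁻¹ with hr1
    set r2 := w * x * w⁻¹ * x⁻¹ with hr2
    have c1 : ∀ y ∈ Q, r1 * y = y * r1 := fun y hy => (mem_centralizer_iff.1 (h.Q_cen hy)) r1 (h2 n hn)
    have c2 : ∀ y ∈ Q, r2 * y = y * r2 := fun y hy => (mem_centralizer_iff.1 (h.Q_cen hy)) r2 (h2 x hxQ)
    have h3 : w * r * w⁻¹ = r := by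
      have e3 : w * r * w⁻¹ = (w * n * w⁻¹) * (w * x * w⁻¹) * (w * n * w⁻¹)⁻¹ * (w * x * w⁻¹)⁻¹ := by
        rw [← hnr]; group
      rw [e3, e1, e2]
      calc r1 * n * (r2 * x) * (r1 * n)⁻¹ * (r2 * x)⁻¹
          = r1 * (n * r2) * x * n⁻¹ * r1⁻¹ * x⁻¹ * r2⁻¹ := by group
        _ = r1 * (r2 * n) * x * n⁻¹ * r1⁻¹ * x⁻¹ * r2⁻¹ := by rw [c2 n hn]
        _ = (r1 * r2) * (n * x * n⁻¹) * (r1⁻¹ * x⁻¹) * r2⁻¹ := by group
        _ = (r1 * r2) * (n * x * n⁻¹) * (x⁻¹ * r1⁻¹) * r2⁻¹ := by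
            have := c1 x hxQ
            rw [show r1⁻¹ * x⁻¹ = x⁻¹ * r1⁻¹ by rw [← mul_inv_rev, ← mul_inv_rev, this]]
        _ = (r1 * r2) * (n * x * n⁻¹ * x⁻¹) * (r1⁻¹ * r2⁻¹) := by group
        _ = (r1 * r2) * r * (r1⁻¹ * r2⁻¹) := by rw [hnr]
        _ = r * (r1 * r2) * (r1⁻¹ * r2⁻¹) := by
            rw [(h.V_comm (h.R_V (mul_mem (h2 n hn) (h2 x hxQ))) (h.R_V hr))]
        _ = r * (r1 * (r2 * r1⁻¹) * r2⁻¹) := by group
        _ = r * (r1 * (r1⁻¹ * r2) * r2⁻¹) := by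
            rw [h.V_comm (h.R_V (h2 x hxQ)) (h.R_V (inv_mem (h2 n hn)))]
        _ = r := by group
    calc r * w = (w * r * w⁻¹) * w := by rw [h3]
      _ = w * r := by group
  refine ⟨?_, h1⟩
  obtain ⟨w, hw, hwQ, hwR⟩ := h1
  intro r hr
  obtain ⟨n, hn, hnr⟩ := h.semi w hwQ hwR r hr
  rw [← hnr]
  exact mul_mem ((mem_normalizer_iff.1 (hSW (hQS hn)) _).1 hw) (inv_mem hw)

/-- `|W| = 16`: `|R| = 4` -/
theorem card_R_of {W : Subgroup G} (hWS : W ≤ (S : Subgroup G)) (hSW : (S : Subgroup G) ≤ normalizer (W : Set G))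
    (hWQ : ¬ W ≤ Q) (hW : Nat.card W = 16) : Nat.card R = 4 := by
  obtain ⟨h1, w, hw, hwQ, hwR⟩ := h.R_le_of S hG hZ hWS hSW hWQ
  have h4 : 4 ≤ Nat.card R := by rw [h.card_R]; exact h.form.four
  -- `|R| · 4 ≤ 16`
  have d1 : Nat.card R ∣ Nat.card (W ⊓ Q : Subgroup G) := card_dvd_of_le (le_inf h1 h.R_Q)
  have d2 : Nat.card (W ⊓ Q : Subgroup G) ∣ Nat.card W := card_dvd_of_le inf_le_left
  have n1 : Nat.card R ≠ Nat.card (W ⊓ Q : Subgroup G) := by
    intro h0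
    have := Subgroup.eq_of_le_of_card_ge (le_inf h1 h.R_Q) h0.ge
    exact hwR (this ▸ mem_inf.2 ⟨hw, hwQ⟩)
  have n2 : Nat.card (W ⊓ Q : Subgroup G) ≠ Nat.card W := by
    intro h0
    have := Subgroup.eq_of_le_of_card_ge (inf_le_left : W ⊓ Q ≤ W) h0.ge
    exact hWQ (this ▸ inf_le_right)
  rw [hW] at d2 n2
  obtain ⟨a, ha⟩ := d1
  obtain ⟨b, hb⟩ := d2
  have hb2 : 2 ≤ b := by
    rcases b with _ | _ | b
    · omega
    · omega
    · omega
  have ha2 : 2 ≤ a := by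
    rcases a with _ | _ | a
    · rw [mul_zero] at ha; rw [ha] at hb; omega
    · rw [zero_add, mul_one] at ha; exact absurd ha.symm n1
    · omega
  have h5 : Nat.card R * 4 ≤ 16 := by
    calc Nat.card R * 4 ≤ Nat.card R * (a * b) := Nat.mul_le_mul_left _ (Nat.mul_le_mul ha2 hb2)
      _ = 16 := by rw [← mul_assoc, ← ha, ← hb]
  omega

end Core

end Cfsg.Agent.Omega.All.NOne
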