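import Mathlib

/-!
# Four independent commuting involutions

Tool for `All/NOne/SmallTypes.lean`.
-/

set_option autoImplicit false

namespace Cfsg.Agent.Omega.All.NOne.SmallFour

variable {G : Type*} [Group G]

/-- the product of the `z i` with `a i = true` -/
def mm (z : Fin 4 → G) (a : Fin 4 → Bool) : G :=
  (bif a 0 then z 0 else 1) * (bif a 1 then z 1 else 1) * (bif a 2 then z 2 else 1) * (bif a 3 then z 3 else 1)

/-- sum of vectors -/
def ad (a b : Fin 4 → Bool) : Fin 4 → Bool := fun i => xor (a i) (b i)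

/-- scalar multiple -/
def sc (c : Bool) (a : Fin 4 → Bool) : Fin 4 → Bool := fun i => c && a i

/-- the linear map with matrix `M` -/
def ac (M : Fin 4 → Fin 4 → Bool) (a : Fin 4 → Bool) : Fin 4 → Bool :=
  ad (ad (ad (sc (a 0) (M 0)) (sc (a 1) (M 1))) (sc (a 2) (M 2))) (sc (a 3) (M 3))

/-- Four independent commuting involutions. -/
structure Ind (z : Fin 4 → G) : Prop where
  comm : ∀ i j, z i * z j = z j * z i
  sq : ∀ i, z i * z i = 1
  ind : ∀ a, mm z a = 1 → a = fun _ => false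

theorem mul8 {c0 c1 c2 c3 d0 d1 d2 d3 : G} (h10 : c1 * d0 = d0 * c1) (h20 : c2 * d0 = d0 * c2)
    (h30 : c3 * d0 = d0 * c3) (h21 : c2 * d1 = d1 * c2) (h31 : c3 * d1 = d1 * c3) (h32 : c3 * d2 = d2 * c3) :
    c0 * c1 * c2 * c3 * (d0 * d1 * d2 * d3) = c0 * d0 * (c1 * d1) * (c2 * d2) * (c3 * d3) := by
  calc c0 * c1 * c2 * c3 * (d0 * d1 * d2 * d3) = c0 * c1 * c2 * (c3 * d0) * d1 * d2 * d3 := by group
    _ = c0 * c1 * (c2 * d0) * (c3 * d1) * d2 * d3 := by rw [h30]; group
    _ = c0 * (c1 * d0) * c2 * d1 * (c3 * d2) * d3 := by rw [h20, h31]; group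
    _ = c0 * d0 * c1 * (c2 * d1) * d2 * c3 * d3 := by rw [h10, h32]; group
    _ = c0 * d0 * (c1 * d1) * (c2 * d2) * (c3 * d3) := by rw [h21]; group

namespace Ind

variable {z : Fin 4 → G} (D : Ind z)
include D

theorem mm_mul (a b : Fin 4 → Bool) : mm z a * mm z b = mm z (ad a b) := by
  have hc : ∀ (i j : Fin 4) (x y : Bool), (bif x then z i else 1) * (bif y then z j else 1) =
      (bif y then z j else 1) * (bif x then z i else 1) := by
    intro i j x y
    cases x <;> cases y <;> simp [D.comm i j]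
  have hs : ∀ (i : Fin 4) (x y : Bool), (bif x then z i else 1) * (bif y then z i else 1) =
      (bif xor x y then z i else 1) := by
    intro i x y
    cases x <;> cases y <;> simp [D.sq i]
  unfold mm
  rw [mul8 (hc _ _ _ _) (hc _ _ _ _) (hc _ _ _ _) (hc _ _ _ _) (hc _ _ _ _) (hc _ _ _ _), hs, hs, hs, hs]
  rfl

omit D in
theorem mm_zero : mm z (fun _ => false) = 1 := by simp [mm]

omit D in
theorem ad_self (a : Fin 4 → Bool) : ad a a = fun _ => false := by
  funext i; simp [ad]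

theorem mm_sq (a : Fin 4 → Bool) : mm z a * mm z a = 1 := by
  rw [D.mm_mul, ad_self, mm_zero]

theorem mm_inv (a : Fin 4 → Bool) : (mm z a)⁻¹ = mm z a := inv_eq_of_mul_eq_one_left (D.mm_sq a)

theorem inj {a b : Fin 4 → Bool} (h : mm z a = mm z b) : a = b := by
  have h1 : mm z (ad a b) = 1 := by rw [← D.mm_mul, h, D.mm_sq]
  have h2 := D.ind _ h1
  funext i
  have h3 := congrFun h2 i
  revert h3
  simp only [ad]
  cases a i <;> cases b i <;> simp

omit D in
theorem mm_single (z : Fin 4 → G) (i : Fin 4) : mm z (fun j => decide (j = i)) = z i := by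
  fin_cases i <;> simp [mm]

/-- every element of `⟨z⟩` is `mm z a` -/
theorem exists_mm {x : G} (hx : x ∈ Subgroup.closure (Set.range z)) : ∃ a, x = mm z a := by
  induction hx using Subgroup.closure_induction with
  | mem x hx =>
    obtain ⟨i, rfl⟩ := hx
    exact ⟨_, (mm_single z i).symm⟩
  | one => exact ⟨_, mm_zero.symm⟩
  | mul x y _ _ h1 h2 =>
    obtain ⟨a, rfl⟩ := h1
    obtain ⟨b, rfl⟩ := h2
    exact ⟨_, D.mm_mul a b⟩
  | inv x _ h1 =>
    obtain ⟨a, rfl⟩ := h1
    exact ⟨a, D.mm_inv a⟩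

omit D in
theorem mm_sc (c : Bool) (a : Fin 4 → Bool) : (bif c then mm z a else 1) = mm z (sc c a) := by
  cases c
  · have : sc false a = fun _ => false := by funext i; simp [sc]
    rw [this, mm_zero]; rfl
  · have : sc true a = a := by funext i; simp [sc]
    rw [this]; rfl

/-- conjugation -/
theorem conj {g : G} {M : Fin 4 → Fin 4 → Bool} (hg : ∀ i, g * z i * g⁻¹ = mm z (M i)) (a : Fin 4 → Bool) :
    g * mm z a * g⁻¹ = mm z (ac M a) := by
  have h1 : ∀ (i : Fin 4) (x : Bool), g * (bif x then z i else 1) * g⁻¹ = mm z (sc x (M i)) := by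
    intro i x
    rw [← mm_sc]
    cases x
    · simp
    · simp [hg]
  have h2 : g * mm z a * g⁻¹ = (g * (bif a 0 then z 0 else 1) * g⁻¹) * (g * (bif a 1 then z 1 else 1) * g⁻¹) *
      (g * (bif a 2 then z 2 else 1) * g⁻¹) * (g * (bif a 3 then z 3 else 1) * g⁻¹) := by
    unfold mm; group
  rw [h2, h1, h1, h1, h1, D.mm_mul, D.mm_mul, D.mm_mul]
  rfl

end Ind

end Cfsg.Agent.Omega.All.NOne.SmallFour
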