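import Cfsg.Agent.Omega.All.NOne.Small
import Cfsg.Agent.Omega.All.NOne.SmallFour
import Cfsg.Agent.Omega.NO1.Types

/-!
# THEOREM ALL-N1: the types `Minus2` and `Plus2` do not coexist with `Core` (bb #16847 (4), helper983)

* `Core.not_minus2`, `Core.not_plus2`.
-/

set_option autoImplicit false
set_option linter.unusedSectionVars false

namespace Cfsg.Agent.Omega.All.NOne

open Subgroup Cfsg Cfsg.Agent.ZN Cfsg.Agent.Omega.MinPar
open Cfsg.Agent.Omega.FrameNOFF (CZ)
open SmallFour (mm ad sc ac Ind)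

universe u

variable {G : Type u} [Group G]

/-- abstract form of the final step -/
theorem four_of {R : Subgroup G} (hR : Nat.card R = 4) {z : Fin 4 → G} (D : Ind z) {s a : Fin 4 → Bool}
    (hs : mm z s ∈ R) (ha : mm z a ∈ R) (hs0 : s ≠ fun _ => false) (ha0 : a ≠ fun _ => false) (has : a ≠ s)
    {g : G} {M : Fin 4 → Fin 4 → Bool} (hg : ∀ i, g * z i * g⁻¹ = mm z (M i))
    {b : Fin 4 → Bool} (hgR : g * mm z b * g⁻¹ ∈ R) :
    ac M b = (fun _ => false) ∨ ac M b = s ∨ ac M b = a ∨ ac M b = ad a s := by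
  rw [D.conj hg] at hgR
  have h1 : ∀ b, mm z b = 1 → b = fun _ => false := D.ind
  rcases mem_of_card_four hR hs ha (fun h => hs0 (D.ind _ h)) (fun h => ha0 (D.ind _ h))
    (fun h => has (D.inj h)) (D.mm_sq s) hgR with h | h | h | h
  · exact Or.inl (D.ind _ h)
  · exact Or.inr (Or.inl (D.inj h))
  · exact Or.inr (Or.inr (Or.inl (D.inj h)))
  · rw [D.mm_mul] at h
    exact Or.inr (Or.inr (Or.inr (D.inj h)))

/-! ### `Minus2` -/

section minus

variable {S P : Subgroup G} {z : Fin 5 → G} (m : NO1.Minus2 S P z)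
include m

theorem minus_zero : z 0 = z 1 * z 2 * z 3 * z 4 := by
  have h1 := m.prod
  have h2 : z 0 * (z 1 * z 2 * z 3 * z 4) = 1 := by rw [← h1]; group
  calc z 0 = z 0 * (z 1 * z 2 * z 3 * z 4) * (z 1 * z 2 * z 3 * z 4)⁻¹ := by group
    _ = (z 1 * z 2 * z 3 * z 4)⁻¹ := by rw [h2, one_mul]
    _ = z 4 * z 3 * z 2 * z 1 := by
        rw [mul_inv_rev, mul_inv_rev, mul_inv_rev, inv_eq_of_mul_eq_one_left (m.sq 1),
          inv_eq_of_mul_eq_one_left (m.sq 2), inv_eq_of_mul_eq_one_left (m.sq 3),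
          inv_eq_of_mul_eq_one_left (m.sq 4)]
        group
    _ = z 1 * (z 4 * z 3 * z 2) := by
        rw [show z 4 * z 3 * z 2 * z 1 = z 4 * z 3 * (z 2 * z 1) by group, m.comm 2 1,
          show z 4 * z 3 * (z 1 * z 2) = z 4 * (z 3 * z 1) * z 2 by group, m.comm 3 1,
          show z 4 * (z 1 * z 3) * z 2 = (z 4 * z 1) * z 3 * z 2 by group, m.comm 4 1]
        group
    _ = z 1 * (z 2 * (z 4 * z 3)) := by
        rw [show z 4 * z 3 * z 2 = z 4 * (z 3 * z 2) by group, m.comm 3 2,
          show z 4 * (z 2 * z 3) = (z 4 * z 2) * z 3 by group, m.comm 4 2]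
        group
    _ = z 1 * z 2 * z 3 * z 4 := by rw [m.comm 4 3]; group

theorem minus_mm : z 0 = mm ![z 1, z 2, z 3, z 4] (fun _ => true) := by
  rw [minus_zero m]; simp [mm]

theorem minus_ind : Ind ![z 1, z 2, z 3, z 4] := by
  have hne : ∀ i j : Fin 5, i ≠ j → z i * z j ≠ 1 := by
    intro i j hij h
    apply hij
    apply m.inj
    calc z i = z i * (z j * z j) := by rw [m.sq, mul_one]
      _ = z i * z j * z j := by group
      _ = z j := by rw [h, one_mul]
  have h0 := minus_zero m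
  have h3 : ∀ {x y : G}, z 0 = x * y → y = 1 → z 0 = x := by
    intro x y h1 h2
    rw [h1, h2, mul_one]
  refine ⟨?_, ?_, ?_⟩
  · intro i j
    fin_cases i <;> fin_cases j <;> exact m.comm _ _
  · intro i
    fin_cases i <;> exact m.sq _
  · intro a ha
    have hc := m.comm
    simp only [mm, Matrix.cons_val_zero, Matrix.cons_val_one, Matrix.cons_val] at ha
    have e123 : z 0 = z 4 * (z 1 * z 2 * z 3) := by
      rw [h0, show z 4 * (z 1 * z 2 * z 3) = (z 4 * z 1) * z 2 * z 3 by group, hc 4 1,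
        show z 1 * z 4 * z 2 * z 3 = z 1 * (z 4 * z 2) * z 3 by group, hc 4 2,
        show z 1 * (z 2 * z 4) * z 3 = z 1 * z 2 * (z 4 * z 3) by group, hc 4 3]
      group
    have e124 : z 0 = z 3 * (z 1 * z 2 * z 4) := by
      rw [h0, show z 3 * (z 1 * z 2 * z 4) = (z 3 * z 1) * z 2 * z 4 by group, hc 3 1,
        show z 1 * z 3 * z 2 * z 4 = z 1 * (z 3 * z 2) * z 4 by group, hc 3 2]
      group
    have e134 : z 0 = z 2 * (z 1 * z 3 * z 4) := by
      rw [h0, show z 2 * (z 1 * z 3 * z 4) = (z 2 * z 1) * z 3 * z 4 by group, hc 2 1]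
    have e234 : z 0 = z 1 * (z 2 * z 3 * z 4) := by
      rw [h0]; group
    have key : ∀ i : Fin 5, i ≠ 0 → z 0 ≠ z i := fun i hi h => hi (m.inj h).symm
    funext i
    rcases h_0 : a 0 with _ | _ <;> rcases h_1 : a 1 with _ | _ <;> rcases h_2 : a 2 with _ | _ <;>
      rcases h_3 : a 3 with _ | _ <;> rw [h_0, h_1, h_2, h_3] at ha <;>
      simp only [cond_true, cond_false, one_mul, mul_one] at ha
    · fin_cases i <;> assumption
    · exact absurd ha (m.ne_one 4)
    · exact absurd ha (m.ne_one 3)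
    · exact absurd ha (hne 3 4 (by decide))
    · exact absurd ha (m.ne_one 2)
    · exact absurd ha (hne 2 4 (by decide))
    · exact absurd ha (hne 2 3 (by decide))
    · exact absurd (h3 e234 ha) (key 1 (by decide))
    · exact absurd ha (m.ne_one 1)
    · exact absurd ha (hne 1 4 (by decide))
    · exact absurd ha (hne 1 3 (by decide))
    · exact absurd (h3 e134 ha) (key 2 (by decide))
    · exact absurd ha (hne 1 2 (by decide))
    · exact absurd (h3 e124 ha) (key 3 (by decide))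
    · exact absurd (h3 e123 ha) (key 4 (by decide))
    · exact absurd (h0.trans ha) (m.ne_one 0)

theorem minus_le {x : G} (hx : x ∈ zl S P) : ∃ a, x = mm ![z 1, z 2, z 3, z 4] a := by
  have D := minus_ind m
  apply D.exists_mm
  rw [← m.gen] at hx
  have h1 : closure (Set.range z) ≤ closure (Set.range ![z 1, z 2, z 3, z 4]) := by
    rw [closure_le]
    rintro _ ⟨i, rfl⟩
    have h2 : ∀ i : Fin 4, ![z 1, z 2, z 3, z 4] i ∈ closure (Set.range ![z 1, z 2, z 3, z 4]) := fun i =>
      subset_closure ⟨i, rfl⟩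
    fin_cases i
    · change z 0 ∈ _
      rw [minus_zero m]
      exact mul_mem (mul_mem (mul_mem (h2 0) (h2 1)) (h2 2)) (h2 3)
    · exact h2 0
    · exact h2 1
    · exact h2 2
    · exact h2 3
  exact h1 hx

theorem minus_mem (a : Fin 4 → Bool) : mm ![z 1, z 2, z 3, z 4] a ∈ zl S P := by
  have h1 : ∀ i, z i ∈ zl S P := fun i => by
    rw [← m.gen]; exact subset_closure ⟨i, rfl⟩
  have h2 : ∀ (i : Fin 5) (x : Bool), (bif x then z i else 1) ∈ zl S P := by
    intro i x
    cases x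
    · exact one_mem _
    · exact h1 i
  exact mul_mem (mul_mem (mul_mem (h2 1 _) (h2 2 _)) (h2 3 _)) (h2 4 _)

end minus

/-! ### `Plus2` -/

section plus

variable {S P : Subgroup G} {z : Fin 3 → Fin 3 → G} (m : NO1.Plus2 S P z)
include m

theorem plus_inv (i j : Fin 3) : (z i j)⁻¹ = z i j := inv_eq_of_mul_eq_one_left (m.sq i j)

theorem plus_row (i : Fin 3) : z i 2 = z i 0 * z i 1 := by
  have h1 := m.row i
  have h2 : z i 2 = (z i 0 * z i 1)⁻¹ := eq_inv_of_mul_eq_one_right h1
  rw [h2, mul_inv_rev, plus_inv m, plus_inv m, m.comm]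

theorem plus_col (j : Fin 3) : z 2 j = z 0 j * z 1 j := by
  have h1 := m.col j
  have h2 : z 2 j = (z 0 j * z 1 j)⁻¹ := eq_inv_of_mul_eq_one_right h1
  rw [h2, mul_inv_rev, plus_inv m, plus_inv m, m.comm]

theorem plus_ind : Ind ![z 0 0, z 0 1, z 1 0, z 1 1] := by
  have hne : ∀ i j k l : Fin 3, ¬ (i = k ∧ j = l) → z i j * z k l ≠ 1 := by
    intro i j k l hij h
    apply hij
    apply m.inj
    calc z i j = z i j * (z k l * z k l) := by rw [m.sq, mul_one]
      _ = z i j * z k l * z k l := by group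
      _ = z k l := by rw [h, one_mul]
  have r0 := plus_row m 0
  have r1 := plus_row m 1
  have c0 := plus_col m 0
  have c1 := plus_col m 1
  have c2 := plus_col m 2
  refine ⟨?_, ?_, ?_⟩
  · intro i j
    fin_cases i <;> fin_cases j <;> exact m.comm _ _ _ _
  · intro i
    fin_cases i <;> exact m.sq _ _
  · intro a ha
    have hc := m.comm
    simp only [mm, Matrix.cons_val_zero, Matrix.cons_val_one, Matrix.cons_val] at ha
    funext i
    rcases h_0 : a 0 with _ | _ <;> rcases h_1 : a 1 with _ | _ <;> rcases h_2 : a 2 with _ | _ <;>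
      rcases h_3 : a 3 with _ | _ <;> rw [h_0, h_1, h_2, h_3] at ha <;>
      simp only [cond_true, cond_false, one_mul, mul_one] at ha
    · fin_cases i <;> assumption
    · exact absurd ha (m.ne_one 1 1)
    · exact absurd ha (m.ne_one 1 0)
    · exact absurd ha (hne 1 0 1 1 (by decide))
    · exact absurd ha (m.ne_one 0 1)
    · exact absurd ha (hne 0 1 1 1 (by decide))
    · exact absurd ha (hne 0 1 1 0 (by decide))
    · rw [mul_assoc, ← r1] at ha
      exact absurd ha (hne 0 1 1 2 (by decide))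
    · exact absurd ha (m.ne_one 0 0)
    · exact absurd ha (hne 0 0 1 1 (by decide))
    · exact absurd ha (hne 0 0 1 0 (by decide))
    · rw [mul_assoc, ← r1] at ha
      exact absurd ha (hne 0 0 1 2 (by decide))
    · exact absurd ha (hne 0 0 0 1 (by decide))
    · rw [← r0] at ha
      exact absurd ha (hne 0 2 1 1 (by decide))
    · rw [← r0] at ha
      exact absurd ha (hne 0 2 1 0 (by decide))
    · rw [mul_assoc, ← r0, ← r1, ← c2] at ha
      exact absurd ha (m.ne_one 2 2)

theorem plus_le {x : G} (hx : x ∈ zl S P) : ∃ a, x = mm ![z 0 0, z 0 1, z 1 0, z 1 1] a := by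
  have D := plus_ind m
  apply D.exists_mm
  rw [← m.gen] at hx
  have h1 : closure (Set.range fun x : Fin 3 × Fin 3 => z x.1 x.2) ≤
      closure (Set.range ![z 0 0, z 0 1, z 1 0, z 1 1]) := by
    rw [closure_le]
    rintro _ ⟨⟨i, j⟩, rfl⟩
    have h2 : ∀ i : Fin 4, ![z 0 0, z 0 1, z 1 0, z 1 1] i ∈ closure (Set.range ![z 0 0, z 0 1, z 1 0, z 1 1]) :=
      fun i => subset_closure ⟨i, rfl⟩
    have k00 : z 0 0 ∈ closure (Set.range ![z 0 0, z 0 1, z 1 0, z 1 1]) := h2 0
    have k01 : z 0 1 ∈ closure (Set.range ![z 0 0, z 0 1, z 1 0, z 1 1]) := h2 1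
    have k10 : z 1 0 ∈ closure (Set.range ![z 0 0, z 0 1, z 1 0, z 1 1]) := h2 2
    have k11 : z 1 1 ∈ closure (Set.range ![z 0 0, z 0 1, z 1 0, z 1 1]) := h2 3
    have k02 : z 0 2 ∈ closure (Set.range ![z 0 0, z 0 1, z 1 0, z 1 1]) := by
      rw [plus_row m]; exact mul_mem k00 k01
    have k12 : z 1 2 ∈ closure (Set.range ![z 0 0, z 0 1, z 1 0, z 1 1]) := by
      rw [plus_row m]; exact mul_mem k10 k11
    have k2 : ∀ j, z 0 j ∈ closure (Set.range ![z 0 0, z 0 1, z 1 0, z 1 1]) →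
        z 1 j ∈ closure (Set.range ![z 0 0, z 0 1, z 1 0, z 1 1]) →
        z 2 j ∈ closure (Set.range ![z 0 0, z 0 1, z 1 0, z 1 1]) := by
      intro j a b
      rw [plus_col m]; exact mul_mem a b
    change z i j ∈ _
    fin_cases i <;> fin_cases j
    · exact k00
    · exact k01
    · exact k02
    · exact k10
    · exact k11
    · exact k12
    · exact k2 0 k00 k10
    · exact k2 1 k01 k11
    · exact k2 2 k02 k12
  exact h1 hx

theorem plus_mem (a : Fin 4 → Bool) : mm ![z 0 0, z 0 1, z 1 0, z 1 1] a ∈ zl S P := by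
  have h1 : ∀ i j, z i j ∈ zl S P := fun i j => by
    rw [← m.gen]; exact subset_closure ⟨(i, j), rfl⟩
  have h2 : ∀ (i j : Fin 3) (x : Bool), (bif x then z i j else 1) ∈ zl S P := by
    intro i j x
    cases x
    · exact one_mem _
    · exact h1 i j
  exact mul_mem (mul_mem (mul_mem (h2 0 0 _) (h2 0 1 _)) (h2 1 0 _)) (h2 1 1 _)

end plus

/-- the group of all `mm z a` has order 16 -/
theorem card_of_mm {W : Subgroup G} {z : Fin 4 → G} (D : Ind z) (h1 : ∀ a, mm z a ∈ W)
    (h2 : ∀ x ∈ W, ∃ a, x = mm z a) : Nat.card W = 16 := by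
  let f : (Fin 4 → Bool) → W := fun a => ⟨mm z a, h1 a⟩
  have hf : Function.Bijective f := by
    constructor
    · intro a b hab
      exact D.inj (congrArg Subtype.val hab)
    · rintro ⟨x, hx⟩
      obtain ⟨a, rfl⟩ := h2 x hx
      exact ⟨a, rfl⟩
  rw [← Nat.card_congr (Equiv.ofBijective f hf)]
  simp

/-- an element of `R` outside `{1, z}` -/
theorem exists_of_card {R : Subgroup G} (hR : Nat.card R = 4) (z : G) : ∃ x ∈ R, x ≠ 1 ∧ x ≠ z := by
  classical
  by_contra hcon
  push Not at hcon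
  have h3 : Nat.card R ≤ Nat.card Bool := by
    apply Nat.card_le_card_of_injective (fun x : R => decide ((x : G) = 1))
    rintro ⟨x, hx⟩ ⟨y, hy⟩ hxy
    have h4 : (x = 1 ↔ y = 1) := by simpa using hxy
    apply Subtype.ext
    change x = y
    by_cases h5 : x = 1
    · rw [h5, h4.1 h5]
    · rw [hcon x hx h5, hcon y hy (fun h6 => h5 (h4.2 h6))]
  rw [hR, Nat.card_eq_fintype_card, Fintype.card_bool] at h3
  omega

namespace Core

variable {F T : Type*} [Field F] [AddCommGroup T] [Module F T]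
  {V R Q X : Subgroup G} {e : F → T → F → G} {N : T → F} {B : T → T → F}

variable [Finite G] (S : Sylow 2 G) (h : Core (S : Subgroup G) V R Q X e N B) (hG : IsCharacteristicTwoType G)
  (hZ : zc (S : Subgroup G) ≠ ⊥)

omit [Finite G] in
theorem S_le_norm_zl {P : Subgroup G} (hP : IsParS (S : Subgroup G) P) :
    (S : Subgroup G) ≤ normalizer (zl (S : Subgroup G) P : Set G) := hP.isLoc.le.trans (le_normalizer_zl _ _)

include hG in
theorem zl_le_S {P : Subgroup G} (hP : IsParS (S : Subgroup G) P) : zl (S : Subgroup G) P ≤ (S : Subgroup G) :=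
  (hP.isLoc.zl_le S hG).trans ((zc_le _).trans (hP.isLoc.o2_le S))

include h hG hZ

/-- common part of `not_minus2`, `not_plus2` -/
theorem small_step {P : Subgroup G} (hP : IsParS (S : Subgroup G) P) (hPQ : ¬ zl (S : Subgroup G) P ≤ Q)
    {z : Fin 4 → G} (D : Ind z) (h1 : ∀ a, mm z a ∈ zl (S : Subgroup G) P)
    (h2 : ∀ x ∈ zl (S : Subgroup G) P, ∃ a, x = mm z a) {s : Fin 4 → Bool} (hs : mm z s ∈ zc (S : Subgroup G))
    (hs0 : s ≠ fun _ => false) :
    ∃ a, a ≠ (fun _ => false) ∧ a ≠ s ∧ mm z a ∈ R ∧ Nat.card R = 4 ∧ mm z s ∈ R := by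
  have hSW := S_le_norm_zl S hP
  have hWS := zl_le_S S hG hP
  have h3 := card_of_mm D h1 h2
  have h4 := h.card_R_of S hG hZ hWS hSW hPQ h3
  obtain ⟨h5, -⟩ := h.R_le_of S hG hZ hWS hSW hPQ
  obtain ⟨x, hx, hx1, hx2⟩ := exists_of_card h4 (mm z s)
  obtain ⟨a, rfl⟩ := h2 x (h5 hx)
  refine ⟨a, ?_, ?_, hx, h4, h.Z_R hs⟩
  · rintro rfl
    exact hx1 Ind.mm_zero
  · rintro rfl
    exact hx2 rfl

/-- **`Minus2` is impossible.** -/
theorem not_minus2 {P : Subgroup G} (hP : IsParS (S : Subgroup G) P) {z : Fin 5 → G}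
    (m : NO1.Minus2 (S : Subgroup G) P z) (hPQ : ¬ zl (S : Subgroup G) P ≤ Q) : False := by
  have D := minus_ind m
  have hz0 : mm ![z 1, z 2, z 3, z 4] (fun _ => true) ∈ zc (S : Subgroup G) := by
    rw [← minus_mm m, m.Z]; exact mem_zpowers _
  obtain ⟨a, ha0, has, haR, hR4, hsR⟩ := h.small_step S hG hZ hP hPQ D (minus_mem m) (fun x hx => minus_le m hx)
    hz0 (by decide)
  have hst : ∀ {g : G}, g * z 0 * g⁻¹ = z 0 → ∀ x ∈ R, g * x * g⁻¹ ∈ R := by
    intro g hg x hx
    have h1 : z 0 ∈ R := by rw [minus_mm m]; exact hsR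
    exact h.R_nor (h.ti S hG hZ h1 (m.ne_one 0) (by rw [hg]; exact h1)) hx
  obtain ⟨g, -, hg⟩ := m.alt c[1, 2, 3] (by rw [Equiv.Perm.mem_alternatingGroup]; decide)
  obtain ⟨k, -, hk⟩ := m.alt c[2, 3, 4] (by rw [Equiv.Perm.mem_alternatingGroup]; decide)
  have hgz : ∀ i : Fin 4, g * ![z 1, z 2, z 3, z 4] i * g⁻¹ = mm ![z 1, z 2, z 3, z 4]
      (![![false, true, false, false], ![false, false, true, false], ![true, false, false, false],
        ![false, false, false, true]] i) := by
    have e1 : (c[1, 2, 3] : Equiv.Perm (Fin 5)) 1 = 2 := by decide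
    have e2 : (c[1, 2, 3] : Equiv.Perm (Fin 5)) 2 = 3 := by decide
    have e3 : (c[1, 2, 3] : Equiv.Perm (Fin 5)) 3 = 1 := by decide
    have e4 : (c[1, 2, 3] : Equiv.Perm (Fin 5)) 4 = 4 := by decide
    intro i
    fin_cases i
    · refine (hg 1).trans ?_
      rw [e1]; simp [mm]
    · refine (hg 2).trans ?_
      rw [e2]; simp [mm]
    · refine (hg 3).trans ?_
      rw [e3]; simp [mm]
    · refine (hg 4).trans ?_
      rw [e4]; simp [mm]
  have hkz : ∀ i : Fin 4, k * ![z 1, z 2, z 3, z 4] i * k⁻¹ = mm ![z 1, z 2, z 3, z 4]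
      (![![true, false, false, false], ![false, false, true, false], ![false, false, false, true],
        ![false, true, false, false]] i) := by
    have e1 : (c[2, 3, 4] : Equiv.Perm (Fin 5)) 1 = 1 := by decide
    have e2 : (c[2, 3, 4] : Equiv.Perm (Fin 5)) 2 = 3 := by decide
    have e3 : (c[2, 3, 4] : Equiv.Perm (Fin 5)) 3 = 4 := by decide
    have e4 : (c[2, 3, 4] : Equiv.Perm (Fin 5)) 4 = 2 := by decide
    intro i
    fin_cases i
    · refine (hk 1).trans ?_
      rw [e1]; simp [mm]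
    · refine (hk 2).trans ?_
      rw [e2]; simp [mm]
    · refine (hk 3).trans ?_
      rw [e3]; simp [mm]
    · refine (hk 4).trans ?_
      rw [e4]; simp [mm]
  have e0 : (c[1, 2, 3] : Equiv.Perm (Fin 5)) 0 = 0 := by decide
  have e0' : (c[2, 3, 4] : Equiv.Perm (Fin 5)) 0 = 0 := by decide
  have hg0 : g * z 0 * g⁻¹ = z 0 := by rw [hg, e0]
  have hk0 : k * z 0 * k⁻¹ = z 0 := by rw [hk, e0']
  have f1 := four_of hR4 D hsR haR (by decide) ha0 has hgz (hst hg0 _ haR)
  have f2 := four_of hR4 D hsR haR (by decide) ha0 has hkz (hst hk0 _ haR)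
  clear hgz hkz haR
  revert a
  decide

/-- **`Plus2` is impossible.** -/
theorem not_plus2 {P : Subgroup G} (hP : IsParS (S : Subgroup G) P) {z : Fin 3 → Fin 3 → G}
    (m : NO1.Plus2 (S : Subgroup G) P z) (hPQ : ¬ zl (S : Subgroup G) P ≤ Q) : False := by
  have D := plus_ind m
  have hz00 : z 0 0 = mm ![z 0 0, z 0 1, z 1 0, z 1 1] ![true, false, false, false] := by simp [mm]
  have hz0 : mm ![z 0 0, z 0 1, z 1 0, z 1 1] ![true, false, false, false] ∈ zc (S : Subgroup G) := by
    rw [← hz00, m.Z]; exact mem_zpowers _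
  obtain ⟨a, ha0, has, haR, hR4, hsR⟩ := h.small_step S hG hZ hP hPQ D (plus_mem m) (fun x hx => plus_le m hx)
    hz0 (by decide)
  have h00R : z 0 0 ∈ R := by rw [hz00]; exact hsR
  have hst : ∀ {g y : G}, y ∈ R → y ≠ 1 → g * y * g⁻¹ = y → ∀ x ∈ R, g * x * g⁻¹ ∈ R := by
    intro g y hy hy1 hg x hx
    exact h.R_nor (h.ti S hG hZ hy hy1 (by rw [hg]; exact hy)) hx
  have s0 : (Equiv.swap 1 2 : Equiv.Perm (Fin 3)) 0 = 0 := by decide
  have s1 : (Equiv.swap 1 2 : Equiv.Perm (Fin 3)) 1 = 2 := by decide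
  obtain ⟨g, -, hg⟩ := m.full (Equiv.swap 1 2) 1
  obtain ⟨k, -, hk⟩ := m.full 1 (Equiv.swap 1 2)
  obtain ⟨w, -, hw⟩ := m.swap
  have hgz : ∀ i : Fin 4, g * ![z 0 0, z 0 1, z 1 0, z 1 1] i * g⁻¹ = mm ![z 0 0, z 0 1, z 1 0, z 1 1]
      (![![true, false, false, false], ![false, true, false, false], ![true, false, true, false],
        ![false, true, false, true]] i) := by
    intro i
    fin_cases i
    · refine (hg 0 0).trans ?_
      rw [s0]; simp [mm]
    · refine (hg 0 1).trans ?_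
      rw [s0]; simp [mm]
    · refine (hg 1 0).trans ?_
      rw [s1, Equiv.Perm.one_apply, plus_col m]; simp [mm]
    · refine (hg 1 1).trans ?_
      rw [s1, Equiv.Perm.one_apply, plus_col m]; simp [mm]
  have hkz : ∀ i : Fin 4, k * ![z 0 0, z 0 1, z 1 0, z 1 1] i * k⁻¹ = mm ![z 0 0, z 0 1, z 1 0, z 1 1]
      (![![true, false, false, false], ![true, true, false, false], ![false, false, true, false],
        ![false, false, true, true]] i) := by
    intro i
    fin_cases i
    · refine (hk 0 0).trans ?_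
      rw [s0]; simp [mm]
    · refine (hk 0 1).trans ?_
      rw [s1, Equiv.Perm.one_apply, plus_row m]; simp [mm]
    · refine (hk 1 0).trans ?_
      rw [s0]; simp [mm]
    · refine (hk 1 1).trans ?_
      rw [s1, Equiv.Perm.one_apply, plus_row m]; simp [mm]
  have hwz : ∀ i : Fin 4, w * ![z 0 0, z 0 1, z 1 0, z 1 1] i * w⁻¹ = mm ![z 0 0, z 0 1, z 1 0, z 1 1]
      (![![true, false, false, false], ![false, false, true, false], ![false, true, false, false],
        ![false, false, false, true]] i) := by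
    intro i
    fin_cases i
    · refine (hw 0 0).trans ?_
      simp [mm]
    · refine (hw 0 1).trans ?_
      simp [mm]
    · refine (hw 1 0).trans ?_
      simp [mm]
    · refine (hw 1 1).trans ?_
      simp [mm]
  have f1 := four_of hR4 D hsR haR (by decide) ha0 has hgz
    (hst h00R (m.ne_one 0 0) (by rw [hg, s0]; rfl) _ haR)
  have f2 := four_of hR4 D hsR haR (by decide) ha0 has hkz
    (hst h00R (m.ne_one 0 0) (by rw [hk, s0]; rfl) _ haR)
  have f3 := four_of hR4 D hsR haR (by decide) ha0 has hwz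
    (hst h00R (m.ne_one 0 0) (hw 0 0) _ haR)
  -- `z01 z10 ∈ R`
  have hc : mm ![z 0 0, z 0 1, z 1 0, z 1 1] ![false, true, true, false] ∈ R := by
    have h1 : a = ![false, true, true, false] ∨ a = ![true, true, true, false] := by
      clear hgz hkz hwz haR
      revert a
      decide
    rcases h1 with h1 | h1
    · rw [← h1]; exact haR
    · have h2 : ad a ![true, false, false, false] = ![false, true, true, false] := by
        rw [h1]; decide
      rw [← h2, ← D.mm_mul]
      exact mul_mem haR hsR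
  have hne : mm ![z 0 0, z 0 1, z 1 0, z 1 1] ![false, true, true, false] ≠ 1 := by
    intro h1
    exact absurd (D.ind _ h1) (by decide)
  -- the element exchanging `z00` and `z11`
  have t0 : (Equiv.swap 0 1 : Equiv.Perm (Fin 3)) 0 = 1 := by decide
  have t1 : (Equiv.swap 0 1 : Equiv.Perm (Fin 3)) 1 = 0 := by decide
  obtain ⟨n, -, hn⟩ := m.full (Equiv.swap 0 1) (Equiv.swap 0 1)
  have hnz : ∀ i : Fin 4, n * ![z 0 0, z 0 1, z 1 0, z 1 1] i * n⁻¹ = mm ![z 0 0, z 0 1, z 1 0, z 1 1]
      (![![false, false, false, true], ![false, false, true, false], ![false, true, false, false],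
        ![true, false, false, false]] i) := by
    intro i
    fin_cases i
    · refine (hn 0 0).trans ?_
      rw [t0]; simp [mm]
    · refine (hn 0 1).trans ?_
      rw [t0, t1]; simp [mm]
    · refine (hn 1 0).trans ?_
      rw [t0, t1]; simp [mm]
    · refine (hn 1 1).trans ?_
      rw [t1]; simp [mm]
  have hnc : n * mm ![z 0 0, z 0 1, z 1 0, z 1 1] ![false, true, true, false] * n⁻¹ =
      mm ![z 0 0, z 0 1, z 1 0, z 1 1] ![false, true, true, false] := by
    rw [D.conj hnz]
    congr 1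
    decide
  have f4 := four_of hR4 D hsR hc (by decide) (by decide) (by decide) hnz (hst hc hne hnc _ hsR)
  revert f4
  decide

end Core

end Cfsg.Agent.Omega.All.NOne
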