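import Cfsg.Agent.Omega.All.NOne.Core
import Cfsg.Agent.Omega.FrameLE

/-!
# THEOREM ALL-N1 (bb #15220), step (A): `R` is a TI-subgroup

* `Core.o2_eq` : `O₂(C_G(r)) = Q` for `r ∈ R - 1`;
* `Core.ti` : `R` is TI; `Core.o2_CZ` : `O₂(C_G(Z)) = Q`.
-/

set_option autoImplicit false
set_option linter.unusedSectionVars false

namespace Cfsg.Agent.Omega.All.NOne

open Subgroup Cfsg Cfsg.Agent.ZN Cfsg.Agent.Omega.MinPar
open Cfsg.Agent.MinSimple.VModule (le_o2 o2_le o2_isPGroup le_normalizer_o2 mem_zc zc_le)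
open Cfsg.Agent.Omega.FrameNOFF (CZ)

universe u

variable {G : Type u} [Group G]

/-- `O₂(N) ≤ O₂(M)` for `N` normal in `M`. -/
theorem o2_le_o2_of_normal {N M : Subgroup G} (hNM : N ≤ M) (hM : M ≤ normalizer (N : Set G)) : o2 N ≤ o2 M := by
  apply le_o2 ((o2_le _).trans hNM) (o2_isPGroup _)
  have key : ∀ g ∈ M, ∀ x ∈ o2 N, g * x * g⁻¹ ∈ o2 N := by
    intro g hg x hx
    have h3 : (o2 N).map (MulAut.conj g).toMonoidHom ≤ o2 N := by
      apply le_o2
      · rintro _ ⟨y, hy, rfl⟩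
        exact (mem_normalizer_iff.1 (hM hg) y).1 (o2_le _ hy)
      · exact (o2_isPGroup _).map _
      · intro c hc
        have hc' : g⁻¹ * c * g ∈ N := by
          have := (mem_normalizer_iff.1 (inv_mem (hM hg)) c).1 hc
          rwa [inv_inv] at this
        have hc2 := le_normalizer_o2 _ hc'
        rw [mem_normalizer_iff]
        intro y
        have m : ∀ y, y ∈ (o2 N).map (MulAut.conj g).toMonoidHom ↔ g⁻¹ * y * g ∈ o2 N := by
          intro y
          constructor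
          · rintro ⟨u, hu, rfl⟩
            have : g⁻¹ * (g * u * g⁻¹) * g = u := by group
            simpa [this] using hu
          · intro hy
            refine ⟨g⁻¹ * y * g, hy, ?_⟩
            simp [mul_assoc]
        rw [m, m]
        have e : g⁻¹ * (c * y * c⁻¹) * g = (g⁻¹ * c * g) * (g⁻¹ * y * g) * (g⁻¹ * c * g)⁻¹ := by group
        rw [e]
        exact mem_normalizer_iff.1 hc2 _
    exact h3 ⟨x, hx, rfl⟩
  intro g hg
  rw [mem_normalizer_iff]
  intro x
  constructor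
  · exact key g hg x
  · intro hx
    have := key g⁻¹ (inv_mem hg) _ hx
    have e : g⁻¹ * (g * x * g⁻¹) * g⁻¹⁻¹ = x := by group
    rwa [e] at this

/-- `g O₂(C(z)) g⁻¹ = O₂(C(g z g⁻¹))`, elementwise -/
theorem conj_mem_o2_centralizer {z g y : G} (hy : y ∈ o2 (centralizer ({z} : Set G))) :
    g * y * g⁻¹ ∈ o2 (centralizer ({g * z * g⁻¹} : Set G)) := by
  have h1 : (centralizer ({z} : Set G)).map (MulAut.conj g).toMonoidHom = centralizer ({g * z * g⁻¹} : Set G) := by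
    ext x
    rw [mem_centralizer_singleton_iff]
    constructor
    · rintro ⟨u, hu, rfl⟩
      rw [SetLike.mem_coe, mem_centralizer_singleton_iff] at hu
      change g * u * g⁻¹ * (g * z * g⁻¹) = g * z * g⁻¹ * (g * u * g⁻¹)
      calc g * u * g⁻¹ * (g * z * g⁻¹) = g * (u * z) * g⁻¹ := by group
        _ = g * (z * u) * g⁻¹ := by rw [hu]
        _ = g * z * g⁻¹ * (g * u * g⁻¹) := by group
    · intro hx
      refine ⟨g⁻¹ * x * g, ?_, by simp [mul_assoc]⟩
      rw [SetLike.mem_coe, mem_centralizer_singleton_iff]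
      calc g⁻¹ * x * g * z = g⁻¹ * (x * (g * z * g⁻¹)) * g := by group
        _ = g⁻¹ * (g * z * g⁻¹ * x) * g := by rw [hx]
        _ = z * (g⁻¹ * x * g) := by group
  rw [← h1, o2_map_equiv]
  exact ⟨y, hy, rfl⟩

namespace Core

variable {F T : Type*} [Field F] [AddCommGroup T] [Module F T]
  {V R Q X : Subgroup G} {e : F → T → F → G} {N : T → F} {B : T → T → F}

section

variable {S : Subgroup G} (h : Core S V R Q X e N B)
include h

/-- `O₂(L) ≤ Q` for all `L ≥ S C_G(R)` with `O₂(L) ≤ S`. -/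
theorem o2_le_Q {L : Subgroup G} (hK : centralizer (R : Set G) ≤ L) (hO : o2 L ≤ S) : o2 L ≤ Q := by
  -- `O ∩ C(R) ≤ Q`
  have h1 : o2 L ⊓ centralizer (R : Set G) ≤ Q := by
    have hn : normalizer (R : Set G) ≤ normalizer ((centralizer (R : Set G) : Subgroup G) : Set G) := by
      intro g hg
      have key : ∀ g ∈ normalizer (R : Set G), ∀ x ∈ centralizer (R : Set G), g * x * g⁻¹ ∈ centralizer (R : Set G) := by
        intro g hg x hx
        rw [mem_centralizer_iff] at hx ⊢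
        intro r hr
        have h1 : g⁻¹ * r * g ∈ R := h.R_nor' hg hr
        have h2 := hx _ h1
        calc r * (g * x * g⁻¹) = g * (g⁻¹ * r * g * x) * g⁻¹ := by group
          _ = g * (x * (g⁻¹ * r * g)) * g⁻¹ := by rw [h2]
          _ = g * x * g⁻¹ * r := by group
      rw [mem_normalizer_iff]
      intro x
      constructor
      · exact key g hg x
      · intro hx
        have := key g⁻¹ (inv_mem hg) _ hx
        have e : g⁻¹ * (g * x * g⁻¹) * g⁻¹⁻¹ = x := by group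
        rwa [e] at this
    have h2 : o2 L ⊓ centralizer (R : Set G) ≤ o2 (centralizer (R : Set G)) := by
      apply le_o2 inf_le_right ((o2_isPGroup _).to_le inf_le_left)
      intro g hg
      have hg1 : g ∈ normalizer (o2 L : Set G) := le_normalizer_o2 _ (hK hg)
      rw [mem_normalizer_iff]
      intro x
      rw [mem_inf, mem_inf]
      exact and_congr (mem_normalizer_iff.1 hg1 x)
        ⟨fun hx => mul_mem (mul_mem hg hx) (inv_mem hg), fun hx => by
          have := mul_mem (mul_mem (inv_mem hg) hx) hg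
          have e : g⁻¹ * (g * x * g⁻¹) * g = x := by group
          rwa [e] at this⟩
    rw [h.Q_eq]
    exact h2.trans (o2_le_o2_of_normal h.cenR_norm hn)
  -- `O ≤ C(R)`
  have h2 : o2 L ≤ centralizer (R : Set G) := by
    intro x hx
    apply h.triv x (hO hx)
    intro v hv
    have h3 : x * v * x⁻¹ * v⁻¹ ∈ V := mul_mem (h.V_nor (h.S_V (hO hx)) hv) (inv_mem hv)
    apply h1
    refine ⟨?_, h.V_cenR h3⟩
    have h4 := (mem_normalizer_iff.1 (le_normalizer_o2 L (hK (h.V_cenR hv))) x⁻¹).1 (inv_mem hx)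
    have h5 : x * v * x⁻¹ * v⁻¹ = x * (v * x⁻¹ * v⁻¹) := by group
    rw [h5]
    exact mul_mem hx h4
  intro x hx
  exact h1 ⟨hx, h2 hx⟩

/-- For `c ∈ N(R)` and `z ∈ R - 1` there is `n ∈ N(V) ∩ N(R)` with `c n ∈ C(z)`. -/
theorem exists_fix {z c : G} (hz : z ∈ R) (hz1 : z ≠ 1) (hc : c ∈ normalizer (R : Set G)) :
    ∃ n, n ∈ normalizer (V : Set G) ∧ n ∈ normalizer (R : Set G) ∧ c * n ∈ centralizer ({z} : Set G) := by
  obtain ⟨n, h1, h2, h3⟩ := h.tran z hz hz1 _ (h.R_nor' hc hz) (by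
    intro h0
    apply hz1
    calc z = c * (c⁻¹ * z * c) * c⁻¹ := by group
      _ = 1 := by rw [h0]; group)
  refine ⟨n, h1, h2, ?_⟩
  rw [mem_centralizer_singleton_iff]
  calc c * n * z = c * (n * z * n⁻¹) * n := by group
    _ = c * (c⁻¹ * z * c) * n := by rw [h3]
    _ = z * (c * n) := by group

theorem e_ne : e 0 0 1 ∈ V ∧ e 0 0 1 ≠ 1 := ⟨h.e_mem _ _ _, fun h0 => one_ne_zero (h.e_inj _ _ _ h0).2.2⟩

/-- `Q` does not centralise `V` -/
theorem exists_not_cenV : ∃ y ∈ Q, y ∉ centralizer (V : Set G) := by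
  obtain ⟨c, -, hc⟩ := h.form.exists_ne
  obtain ⟨y, hy, hya⟩ := h.act_surj c
  refine ⟨y, hy, fun hcon => hc ?_⟩
  have h1 := (mem_centralizer_iff.1 hcon) _ (h.e_mem 0 0 1)
  have h2 := hya 0 0 1
  rw [← h1, mul_inv_cancel_right] at h2
  obtain ⟨-, h3, -⟩ := h.e_eq h2
  rw [one_smul, zero_add] at h3
  exact h3.symm

end

section sylow

variable [Finite G] (S : Sylow 2 G) (h : Core (S : Subgroup G) V R Q X e N B) (hG : IsCharacteristicTwoType G)
include h hG

/-- `O₂(C_G(z)) = Q` for `z ∈ Ω₁(Z(S))`. -/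
theorem o2_eq_zc {z : G} (hz : z ∈ zc (S : Subgroup G)) (hz1 : z ≠ 1) : o2 (centralizer ({z} : Set G)) = Q := by
  have hzR : z ∈ R := h.Z_R hz
  set L := centralizer ({z} : Set G) with hL
  have hSL : (S : Subgroup G) ≤ L := by
    intro s hs
    rw [hL, mem_centralizer_singleton_iff]
    exact (mem_zc.1 hz).2.1 s hs
  have hloc : IsLoc (S : Subgroup G) L := isLoc_centralizer S (mem_zc.1 hz).2.2 hz1 hSL
  have hK : centralizer (R : Set G) ≤ L := by
    intro x hx
    rw [hL, mem_centralizer_singleton_iff]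
    exact ((mem_centralizer_iff.1 hx) z hzR).symm
  have hOS : o2 L ≤ (S : Subgroup G) := hloc.o2_le S
  have hOQ : o2 L ≤ Q := h.o2_le_Q hK hOS
  have hchar := hloc.char2 S hG
  have hRO : R ≤ o2 L := by
    refine le_trans ?_ hchar
    refine le_inf (h.R_V.trans (h.V_cenR.trans hK)) ?_
    intro r hr
    rw [mem_centralizer_iff]
    intro y hy
    exact ((mem_centralizer_iff.1 (h.Q_cen (hOQ hy))) r hr).symm
  have nO : ∀ g ∈ L, ∀ y ∈ o2 L, g * y * g⁻¹ ∈ o2 L := fun g hg y hy =>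
    (mem_normalizer_iff.1 (le_normalizer_o2 L hg) y).1 hy
  have nO' : ∀ g ∈ L, ∀ y ∈ o2 L, g⁻¹ * y * g ∈ o2 L := fun g hg y hy => by
    have := nO g⁻¹ (inv_mem hg) y hy
    rwa [inv_inv] at this
  by_cases hV : o2 L ≤ centralizer (V : Set G)
  · -- impossible
    exfalso
    have h1 : Q ≤ centralizer (o2 L : Set G) := by
      apply h.Q_gen
      intro c hc a b
      obtain ⟨n, hnV, hnR, hcn⟩ := h.exists_fix hzR hz1 hc
      rw [mem_centralizer_iff]
      intro o ho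
      have h2 : (c * n)⁻¹ * o * (c * n) ∈ o2 L := nO' _ hcn _ ho
      have h3 : n⁻¹ * e a b 0 * n ∈ V := h.V_nor' hnV (h.e_mem _ _ _)
      have h4 := (mem_centralizer_iff.1 (hV h2)) _ h3
      calc o * (c * e a b 0 * c⁻¹)
          = (c * n) * ((c * n)⁻¹ * o * (c * n) * (n⁻¹ * e a b 0 * n)) * (c * n)⁻¹ := by group
        _ = (c * n) * ((n⁻¹ * e a b 0 * n) * ((c * n)⁻¹ * o * (c * n))) * (c * n)⁻¹ := by rw [h4]
        _ = c * e a b 0 * c⁻¹ * o := by group
    have h2 : Q ≤ o2 L := (le_inf (h.Q_cen.trans hK) h1).trans hchar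
    obtain ⟨y, hy, hyV⟩ := h.exists_not_cenV
    exact hyV (hV (h2 hy))
  · -- `w ∈ O₂(L)` acts as `u_c`, `c ≠ 0`
    obtain ⟨w, hw, hwV⟩ := SetLike.not_le_iff_exists.1 hV
    obtain ⟨c, hc⟩ := h.act w (hOQ hw)
    have hc0 : c ≠ 0 := by
      rintro rfl
      apply hwV
      rw [mem_centralizer_iff]
      intro x hx
      obtain ⟨a', b', d', rfl⟩ := h.e_surj x hx
      have h5 := hc a' b' d'
      rw [h.form.B_zero, h.form.N_zero, smul_zero, zero_mul, add_zero, add_zero, add_zero] at h5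
      calc e a' b' d' * w = (w * e a' b' d' * w⁻¹) * w := by rw [h5]
        _ = w * e a' b' d' := by group
    have h1 : ∀ d : F, e 0 (d • c) 0 ∈ o2 L := by
      intro d
      have hv : e 0 0 d ∈ L := hK (h.V_cenR (h.e_mem _ _ _))
      have h2 : w * e 0 0 d * w⁻¹ * (e 0 0 d)⁻¹ ∈ o2 L := by
        have h4 := nO _ hv _ (inv_mem hw)
        have h5 : w * e 0 0 d * w⁻¹ * (e 0 0 d)⁻¹ = w * (e 0 0 d * w⁻¹ * (e 0 0 d)⁻¹) := by group
        rw [h5]; exact mul_mem hw h4
      rw [hc, h.e_inv, ← h.e_add, h.form.zero_B] at h2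
      have h3 : e (N c * d) 0 0 ∈ o2 L := hRO (h.e_R _)
      have h4 := mul_mem h2 h3
      rw [← h.e_add] at h4
      have e1 : 0 + 0 + N c * d + 0 + N c * d = 0 := by
        rw [add_zero, add_zero, zero_add]; exact h.form.F2 _
      have e2 : 0 + d • c + 0 + 0 = d • c := by rw [zero_add, add_zero, add_zero]
      have e3 : d + d + 0 = (0 : F) := by rw [add_zero]; exact h.form.F2 _
      rwa [e1, e2, e3] at h4
    obtain ⟨k, hk, hbas⟩ := h.bas c hc0
    have hkL : k ∈ L := by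
      rcases hk with hk | hk
      · exact hK hk
      · exact hSL hk
    have h2 : ∀ a b, e a b 0 ∈ o2 L := by
      intro a b
      have h3 : e a b 0 = e a 0 0 * e 0 b 0 := by
        rw [← h.e_add, add_zero, zero_add, add_zero]
      rw [h3]
      apply mul_mem (hRO (h.e_R _))
      obtain ⟨a', f, f', h4⟩ := hbas b
      rw [h4]
      exact mul_mem (mul_mem (hRO (h.e_R _)) (h1 f)) (nO k hkL _ (h1 f'))
    apply le_antisymm hOQ
    apply h.Q_gen
    intro c hc a b
    obtain ⟨n, hnV, hnR, hcn⟩ := h.exists_fix hzR hz1 hc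
    obtain ⟨a', b', h3⟩ := h.mem_E (h.V_nor' hnV (h.e_mem a b 0)) (h.Q_nor' hnR (h.E_le a b))
    have h4 : c * e a b 0 * c⁻¹ = (c * n) * (n⁻¹ * e a b 0 * n) * (c * n)⁻¹ := by group
    rw [h4, ← h3]
    exact nO _ hcn _ (h2 a' b')

variable (hZ : zc (S : Subgroup G) ≠ ⊥)
include hZ

/-- `O₂(C_G(r)) = Q` for `r ∈ R - 1`. -/
theorem o2_eq {r : G} (hr : r ∈ R) (hr1 : r ≠ 1) : o2 (centralizer ({r} : Set G)) = Q := by
  obtain ⟨z, hz1⟩ := Subgroup.ne_bot_iff_exists_ne_one.1 hZ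
  have hz1' : (z : G) ≠ 1 := fun h0 => hz1 (Subtype.ext h0)
  obtain ⟨n, hnV, hnR, hn⟩ := h.tran z (h.Z_R z.2) hz1' r hr hr1
  have h1 := h.o2_eq_zc S hG z.2 hz1'
  ext y
  constructor
  · intro hy
    have h2 := conj_mem_o2_centralizer (g := n⁻¹) hy
    have h3 : n⁻¹ * r * n⁻¹⁻¹ = z := by rw [← hn]; group
    rw [h3, h1] at h2
    have h4 := h.Q_nor hnR h2
    have h5 : n * (n⁻¹ * y * n⁻¹⁻¹) * n⁻¹ = y := by group
    rwa [h5] at h4
  · intro hy
    have h2 := h.Q_nor' hnR hy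
    rw [← h1] at h2
    have h3 := conj_mem_o2_centralizer (g := n) h2
    have h5 : n * (n⁻¹ * y * n) * n⁻¹ = y := by group
    rwa [h5, hn] at h3

/-- **`R` is a TI-subgroup.** -/
theorem ti {g r : G} (hr : r ∈ R) (hr1 : r ≠ 1) (hg : g * r * g⁻¹ ∈ R) : g ∈ normalizer (R : Set G) := by
  have h1 := h.o2_eq S hG hZ hr hr1
  have hg1 : g * r * g⁻¹ ≠ 1 := by
    intro h0
    apply hr1
    calc r = g⁻¹ * (g * r * g⁻¹) * g := by group
      _ = 1 := by rw [h0]; group
  have h2 := h.o2_eq S hG hZ hg hg1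
  apply h.norm_Q_le
  rw [mem_normalizer_iff]
  intro y
  constructor
  · intro hy
    rw [← h1] at hy
    have h3 := conj_mem_o2_centralizer (g := g) hy
    rwa [h2] at h3
  · intro hy
    rw [← h2] at hy
    have h3 := conj_mem_o2_centralizer (g := g⁻¹) hy
    have h4 : g⁻¹ * (g * r * g⁻¹) * g⁻¹⁻¹ = r := by group
    have h5 : g⁻¹ * (g * y * g⁻¹) * g⁻¹⁻¹ = y := by group
    rwa [h4, h5, h1] at h3

/-- `C_G(r) ≤ N_G(R)` for `r ∈ R - 1`. -/
theorem cen_le {g r : G} (hr : r ∈ R) (hr1 : r ≠ 1) (hg : g * r = r * g) : g ∈ normalizer (R : Set G) := by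
  apply h.ti S hG hZ hr hr1
  rw [hg, mul_inv_cancel_right]
  exact hr

/-- `N_G(Z) ≤ N_G(R)` -/
theorem normalizer_zc_le : normalizer (zc (S : Subgroup G) : Set G) ≤ normalizer (R : Set G) := by
  intro g hg
  obtain ⟨z, hz1⟩ := Subgroup.ne_bot_iff_exists_ne_one.1 hZ
  exact h.ti S hG hZ (h.Z_R z.2) (fun h0 => hz1 (Subtype.ext h0)) (h.Z_R ((mem_normalizer_iff.1 hg z).1 z.2))

/-- `O₂(C_G(Z)) = Q` -/
theorem o2_CZ : o2 (CZ (S : Subgroup G)) = Q := by
  have hK : centralizer (R : Set G) ≤ CZ (S : Subgroup G) := centralizer_le h.Z_R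
  have hS : (S : Subgroup G) ≠ ⊥ := by
    intro h0
    apply hZ
    rw [← le_bot_iff, ← h0]
    exact zc_le _
  apply le_antisymm
  · exact h.o2_le_Q hK ((isLoc_centralizer_zc S hS).o2_le S)
  · apply le_o2 (h.Q_cen.trans hK)
    · rw [h.Q_eq]; exact o2_isPGroup _
    · exact ((centralizer_le_normalizer _).trans (h.normalizer_zc_le S hG hZ)).trans h.Q_le_norm

end sylow

end Core

end Cfsg.Agent.Omega.All.NOne
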