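import Cfsg.Agent.Omega.All.NOne.Lin
import Cfsg.Agent.Omega.All.NOne.Conj

/-!
# THEOREM ALL-N1: the two-point data

`Pair S V R Q R' Q' e N B`, `Two S V R Q R' Q' e N B` : the facts on two opposite points `R = {e a 0 0}`, `R' = {e 0 0 d}` which follow from THEOREM
BETA, for `V = O₄⁻(q)` and `V = O₄⁺(q)`.

`Two.core : Two … → Core S V R Q (Q ⊔ Q') e N B`.
-/

set_option autoImplicit false
set_option linter.unusedSectionVars false

namespace Cfsg.Agent.Omega.All.NOne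

open Subgroup Cfsg Cfsg.Agent.ZN
open Cfsg.Agent.MinSimple.VModule (le_normalizer_o2 o2_isPGroup)

universe u

variable {G : Type u} [Group G] {F T : Type*} [Field F] [AddCommGroup T] [Module F T]

/-- The two-point data, without the Sylow group. -/
structure Pair (S V R Q R' Q' : Subgroup G) (e : F → T → F → G) (N : T → F) (B : T → T → F) : Prop
    extends Crd V R Q e N B where
  R'_iff : ∀ r, r ∈ R' ↔ ∃ d, e 0 0 d = r
  opp : ∀ b, N b ≠ 0 → ∃ n ∈ Q', ∀ a y d, n * e a y d * n⁻¹ = e a (y + a • b) (d + B y b + N b * a)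
  Q_eq : Q = o2 (normalizer (R : Set G))
  Q'_eq : Q' = o2 (normalizer (R' : Set G))
  -- THEOREM BETA
  Q_cen : Q ≤ centralizer (R : Set G)
  QQ : ∀ x ∈ Q, ∀ y ∈ Q, x * y * x⁻¹ * y⁻¹ ∈ R
  semi : ∀ w ∈ Q, w ∉ R → ∀ r ∈ R, ∃ n ∈ Q, n * w * n⁻¹ * w⁻¹ = r
  char2 : centralizer (Q : Set G) ≤ Q
  meet : Q ⊓ Q' ≤ V
  -- the Sylow group
  S_two : IsPGroup 2 S
  S_V : S ≤ normalizer (V : Set G)
  S_R : S ≤ normalizer (R : Set G)
  /-- type (γ): the singular lines are interchanged by `S` -/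
  sep : ∀ A : AddSubgroup T, (∀ c ∈ A, N c = 0) → ∃ s ∈ S, ∀ b, ∃ (a : F) (i i' : T),
    (∀ c ∈ A, B i c = 0) ∧ (∀ c ∈ A, B i' c = 0) ∧ e 0 b 0 = e a 0 0 * e 0 i 0 * (s * e 0 i' 0 * s⁻¹)

/-- The two-point data. -/
structure Two (S V R Q R' Q' : Subgroup G) (e : F → T → F → G) (N : T → F) (B : T → T → F) : Prop
    extends Pair S V R Q R' Q' e N B where
  Q_gen : ∀ Y : Subgroup G, (∀ c ∈ normalizer (R : Set G), ∀ a b, c * e a b 0 * c⁻¹ ∈ Y) → Q ≤ Y
  V_S : V ≤ S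
  Z_R : zc S ≤ R
  /-- a 2-element of `C(R)` which is trivial on `E/R` acts on `V` as an element of `Q` -/
  S_U : ∀ s ∈ S, s ∈ centralizer (R : Set G) → (∀ b, ∃ a, s * e 0 b 0 * s⁻¹ = e a b 0) →
    ∃ y ∈ Q, s * y⁻¹ ∈ centralizer (V : Set G)
  /-- `S ∩ C(R)` acts on `E/R` as a group of order `≤ 2` -/
  S_2 : ∀ s ∈ S, s ∈ centralizer (R : Set G) → ∀ t ∈ S, t ∈ centralizer (R : Set G) →
    (∀ b, ∃ a, s * e 0 b 0 * s⁻¹ = e a b 0) ∨ (∀ b, ∃ a, t * e 0 b 0 * t⁻¹ = e a b 0) ∨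
      (∀ b, ∃ a, (s * t) * e 0 b 0 * (s * t)⁻¹ = e a b 0)
  ns : ∀ b, b ≠ 0 → N b ≠ 0 ∨ ∃ s ∈ S, ∀ a, ∃ a' b', s * e a b 0 * s⁻¹ = e a' b' 0 ∧ N (b + b') ≠ 0

/-- the two-point data from `Core` and the opposite point -/
theorem Pair.of_core {S V R Q R' Q' X : Subgroup G} {e : F → T → F → G} {N : T → F} {B : T → T → F}
    (h : Core S V R Q X e N B) (R'_iff : ∀ r, r ∈ R' ↔ ∃ d, e 0 0 d = r)
    (opp : ∀ b, N b ≠ 0 → ∃ n ∈ Q', ∀ a y d, n * e a y d * n⁻¹ = e a (y + a • b) (d + B y b + N b * a))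
    (Q'_eq : Q' = o2 (normalizer (R' : Set G))) (char2 : centralizer (Q : Set G) ≤ Q) (meet : Q ⊓ Q' ≤ V)
    (S_two : IsPGroup 2 S) (sep : ∀ A : AddSubgroup T, (∀ c ∈ A, N c = 0) → ∃ s ∈ S, ∀ b, ∃ (a : F) (i i' : T),
      (∀ c ∈ A, B i c = 0) ∧ (∀ c ∈ A, B i' c = 0) ∧ e 0 b 0 = e a 0 0 * e 0 i 0 * (s * e 0 i' 0 * s⁻¹)) :
    Pair S V R Q R' Q' e N B where
  form := h.form
  e_add := h.e_add
  e_inj := h.e_inj
  e_mem := h.e_mem
  e_surj := h.e_surj
  R_iff := h.R_iff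
  E_le := h.E_le
  V_Q := h.V_Q
  act := h.act
  act_surj := h.act_surj
  R'_iff := R'_iff
  opp := opp
  Q_eq := h.Q_eq
  Q'_eq := Q'_eq
  Q_cen := h.Q_cen
  QQ := h.QQ
  semi := h.semi
  char2 := char2
  meet := meet
  S_two := S_two
  S_V := h.S_V
  S_R := h.S_R
  sep := sep

namespace Crd

variable {V R Q : Subgroup G} {e : F → T → F → G} {N : T → F} {B : T → T → F} (h : Crd V R Q e N B)
include h

theorem finite_F [Finite G] : Finite F := by
  refine Finite.of_injective (fun a : F => e a 0 0) fun a b hab => ?_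
  exact (h.e_eq hab).1

theorem finite_T [Finite G] : Finite T := by
  refine Finite.of_injective (fun b : T => e 0 b 0) fun a b hab => ?_
  exact (h.e_eq hab).2.1

theorem exists_sqrt [Finite G] (f : F) : ∃ t : F, t ^ 2 = f := by
  have := h.finite_F
  have h1 : Function.Injective (fun t : F => t ^ 2) := by
    intro a b hab
    have hab' : a ^ 2 = b ^ 2 := hab
    have h2 : (a + b) * (a + b) = 0 := by
      have h3 := h.form.F2 (b ^ 2)
      have h4 := h.form.F2 (a * b)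
      linear_combination hab' + h3 + h4
    have h3 := mul_self_eq_zero.1 h2
    have h4 := eq_neg_of_add_eq_zero_left h3
    rwa [h.form.neg_F] at h4
  exact (Finite.injective_iff_surjective.1 h1) f

/-- the action of `u_c v_{c'} u_c` -/
theorem n_act {c : T} (hc : N c ≠ 0) {u v : G}
    (hu : ∀ a b d, u * e a b d * u⁻¹ = e (a + B b c + N c * d) (b + d • c) d)
    (hv : ∀ a y d, v * e a y d * v⁻¹ =
      e a (y + a • ((N c)⁻¹ • c)) (d + B y ((N c)⁻¹ • c) + N ((N c)⁻¹ • c) * a)) (a : F) (b : T) (d : F) :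
    (u * v * u) * e a b d * (u * v * u)⁻¹ = e (N c * d) (b + ((N c)⁻¹ * B b c) • c) ((N c)⁻¹ * a) := by
  have hf := h.form
  have e1 : (u * v * u) * e a b d * (u * v * u)⁻¹ = u * (v * (u * e a b d * u⁻¹) * v⁻¹) * u⁻¹ := by group
  rw [e1, hu, hv, hu]
  have h2 : N ((N c)⁻¹ • c) = (N c)⁻¹ := by
    rw [hf.N_smul]; field_simp
  have h3 : B (b + d • c) ((N c)⁻¹ • c) = (N c)⁻¹ * B b c := by
    rw [hf.B_smul', hf.B_add, hf.B_smul, hf.B_self, mul_zero, add_zero]
  have hdd : d + (N c)⁻¹ * B b c + (N c)⁻¹ * (a + B b c + N c * d) = (N c)⁻¹ * a := by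
    have h4 := hf.F2 d
    have h5 := hf.F2 ((N c)⁻¹ * B b c)
    have h6 : (N c)⁻¹ * (N c * d) = d := by field_simp
    linear_combination h4 + h5 + h6
  have hbb : b + d • c + (a + B b c + N c * d) • ((N c)⁻¹ • c) + ((N c)⁻¹ * a) • c =
      b + ((N c)⁻¹ * B b c) • c := by
    have h6 : (a + B b c + N c * d) * (N c)⁻¹ = (N c)⁻¹ * a + (N c)⁻¹ * B b c + d := by field_simp
    rw [smul_smul, h6, add_smul, add_smul]
    have h7 := hf.T2 (d • c)
    have h8 := hf.T2 (((N c)⁻¹ * a) • c)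
    calc b + d • c + (((N c)⁻¹ * a) • c + ((N c)⁻¹ * B b c) • c + d • c) + ((N c)⁻¹ * a) • c
        = b + ((N c)⁻¹ * B b c) • c + (d • c + d • c) + (((N c)⁻¹ * a) • c + ((N c)⁻¹ * a) • c) := by abel
      _ = b + ((N c)⁻¹ * B b c) • c := by rw [h7, h8, add_zero, add_zero]
  have haa : a + B b c + N c * d + B (b + d • c + (a + B b c + N c * d) • ((N c)⁻¹ • c)) c +
      N c * ((N c)⁻¹ * a) = N c * d := by
    rw [hf.B_add, hf.B_add, hf.B_smul, hf.B_smul, hf.B_smul, hf.B_self]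
    have h4 := hf.F2 a
    have h5 := hf.F2 (B b c)
    have h6 : N c * ((N c)⁻¹ * a) = a := by field_simp
    linear_combination h4 + h5 + h6
  rw [h2, h3, hdd, hbb, haa]

theorem exists_N_one [Finite G] {c : T} (hc : N c ≠ 0) : ∃ t : F, t ≠ 0 ∧ N (t • c) = 1 := by
  obtain ⟨t, ht⟩ := h.exists_sqrt (N c)⁻¹
  have h1 : N (t • c) = 1 := by rw [h.form.N_smul, ht, inv_mul_cancel₀ hc]
  refine ⟨t, ?_, h1⟩
  rintro rfl
  rw [zero_smul, h.form.N_zero] at h1
  exact zero_ne_one h1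

theorem exists_two [Finite G] : ∃ t : F, t ≠ 0 ∧ t ≠ 1 := by
  classical
  have := h.finite_F
  have := Fintype.ofFinite F
  have h4 := h.form.four
  rw [Nat.card_eq_fintype_card, ← Finset.card_univ] at h4
  have h1 : (({0, 1} : Finset F)).card < (Finset.univ : Finset F).card := by
    refine lt_of_le_of_lt (Finset.card_insert_le _ _) ?_
    rw [Finset.card_singleton]; omega
  obtain ⟨t, -, ht⟩ := Finset.exists_mem_notMem_of_card_lt_card h1
  simp only [Finset.mem_insert, Finset.mem_singleton, not_or] at ht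
  exact ⟨t, ht.1, ht.2⟩

theorem exists_ne_two [Finite G] (s : F) : ∃ t : F, t ≠ 0 ∧ t ≠ s := by
  classical
  have := h.finite_F
  have := Fintype.ofFinite F
  have h4 := h.form.four
  rw [Nat.card_eq_fintype_card, ← Finset.card_univ] at h4
  have h1 : (({0, s} : Finset F)).card < (Finset.univ : Finset F).card := by
    refine lt_of_le_of_lt (Finset.card_insert_le _ _) ?_
    rw [Finset.card_singleton]; omega
  obtain ⟨t, -, ht⟩ := Finset.exists_mem_notMem_of_card_lt_card h1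
  simp only [Finset.mem_insert, Finset.mem_singleton, not_or] at ht
  exact ⟨t, ht.1, ht.2⟩

/-- a nonsingular vector which is not perpendicular to `c` -/
theorem exists_nonperp [Finite G] {c : T} (hc : c ≠ 0) (hNc : N c ≠ 0) : ∃ c', N c' = 1 ∧ B c c' ≠ 0 := by
  have hf := h.form
  obtain ⟨c₁, hc₁⟩ := hf.B_surj c hc 1
  obtain ⟨c₂, h2, h3⟩ : ∃ c₂, N c₂ ≠ 0 ∧ B c c₂ = 1 := by
    by_cases h0 : N c₁ = 0
    · obtain ⟨s, hs0, hs1⟩ := h.exists_ne_two (N c)⁻¹
      refine ⟨c₁ + s • c, ?_, ?_⟩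
      · rw [hf.N_add, h0, hf.N_smul, hf.B_smul', hf.B_symm, hc₁, mul_one, zero_add]
        intro h4
        have h5 : s * (s * N c + 1) = 0 := by linear_combination h4
        have h6 := (mul_eq_zero.1 h5).resolve_left hs0
        apply hs1
        have h7 := eq_neg_of_add_eq_zero_left h6
        rw [hf.neg_F] at h7
        exact eq_inv_of_mul_eq_one_left h7
      · rw [hf.B_add', hf.B_smul', hf.B_self, hc₁, mul_zero, add_zero]
    · exact ⟨c₁, h0, hc₁⟩
  obtain ⟨t, ht0, ht⟩ := h.exists_N_one h2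
  exact ⟨t • c₂, ht, by rw [hf.B_smul', h3, mul_one]; exact ht0⟩

end Crd

namespace Pair

variable {S V R Q R' Q' : Subgroup G} {e : F → T → F → G} {N : T → F} {B : T → T → F}
  (h : Pair S V R Q R' Q' e N B)
include h

theorem nor_Q : normalizer (R : Set G) ≤ normalizer (Q : Set G) := by
  rw [h.Q_eq]
  exact le_normalizer_o2 _

theorem nor_Q' : normalizer (R' : Set G) ≤ normalizer (Q' : Set G) := by
  rw [h.Q'_eq]
  exact le_normalizer_o2 _

theorem Q_V : Q ≤ normalizer (V : Set G) := by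
  have key : ∀ y ∈ Q, ∀ v ∈ V, y * v * y⁻¹ ∈ V := by
    intro y hy v hv
    obtain ⟨c, hc⟩ := h.act y hy
    obtain ⟨a, b, d, rfl⟩ := h.e_surj v hv
    rw [hc]; exact h.e_mem _ _ _
  intro y hy
  exact mem_norm_of (key y hy) fun v hv => by
    have := key y⁻¹ (inv_mem hy) v hv
    rwa [inv_inv] at this

/-- an element normalising `V` -/
theorem mem_norm_V {n : G} {f : F → T → F → F} {g : F → T → F → T} {k : F → T → F → F}
    (hn : ∀ a b d, n * e a b d * n⁻¹ = e (f a b d) (g a b d) (k a b d)) [Finite G] :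
    n ∈ normalizer (V : Set G) := by
  have h1 : cj n V = V := by
    apply Subgroup.eq_of_le_of_card_ge
    · intro x hx
      obtain ⟨a, b, d, hab⟩ := h.e_surj _ (mem_cj.1 hx)
      have e1 : x = n * (n⁻¹ * x * n) * n⁻¹ := by group
      rw [e1, ← hab, hn]; exact h.e_mem _ _ _
    · rw [card_cj]
  apply mem_norm_of
  · intro x hx
    rw [← h1]; exact conj_mem_cj hx
  · intro x hx
    rw [← h1] at hx; exact mem_cj.1 hx

theorem exists_u (c : T) : ∃ y ∈ Q, ∀ a b d, y * e a b d * y⁻¹ = e (a + B b c + N c * d) (b + d • c) d :=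
  h.act_surj c

/-- `n(c) = u_c v_{c'} u_c` -/
theorem exists_n {c : T} (hc : N c ≠ 0) : ∃ u ∈ Q, ∃ v ∈ Q',
    (∀ a b d, u * e a b d * u⁻¹ = e (a + B b c + N c * d) (b + d • c) d) ∧
    (∀ a y d, v * e a y d * v⁻¹ =
      e a (y + a • ((N c)⁻¹ • c)) (d + B y ((N c)⁻¹ • c) + N ((N c)⁻¹ • c) * a)) ∧
    ∀ a b d, (u * v * u) * e a b d * (u * v * u)⁻¹ =
      e (N c * d) (b + ((N c)⁻¹ * B b c) • c) ((N c)⁻¹ * a) := by
  obtain ⟨u, hu, hua⟩ := h.exists_u c
  have h2 : N ((N c)⁻¹ • c) ≠ 0 := by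
    rw [h.form.N_smul]
    exact mul_ne_zero (pow_ne_zero 2 (inv_ne_zero hc)) hc
  obtain ⟨v, hv, hva⟩ := h.opp _ h2
  exact ⟨u, hu, v, hv, hua, hva, h.n_act hc hua hva⟩

theorem n_mem {u v : G} (hu : u ∈ Q) (hv : v ∈ Q') : u * v * u ∈ Q ⊔ Q' :=
  mul_mem (mul_mem (mem_sup_left hu) (mem_sup_right hv)) (mem_sup_left hu)

variable [Finite G]

/-- `n(c)` interchanges `R` and `R'`, `Q` and `Q'` -/
theorem cj_n {c : T} (hc : N c ≠ 0) {n : G} (hn : ∀ a b d, n * e a b d * n⁻¹ =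
      e (N c * d) (b + ((N c)⁻¹ * B b c) • c) ((N c)⁻¹ * a)) :
    cj n R = R' ∧ cj n R' = R := by
  have h1 : ∀ a, n * e a 0 0 * n⁻¹ = e 0 0 ((N c)⁻¹ * a) := by
    intro a
    rw [hn, h.form.zero_B]; simp
  have h2 : ∀ d, n * e 0 0 d * n⁻¹ = e (N c * d) 0 0 := by
    intro a
    rw [hn, h.form.zero_B]; simp
  constructor
  · ext x
    rw [mem_cj, h.R_iff, h.R'_iff]
    constructor
    · rintro ⟨a, ha⟩
      refine ⟨(N c)⁻¹ * a, ?_⟩
      rw [← h1, ha]; group
    · rintro ⟨d, rfl⟩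
      refine ⟨N c * d, ?_⟩
      have h3 := h1 (N c * d)
      rw [← mul_assoc, inv_mul_cancel₀ hc, one_mul] at h3
      rw [← h3]; group
  · ext x
    rw [mem_cj, h.R_iff, h.R'_iff]
    constructor
    · rintro ⟨a, ha⟩
      refine ⟨N c * a, ?_⟩
      rw [← h2, ha]; group
    · rintro ⟨d, rfl⟩
      refine ⟨(N c)⁻¹ * d, ?_⟩
      have h3 := h2 ((N c)⁻¹ * d)
      rw [← mul_assoc, mul_inv_cancel₀ hc, one_mul] at h3
      rw [← h3]; group

omit h in
omit [Finite G] in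
theorem cj_o2 (g : G) (H : Subgroup G) : cj g (o2 H) = o2 (cj g H) := by
  have key : ∀ (g : G) (H : Subgroup G), cj g (o2 H) ≤ o2 (cj g H) := by
    intro g H
    apply MinSimple.VModule.le_o2
    · intro x hx
      rw [mem_cj] at hx ⊢
      exact MinSimple.VModule.o2_le H hx
    · exact (o2_isPGroup H).map (MulAut.conj g).toMonoidHom
    · intro x hx
      rw [mem_cj] at hx
      exact conj_mem_norm_cj (le_normalizer_o2 H hx)
  apply le_antisymm (key g H)
  have h1 := key g⁻¹ (cj g H)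
  have h2 : cj g⁻¹ (cj g H) = H := by
    ext x
    rw [mem_cj, mem_cj]
    have e1 : g⁻¹ * (g⁻¹⁻¹ * x * g⁻¹) * g = x := by group
    rw [e1]
  rw [h2] at h1
  intro x hx
  rw [mem_cj]
  apply h1
  rw [mem_cj]
  have e1 : g⁻¹⁻¹ * (g⁻¹ * x * g) * g⁻¹ = x := by group
  rwa [e1]

omit h in
omit [Finite G] in
theorem cj_norm (g : G) (H : Subgroup G) : cj g (normalizer (H : Set G)) = normalizer (cj g H : Set G) := by
  ext x
  rw [mem_cj]
  constructor
  · intro hx
    exact conj_mem_norm_cj hx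
  · intro hx
    apply mem_norm_of
    · intro y hy
      have h1 : g * y * g⁻¹ ∈ cj g H := conj_mem_cj hy
      have h2 := (mem_normalizer_iff.1 hx _).1 h1
      rw [mem_cj] at h2
      have e1 : g⁻¹ * (x * (g * y * g⁻¹) * x⁻¹) * g = g⁻¹ * x * g * y * (g⁻¹ * x * g)⁻¹ := by group
      rwa [e1] at h2
    · intro y hy
      have h1 : g * y * g⁻¹ ∈ cj g H := conj_mem_cj hy
      have h2 := (mem_normalizer_iff.1 (inv_mem hx) _).1 h1
      rw [mem_cj, inv_inv] at h2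
      have e1 : g⁻¹ * (x⁻¹ * (g * y * g⁻¹) * x) * g = (g⁻¹ * x * g)⁻¹ * y * (g⁻¹ * x * g) := by group
      rwa [e1] at h2

theorem cj_n_Q {c : T} (hc : N c ≠ 0) {n : G} (hn : ∀ a b d, n * e a b d * n⁻¹ =
      e (N c * d) (b + ((N c)⁻¹ * B b c) • c) ((N c)⁻¹ * a)) : cj n Q = Q' ∧ cj n Q' = Q := by
  obtain ⟨h1, h2⟩ := h.cj_n hc hn
  constructor
  · rw [h.Q_eq, cj_o2, cj_norm, h1, ← h.Q'_eq]
  · rw [h.Q'_eq, cj_o2, cj_norm, h2, ← h.Q_eq]

theorem Q'_V : Q' ≤ normalizer (V : Set G) := by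
  obtain ⟨c, hc, -⟩ := h.form.exists_ne
  have hc' : N c ≠ 0 := by rw [hc]; exact one_ne_zero
  obtain ⟨u, hu, v, hv, -, -, hn⟩ := h.exists_n hc'
  have hnV := h.mem_norm_V hn
  intro y hy
  rw [← (h.cj_n_Q hc' hn).1, mem_cj] at hy
  have h1 := h.Q_V hy
  have e1 : y = (u * v * u) * ((u * v * u)⁻¹ * y * (u * v * u)) * (u * v * u)⁻¹ := by group
  rw [e1]
  exact mul_mem (mul_mem hnV h1) (inv_mem hnV)

theorem X_V : Q ⊔ Q' ≤ normalizer (V : Set G) := sup_le h.Q_V h.Q'_V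

/-- the torus element `t(l) = n(l e) n(e)` -/
theorem exists_t {l : F} (hl : l ≠ 0) : ∃ t ∈ Q ⊔ Q', ∀ a b d, t * e a b d * t⁻¹ = e (l ^ 2 * a) b ((l ^ 2)⁻¹ * d) := by
  have hf := h.form
  obtain ⟨c, hc, -⟩ := hf.exists_ne
  have hc' : N c ≠ 0 := by rw [hc]; exact one_ne_zero
  have hlc : N (l • c) = l ^ 2 := by rw [hf.N_smul, hc, mul_one]
  have hlc' : N (l • c) ≠ 0 := by rw [hlc]; exact pow_ne_zero 2 hl
  obtain ⟨u, hu, v, hv, -, -, hn⟩ := h.exists_n hc'
  obtain ⟨u', hu', v', hv', -, -, hn'⟩ := h.exists_n hlc'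
  refine ⟨(u' * v' * u') * (u * v * u), mul_mem (n_mem h hu' hv') (n_mem h hu hv), ?_⟩
  intro a b d
  have e1 : (u' * v' * u') * (u * v * u) * e a b d * ((u' * v' * u') * (u * v * u))⁻¹ =
      (u' * v' * u') * ((u * v * u) * e a b d * (u * v * u)⁻¹) * (u' * v' * u')⁻¹ := by group
  rw [e1, hn, hn', hc, hlc, inv_one, one_mul, one_mul, one_mul]
  congr 1
  rw [hf.B_add, hf.B_smul, hf.B_smul', hf.B_smul', hf.B_self, mul_zero, mul_zero, add_zero, smul_smul]
  have h6 : (l ^ 2)⁻¹ * (l * B b c) * l = B b c := by field_simp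
  rw [h6, add_assoc, hf.T2, add_zero]

theorem bas : ∀ c, c ≠ 0 → ∃ k, (k ∈ centralizer (R : Set G) ∨ k ∈ S) ∧
    ∀ b, ∃ (a : F) (f f' : F), e 0 b 0 = e a 0 0 * e 0 (f • c) 0 * (k * e 0 (f' • c) 0 * k⁻¹) := by
  intro c hc
  have hf := h.form
  by_cases hNc : N c = 0
  · obtain ⟨s, hs, h1⟩ := h.sep
      { carrier := {x | ∃ f : F, x = f • c}
        zero_mem' := ⟨0, (zero_smul _ _).symm⟩
        add_mem' := by
          rintro _ _ ⟨f, rfl⟩ ⟨g, rfl⟩
          exact ⟨f + g, (add_smul _ _ _).symm⟩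
        neg_mem' := by
          rintro _ ⟨f, rfl⟩
          exact ⟨-f, (neg_smul _ _).symm⟩ } (by
        rintro _ ⟨f, rfl⟩
        rw [hf.N_smul, hNc, mul_zero])
    refine ⟨s, Or.inr hs, fun b => ?_⟩
    obtain ⟨a, i, i', h2, h3, h4⟩ := h1 b
    have h5 := h2 c ⟨1, (one_smul _ _).symm⟩
    have h6 := h3 c ⟨1, (one_smul _ _).symm⟩
    rw [hf.B_symm] at h5 h6
    obtain ⟨f, rfl⟩ := hf.B_span c i hc h5
    obtain ⟨f', rfl⟩ := hf.B_span c i' hc h6
    exact ⟨a, f, f', h4⟩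
  · obtain ⟨t, ht0, ht⟩ := h.exists_N_one hNc
    obtain ⟨c', hc', hcc⟩ := h.exists_nonperp hc hNc
    have n1 : N (t • c) ≠ 0 := by rw [ht]; exact one_ne_zero
    have n2 : N c' ≠ 0 := by rw [hc']; exact one_ne_zero
    obtain ⟨u, hu, v, hv, -, -, hn⟩ := h.exists_n n1
    obtain ⟨u', hu', v', hv', -, -, hn'⟩ := h.exists_n n2
    have hk : ∀ a b d, ((u' * v' * u') * (u * v * u)) * e a b d * ((u' * v' * u') * (u * v * u))⁻¹ =
        e a (b + B b (t • c) • (t • c) + B (b + B b (t • c) • (t • c)) c' • c') d := by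
      intro a b d
      have e1 : (u' * v' * u') * (u * v * u) * e a b d * ((u' * v' * u') * (u * v * u))⁻¹ =
        (u' * v' * u') * ((u * v * u) * e a b d * (u * v * u)⁻¹) * (u' * v' * u')⁻¹ := by group
      rw [e1, hn, hn', ht, hc', inv_one, one_mul, one_mul, one_mul, one_mul, one_mul, one_mul]
    refine ⟨(u' * v' * u') * (u * v * u), Or.inl ?_, fun b => ?_⟩
    · rw [mem_centralizer_iff]
      intro r hr
      obtain ⟨a, rfl⟩ := (h.R_iff r).1 hr
      have h1 := hk a 0 0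
      rw [hf.zero_B, zero_smul, add_zero, hf.zero_B, zero_smul, add_zero] at h1
      set k := (u' * v' * u') * (u * v * u) with hkd
      calc e a 0 0 * k = (k * e a 0 0 * k⁻¹) * k := by rw [h1]
        _ = k * e a 0 0 := by group
    · set g := B b c * (B c c')⁻¹ with hg
      have h1 : B c (b + g • c') = 0 := by
        rw [hf.B_add', hf.B_smul', hf.B_symm c b, hg, mul_assoc, inv_mul_cancel₀ hcc, mul_one, hf.F2]
      obtain ⟨f₀, h2⟩ := hf.B_span c _ hc h1
      set f' := g * (B c c')⁻¹ with hf'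
      refine ⟨0, f₀ + f', f', ?_⟩
      have h3 : B (f' • c) (t • c) = 0 := by rw [hf.B_smul, hf.B_smul', hf.B_self, mul_zero, mul_zero]
      rw [hk, h3, zero_smul, add_zero, h.e_zero, one_mul, ← h.e_add]
      congr 1
      · simp
      · have h4 : B (f' • c) c' = g := by
          rw [hf.B_smul, hf', mul_assoc, inv_mul_cancel₀ hcc, mul_one]
        rw [h4, add_smul, ← h2]
        have h5 := hf.T2 (f' • c)
        have h6 := hf.T2 (g • c')
        calc b = b + (g • c' + g • c') + (f' • c + f' • c) := by rw [h5, h6, add_zero, add_zero]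
          _ = _ := by abel
      · simp

end Pair

/-- **`Two → Core`** -/
theorem Two.core [Finite G] {S V R Q R' Q' : Subgroup G} {e : F → T → F → G} {N : T → F} {B : T → T → F}
    (h : Two S V R Q R' Q' e N B) : Core S V R Q (Q ⊔ Q') e N B where
  form := h.form
  e_add := h.e_add
  e_inj := h.e_inj
  e_mem := h.e_mem
  e_surj := h.e_surj
  R_iff := h.R_iff
  E_le := h.E_le
  V_Q := h.V_Q
  act := h.act
  act_surj := h.act_surj
  Q_eq := h.Q_eq
  Q_cen := h.Q_cen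
  QQ := h.QQ
  semi := h.semi
  Q_gen := h.Q_gen
  X_V := h.X_V
  Q_X := le_sup_left
  opp := fun b hb => by
    obtain ⟨n, hn, h1⟩ := h.opp b hb
    exact ⟨n, mem_sup_right hn, h1⟩
  tran := by
    intro r hr hr1 r' hr' hr'1
    obtain ⟨a, rfl⟩ := (h.R_iff r).1 hr
    obtain ⟨a', rfl⟩ := (h.R_iff r').1 hr'
    have ha : a ≠ 0 := by
      rintro rfl
      exact hr1 h.e_zero
    have ha' : a' ≠ 0 := by
      rintro rfl
      exact hr'1 h.e_zero
    obtain ⟨l, hl⟩ := h.exists_sqrt (a' * a⁻¹)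
    have hl0 : l ≠ 0 := by
      rintro rfl
      rw [zero_pow two_ne_zero] at hl
      exact mul_ne_zero ha' (inv_ne_zero ha) hl.symm
    obtain ⟨t, ht, hta⟩ := h.exists_t hl0
    have h1 : ∀ x ∈ R, t * x * t⁻¹ ∈ R := by
      intro x hx
      obtain ⟨b, rfl⟩ := (h.R_iff x).1 hx
      rw [hta, mul_zero]; exact h.e_R _
    refine ⟨t, h.X_V ht, ?_, ?_⟩
    · have h2 : cj t R = R := by
        apply Subgroup.eq_of_le_of_card_ge
        · intro x hx
          have := h1 _ (mem_cj.1 hx)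
          have e1 : t * (t⁻¹ * x * t) * t⁻¹ = x := by group
          rwa [e1] at this
        · rw [card_cj]
      apply mem_norm_of h1
      intro x hx
      rw [← h2] at hx
      exact mem_cj.1 hx
    · rw [hta, mul_zero, hl, mul_assoc, inv_mul_cancel₀ ha, mul_one]
  V_S := h.V_S
  S_V := h.S_V
  S_R := h.S_R
  Z_R := h.Z_R
  triv := by
    intro x hx hxc
    obtain ⟨n, hn⟩ := h.S_two ⟨x, hx⟩
    exact h.toCrd.triv (h.S_V hx) (h.S_R hx) (h.nor_Q (h.S_R hx)) (n := n) (by simpa using congrArg Subtype.val hn) hxc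
  quo := by
    intro x hx hxc
    obtain ⟨n, hn⟩ := h.S_two ⟨x, hx⟩
    exact (h.toCrd.lin (h.S_V hx) (h.S_R hx) (h.nor_Q (h.S_R hx)) (n := n) (by simpa using congrArg Subtype.val hn) hxc).1
  two := by
    intro s hs hsR t ht htR
    rcases h.S_2 s hs hsR t ht htR with h1 | h1 | h1
    · exact Or.inl (h.S_U s hs hsR h1)
    · exact Or.inr (Or.inl (h.S_U t ht htR h1))
    · exact Or.inr (Or.inr (h.S_U _ (mul_mem hs ht) (mul_mem hsR htR) h1))
  cenE := by
    intro s hs hsE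
    have hsR : s ∈ centralizer (R : Set G) := by
      rw [mem_centralizer_iff]
      intro r hr
      obtain ⟨a, rfl⟩ := (h.R_iff r).1 hr
      exact (hsE a 0).symm
    obtain ⟨y, hy, hyV⟩ := h.S_U s hs hsR fun b => ⟨0, by rw [hsE, mul_inv_cancel_right]⟩
    have h1 : y ∈ centralizer (V : Set G) := by
      obtain ⟨c, hc⟩ := h.act y hy
      have h4 : c = 0 := by
        by_contra hc0
        obtain ⟨b, hb⟩ := h.form.B_surj c hc0 1
        have h2 := hc 0 b 0
        have h3 : y * e 0 b 0 * y⁻¹ = e 0 b 0 := by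
          have h5 := (mem_centralizer_iff.1 hyV) _ (h.e_mem 0 b 0)
          have h6 := hsE 0 b
          calc y * e 0 b 0 * y⁻¹ = s⁻¹ * ((s * y⁻¹)⁻¹⁻¹ * (y * e 0 b 0 * y⁻¹) * (s * y⁻¹)⁻¹) * s := by
                have h7 := (mem_centralizer_iff.1 hyV) _ ((mem_normalizer_iff.1 (h.Q_V hy) _).1 (h.e_mem 0 b 0))
                rw [inv_inv, ← h7, mul_inv_cancel_right]
                have h8 : s * e 0 b 0 * s⁻¹ = e 0 b 0 := by rw [h6, mul_inv_cancel_right]
                have h9 : s⁻¹ * (y * e 0 b 0 * y⁻¹) * s = s⁻¹ * ((y * e 0 b 0 * y⁻¹) * (s * y⁻¹)) * (s * y⁻¹)⁻¹ * s := by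
                  group
                rw [h9, h7]
                have h10 : s⁻¹ * ((s * y⁻¹) * (y * e 0 b 0 * y⁻¹)) * (s * y⁻¹)⁻¹ * s =
                  e 0 b 0 := by group
                have h11 : y * e 0 b 0 * y⁻¹ = (s * y⁻¹)⁻¹ * (s * e 0 b 0 * s⁻¹) * (s * y⁻¹) := by group
                rw [h10, h11, h8, mul_assoc, h5]
                group
            _ = e 0 b 0 := by
                rw [inv_inv]
                have h8 : s * e 0 b 0 * s⁻¹ = e 0 b 0 := by rw [h6, mul_inv_cancel_right]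
                have h10 : s⁻¹ * ((s * y⁻¹) * (y * e 0 b 0 * y⁻¹) * (s * y⁻¹)⁻¹) * s = e 0 b 0 := by group
                exact h10
        rw [h3] at h2
        obtain ⟨h5, -, -⟩ := h.e_eq h2
        rw [mul_zero, add_zero, zero_add, h.form.B_symm, hb] at h5
        exact one_ne_zero h5.symm
      subst h4
      rw [mem_centralizer_iff]
      intro x hx
      obtain ⟨a', b', d', rfl⟩ := h.e_surj x hx
      have h5 := hc a' b' d'
      rw [h.form.B_zero, h.form.N_zero, smul_zero, zero_mul, add_zero, add_zero, add_zero] at h5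
      calc e a' b' d' * y = (y * e a' b' d' * y⁻¹) * y := by rw [h5]
        _ = y * e a' b' d' := by group
    have := mul_mem hyV h1
    rwa [inv_mul_cancel_right] at this
  bas := h.bas
  ns := h.ns

end Cfsg.Agent.Omega.All.NOne
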