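import Cfsg.Agent.Omega.All.NOne.Two
import Cfsg.Agent.Omega.NO1.Beta.Rep
import Cfsg.Agent.Omega.NO1.Beta.Inst

/-!
# THEOREM ALL-N1: the two-point data, part A

`D = C(V) ∩ Q'`, `D₀ = C(V) ∩ Q`.
* `al_inj`, `al_surj` : `d ↦ [u_c, d]`, `D/(D ∩ V) → D₀/E`, is bijective if `N c ≠ 0`;
* `cchi`, `cc` : `C_Q(D₀) = E`, also for one character of `R`;
* `rep` : every character of `E/R` is given by an element of `Q`.
-/

set_option autoImplicit false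
set_option linter.unusedSectionVars false
set_option linter.unusedVariables false

namespace Cfsg.Agent.Omega.All.NOne

open Subgroup Cfsg Cfsg.Agent.ZN
open Cfsg.Agent.MinSimple.VModule (le_normalizer_o2 o2_isPGroup)

universe u

variable {G : Type u} [Group G]

/-- a separating character of an elementary abelian 2-group -/
theorem exists_sep [Finite G] {E I : Subgroup G} (hc : ∀ a ∈ E, ∀ b ∈ E, a * b = b * a) (h2 : ∀ a ∈ E, a * a = 1)
    (hIE : I ≤ E) {x : G} (hx : x ∈ E) (hxI : x ∉ I) :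
    ∃ g : G → ℤˣ, (∀ a ∈ E, ∀ b ∈ E, g (a * b) = g a * g b) ∧ (∀ a ∈ I, g a = 1) ∧ g x = -1 := by
  classical
  let s : Set (Subgroup G) := {M | I ≤ M ∧ M ≤ E ∧ x ∉ M}
  obtain ⟨M, hM⟩ := (Set.toFinite s).exists_maximal ⟨I, le_rfl, hIE, hxI⟩
  obtain ⟨hIM, hME, hxM⟩ := hM.prop
  have hi : ∀ a ∈ E, a⁻¹ = a := fun a ha => inv_eq_of_mul_eq_one_left (h2 a ha)
  have key : ∀ y ∈ E, y ∉ M → y * x ∈ M := by
    intro y hy hyM
    let M' : Subgroup G :=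
      { carrier := {z | z ∈ E ∧ (z ∈ M ∨ z * y ∈ M)}
        mul_mem' := by
          rintro a b ⟨haE, ha⟩ ⟨hbE, hb⟩
          refine ⟨mul_mem haE hbE, ?_⟩
          rcases ha with ha | ha <;> rcases hb with hb | hb
          · exact Or.inl (mul_mem ha hb)
          · right
            rw [mul_assoc]; exact mul_mem ha hb
          · right
            have e1 : a * b * y = a * y * b := by rw [mul_assoc, hc b hbE y hy, mul_assoc]
            rw [e1]; exact mul_mem ha hb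
          · left
            have e1 : a * b = a * y * (b * y) := by
              calc a * b = a * b * (y * y) := by rw [h2 y hy, mul_one]
                _ = a * (b * y) * y := by group
                _ = a * (y * b) * y := by rw [hc b hbE y hy]
                _ = a * y * (b * y) := by group
            rw [e1]; exact mul_mem ha hb
        one_mem' := ⟨one_mem _, Or.inl (one_mem _)⟩
        inv_mem' := by
          rintro a ⟨haE, ha⟩
          rw [hi a haE]; exact ⟨haE, ha⟩ }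
    have hle : M ≤ M' := fun z hz => ⟨hME hz, Or.inl hz⟩
    have hyM' : y ∈ M' := ⟨hy, Or.inr (by rw [h2 y hy]; exact one_mem _)⟩
    have hxM' : x ∈ M' := by
      by_contra hcon
      exact hyM (hM.le_of_ge ⟨hIM.trans hle, fun z hz => hz.1, hcon⟩ hle hyM')
    rcases hxM'.2 with h3 | h3
    · exact absurd h3 hxM
    · rw [hc y hy x hx]; exact h3
  refine ⟨fun z => if z ∈ M then 1 else -1, ?_, ?_, ?_⟩
  · intro a ha b hb
    by_cases haM : a ∈ M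
    · by_cases hbM : b ∈ M
      · simp [haM, hbM, mul_mem haM hbM]
      · have : a * b ∉ M := fun h => hbM ((Subgroup.mul_mem_cancel_left M haM).1 h)
        simp [haM, hbM, this]
    · by_cases hbM : b ∈ M
      · have : a * b ∉ M := fun h => haM ((Subgroup.mul_mem_cancel_right M hbM).1 h)
        simp [haM, hbM, this]
      · have h3 := mul_mem (key a ha haM) (key b hb hbM)
        have e1 : a * x * (b * x) = a * b := by
          calc a * x * (b * x) = a * (x * b) * x := by group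
            _ = a * (b * x) * x := by rw [hc x hx b hb]
            _ = a * b * (x * x) := by group
            _ = a * b := by rw [h2 x hx, mul_one]
        rw [e1] at h3
        simp [haM, hbM, h3]
  · intro a ha
    simp [hIM ha]
  · simp [hxM]

/-- injective modulo `V` implies surjective modulo `V` -/
theorem surj_of_inj [Finite G] {A A' V : Subgroup G} (hcard : V.relIndex A' ≤ V.relIndex A) (f : G → G)
    (hf : ∀ a ∈ A, f a ∈ A') (hcong : ∀ a ∈ A, ∀ b ∈ A, a⁻¹ * b ∈ V → (f a)⁻¹ * f b ∈ V)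
    (hinj : ∀ a ∈ A, ∀ b ∈ A, (f a)⁻¹ * f b ∈ V → a⁻¹ * b ∈ V) {y : G} (hy : y ∈ A') :
    ∃ a ∈ A, (f a)⁻¹ * y ∈ V := by
  classical
  let g : (A ⧸ V.subgroupOf A) → (A' ⧸ V.subgroupOf A') :=
    Quotient.map' (fun a => ⟨f a, hf a a.2⟩) (by
      intro a b hab
      rw [QuotientGroup.leftRel_apply] at hab ⊢
      exact hcong a a.2 b b.2 hab)
  have hg : ∀ a : A, g (QuotientGroup.mk a) = QuotientGroup.mk ⟨f a, hf a a.2⟩ := fun a => rfl
  have h1 : Function.Injective g := by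
    intro a b hab
    obtain ⟨a, rfl⟩ := QuotientGroup.mk_surjective a
    obtain ⟨b, rfl⟩ := QuotientGroup.mk_surjective b
    rw [hg, hg, QuotientGroup.eq] at hab
    rw [QuotientGroup.eq]
    exact hinj a a.2 b b.2 hab
  have h2 : Function.Bijective g := by
    rw [Nat.bijective_iff_injective_and_card]
    exact ⟨h1, le_antisymm (Nat.card_le_card_of_injective g h1) hcard⟩
  obtain ⟨q, hq⟩ := h2.2 (QuotientGroup.mk ⟨y, hy⟩)
  obtain ⟨a, rfl⟩ := QuotientGroup.mk_surjective q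
  rw [hg, QuotientGroup.eq] at hq
  exact ⟨a, a.2, hq⟩

variable {F T : Type*} [Field F] [AddCommGroup T] [Module F T]

/-- `x` acts on `V` as `u_c` -/
def IsU (e : F → T → F → G) (N : T → F) (B : T → T → F) (x : G) (c : T) : Prop :=
  ∀ a b d, x * e a b d * x⁻¹ = e (a + B b c + N c * d) (b + d • c) d

namespace Crd

variable {V R Q : Subgroup G} {e : F → T → F → G} {N : T → F} {B : T → T → F} (h : Crd V R Q e N B)
include h

theorem isU_mul {x x' : G} {c c' : T} (hx : IsU e N B x c) (hx' : IsU e N B x' c') :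
    IsU e N B (x * x') (c + c') := by
  intro a b d
  have hf := h.form
  have e1 : x * x' * e a b d * (x * x')⁻¹ = x * (x' * e a b d * x'⁻¹) * x⁻¹ := by group
  rw [e1, hx', hx]
  congr 1
  · rw [hf.B_add, hf.B_smul, hf.N_add, hf.B_add', hf.B_symm c' c]
    ring
  · rw [smul_add, add_assoc, add_comm (d • c')]

theorem isU_inv {x : G} {c : T} (hx : IsU e N B x c) : IsU e N B x⁻¹ c := by
  intro a b d
  have hf := h.form
  have h1 := hx (a + B b c + N c * d) (b + d • c) d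
  have h2 : a + B b c + N c * d + B (b + d • c) c + N c * d = a := by
    rw [hf.B_add, hf.B_smul, hf.B_self]
    linear_combination hf.F2 (B b c) + hf.F2 (N c * d)
  have h3 : b + d • c + d • c = b := by rw [add_assoc, hf.T2, add_zero]
  rw [h2, h3] at h1
  rw [← h1]; group

theorem isU_one_of_cen {x : G} (hx : x ∈ centralizer (V : Set G)) : IsU e N B x 0 := by
  intro a b d
  have h1 := (mem_centralizer_iff.1 hx) _ (h.e_mem a b d)
  rw [← h1, mul_inv_cancel_right, h.form.B_zero, h.form.N_zero]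
  simp

theorem isU_eq {x : G} {c c' : T} (hx : IsU e N B x c) (hx' : IsU e N B x c') : c = c' := by
  have h1 := hx 0 0 1
  rw [hx'] at h1
  have h2 := (h.e_eq h1).2.1
  simpa using h2.symm

theorem cen_of_isU {x : G} (hx : IsU e N B x 0) : x ∈ centralizer (V : Set G) := by
  rw [mem_centralizer_iff]
  intro y hy
  obtain ⟨a', b', d', rfl⟩ := h.e_surj y hy
  have h5 := hx a' b' d'
  rw [h.form.B_zero, h.form.N_zero, smul_zero, zero_mul, add_zero, add_zero, add_zero] at h5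
  calc e a' b' d' * x = (x * e a' b' d' * x⁻¹) * x := by rw [h5]
    _ = x * e a' b' d' := by group

theorem V_comm {x y : G} (hx : x ∈ V) (hy : y ∈ V) : x * y = y * x := by
  obtain ⟨a, b, d, rfl⟩ := h.e_surj x hx
  obtain ⟨a', b', d', rfl⟩ := h.e_surj y hy
  rw [← h.e_add, ← h.e_add, add_comm a, add_comm b, add_comm d]

theorem V_sq {x : G} (hx : x ∈ V) : x * x = 1 := by
  obtain ⟨a, b, d, rfl⟩ := h.e_surj x hx
  exact h.e_sq _ _ _

theorem V_cen : V ≤ centralizer (V : Set G) := by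
  intro v hv
  rw [mem_centralizer_iff]
  exact fun r hr => h.V_comm hr hv

end Crd

namespace Pair

variable {S V R Q R' Q' : Subgroup G} {e : F → T → F → G} {N : T → F} {B : T → T → F}
  (h : Pair S V R Q R' Q' e N B)
include h

/-- `C(V)` normalises `Q` -/
theorem CQ {c y : G} (hc : c ∈ centralizer (V : Set G)) (hy : y ∈ Q) : c * y * c⁻¹ ∈ Q :=
  (mem_normalizer_iff.1 (h.nor_Q (centralizer_le_normalizer _ (centralizer_le h.R_V hc))) y).1 hy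

theorem R'_V : R' ≤ V := by
  intro r hr
  obtain ⟨a, rfl⟩ := (h.R'_iff r).1 hr
  exact h.e_mem _ _ _

theorem CQ' {c y : G} (hc : c ∈ centralizer (V : Set G)) (hy : y ∈ Q') : c * y * c⁻¹ ∈ Q' :=
  (mem_normalizer_iff.1 (h.nor_Q' (centralizer_le_normalizer _ (centralizer_le h.R'_V hc))) y).1 hy

/-- `N(V)` normalises `C(V)` -/
theorem CV {m c : G} (hm : m ∈ normalizer (V : Set G)) (hc : c ∈ centralizer (V : Set G)) :
    m * c * m⁻¹ ∈ centralizer (V : Set G) := by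
  rw [mem_centralizer_iff] at hc ⊢
  intro v hv
  have h1 : m⁻¹ * v * m ∈ V := by
    have := (mem_normalizer_iff.1 (inv_mem hm) v).1 hv
    rwa [inv_inv] at this
  have h2 := hc _ h1
  calc v * (m * c * m⁻¹) = m * ((m⁻¹ * v * m) * c) * m⁻¹ := by group
    _ = m * (c * (m⁻¹ * v * m)) * m⁻¹ := by rw [h2]
    _ = m * c * m⁻¹ * v := by group

/-- `[C(V), Q] ≤ C_Q(V)` -/
theorem com_mem {c x : G} (hc : c ∈ centralizer (V : Set G)) (hx : x ∈ Q) :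
    c * x * c⁻¹ * x⁻¹ ∈ Q ∧ c * x * c⁻¹ * x⁻¹ ∈ centralizer (V : Set G) := by
  refine ⟨mul_mem (h.CQ hc hx) (inv_mem hx), ?_⟩
  have h1 := mul_mem hc (h.CV (h.Q_V hx) (inv_mem hc))
  have e1 : c * (x * c⁻¹ * x⁻¹) = c * x * c⁻¹ * x⁻¹ := by group
  rwa [e1] at h1

theorem com_mem2 {c x : G} (hc : c ∈ centralizer (V : Set G)) (hx : x ∈ Q) :
    x * c * x⁻¹ * c⁻¹ ∈ Q ∧ x * c * x⁻¹ * c⁻¹ ∈ centralizer (V : Set G) := by
  obtain ⟨h1, h2⟩ := h.com_mem hc hx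
  have e1 : x * c * x⁻¹ * c⁻¹ = (c * x * c⁻¹ * x⁻¹)⁻¹ := by group
  rw [e1]
  exact ⟨inv_mem h1, inv_mem h2⟩

variable [Finite G]

theorem com_mem' {c x : G} (hc : c ∈ centralizer (V : Set G)) (hx : x ∈ Q') :
    c * x * c⁻¹ * x⁻¹ ∈ Q' ∧ c * x * c⁻¹ * x⁻¹ ∈ centralizer (V : Set G) := by
  refine ⟨mul_mem (h.CQ' hc hx) (inv_mem hx), ?_⟩
  have h1 := mul_mem hc (h.CV (h.Q'_V hx) (inv_mem hc))
  have e1 : c * (x * c⁻¹ * x⁻¹) = c * x * c⁻¹ * x⁻¹ := by group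
  rwa [e1] at h1

theorem com_mem2' {c x : G} (hc : c ∈ centralizer (V : Set G)) (hx : x ∈ Q') :
    x * c * x⁻¹ * c⁻¹ ∈ Q' ∧ x * c * x⁻¹ * c⁻¹ ∈ centralizer (V : Set G) := by
  obtain ⟨h1, h2⟩ := h.com_mem' hc hx
  have e1 : x * c * x⁻¹ * c⁻¹ = (c * x * c⁻¹ * x⁻¹)⁻¹ := by group
  rw [e1]
  exact ⟨inv_mem h1, inv_mem h2⟩

/-- an element interchanging the two points -/
theorem exists_swap : ∃ n ∈ normalizer (V : Set G), cj n Q = Q' ∧ cj n Q' = Q ∧ cj n R = R' ∧ cj n R' = R ∧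
    ∃ g : T → T, (∀ b, g (g b) = b) ∧ ∀ a b d, n * e a b d * n⁻¹ = e d (g b) a := by
  obtain ⟨c, hc, -⟩ := h.form.exists_ne
  have hf := h.form
  have hc' : N c ≠ 0 := by rw [hc]; exact one_ne_zero
  obtain ⟨u, hu, v, hv, -, -, hn⟩ := h.exists_n hc'
  obtain ⟨h1, h2⟩ := h.cj_n_Q hc' hn
  obtain ⟨h3, h4⟩ := h.cj_n hc' hn
  refine ⟨u * v * u, h.X_V (h.n_mem hu hv), h1, h2, h3, h4, fun b => b + B b c • c, ?_, ?_⟩
  · intro b
    change b + B b c • c + B (b + B b c • c) c • c = b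
    rw [hf.B_add, hf.B_smul, hf.B_self, mul_zero, add_zero, add_assoc, hf.T2, add_zero]
  · intro a b d
    rw [hn, hc, inv_one, one_mul, one_mul, one_mul]

theorem E'_le (b : T) (d : F) : e 0 b d ∈ Q' := by
  obtain ⟨n, hnV, h1, -, -, -, g, hg, hn⟩ := h.exists_swap
  rw [← h1]
  have h2 : e 0 b d = n * e d (g b) 0 * n⁻¹ := by rw [hn, hg]
  rw [h2]
  exact conj_mem_cj (h.E_le _ _)

theorem V_Q' {a : F} {b : T} {d : F} (h0 : e a b d ∈ Q') : a = 0 := by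
  obtain ⟨n, hnV, h1, -, -, -, g, hg, hn⟩ := h.exists_swap
  rw [← h1, mem_cj] at h0
  have h2 : n⁻¹ * e a b d * n = e d (g b) a := by
    have h3 := hn d (g b) a
    rw [hg] at h3
    rw [← h3]; group
  rw [h2] at h0
  exact h.V_Q _ _ _ h0

theorem QQ' {x y : G} (hx : x ∈ Q') (hy : y ∈ Q') : x * y * x⁻¹ * y⁻¹ ∈ R' := by
  obtain ⟨n, hnV, h1, -, h3, -, -⟩ := h.exists_swap
  rw [← h1, mem_cj] at hx hy
  rw [← h3, mem_cj]
  have := h.QQ _ hx _ hy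
  have e1 : n⁻¹ * (x * y * x⁻¹ * y⁻¹) * n = n⁻¹ * x * n * (n⁻¹ * y * n) * (n⁻¹ * x * n)⁻¹ * (n⁻¹ * y * n)⁻¹ := by
    group
  rwa [e1]

omit [Finite G] in
/-- `V = (V ∩ Q)(V ∩ Q')` -/
theorem V_split {v : G} (hv : v ∈ V) : ∃ a b d, v = e a b 0 * e 0 0 d ∧ e a b 0 ∈ Q := by
  obtain ⟨a, b, d, rfl⟩ := h.e_surj v hv
  refine ⟨a, b, d, ?_, h.E_le _ _⟩
  rw [← h.e_add]; simp

/-- an element of `Q V ∩ Q'` lies in `V` -/
theorem meet' {x w v : G} (hx : x ∈ Q') (hw : w ∈ Q) (hv : v ∈ V) (hxw : x = w * v) : x ∈ V := by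
  obtain ⟨a, b, d, h1, h2⟩ := h.V_split hv
  have h3 : x * (e 0 0 d)⁻¹ = w * e a b 0 := by
    rw [hxw, h1]; group
  have h4 : w * e a b 0 ∈ Q' := by
    rw [← h3]; exact mul_mem hx (inv_mem (h.E'_le 0 d))
  have h5 := h.meet ⟨mul_mem hw h2, h4⟩
  rw [← h3] at h5
  have := mul_mem h5 (h.e_mem 0 0 d)
  rwa [inv_mul_cancel_right] at this

/-- **(al), injective** -/
theorem al_inj {c : T} (hc : N c ≠ 0) {u d : G} (hu : u ∈ Q) (huc : IsU e N B u c) (hd : d ∈ Q')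
    (hud : u * d * u⁻¹ * d⁻¹ ∈ V) : d ∈ V := by
  have hf := h.form
  obtain ⟨u₁, hu₁, v, hv, hua, hva, -⟩ := h.exists_n hc
  -- `v R v⁻¹ = u R' u⁻¹`
  have hN : N ((N c)⁻¹ • c) = (N c)⁻¹ := by rw [hf.N_smul]; field_simp
  have hR : cj v R = cj u R' := by
    have hvR : ∀ a, v * e a 0 0 * v⁻¹ = e a ((a * (N c)⁻¹) • c) ((N c)⁻¹ * a) := by
      intro a
      rw [hva, hf.zero_B, hN, smul_smul]; simp
    have huR : ∀ d, u * e 0 0 d * u⁻¹ = e (N c * d) (d • c) d := by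
      intro d
      rw [huc, hf.zero_B]; simp
    ext x
    rw [mem_cj, mem_cj, h.R_iff, h.R'_iff]
    constructor
    · rintro ⟨a, ha⟩
      refine ⟨(N c)⁻¹ * a, ?_⟩
      have h1 : x = v * e a 0 0 * v⁻¹ := by rw [ha]; group
      have h2 := huR ((N c)⁻¹ * a)
      have e1 : N c * ((N c)⁻¹ * a) = a := by field_simp
      have e2 : (N c)⁻¹ * a = a * (N c)⁻¹ := mul_comm _ _
      rw [e1] at h2
      rw [h1, hvR, ← e2, ← h2]; group
    · rintro ⟨d, hd⟩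
      refine ⟨N c * d, ?_⟩
      have h1 : x = u * e 0 0 d * u⁻¹ := by rw [hd]; group
      have h2 := hvR (N c * d)
      have e1 : N c * d * (N c)⁻¹ = d := by field_simp
      have e2 : (N c)⁻¹ * (N c * d) = d := by field_simp
      rw [e1, e2] at h2
      rw [h1, huR, ← h2]; group
  have hQ : cj v Q = cj u Q' := by
    rw [h.Q_eq, h.Q'_eq, cj_o2, cj_norm, hR, cj_o2, cj_norm]
  have hvV := h.Q'_V hv
  -- decompose
  set v₀ := u * d * u⁻¹ * d⁻¹ with hv₀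
  have h1 : v⁻¹ * v₀ * v ∈ V := by
    have := (mem_normalizer_iff.1 (inv_mem hvV) v₀).1 hud
    rwa [inv_inv] at this
  obtain ⟨a, b, d', h2, h3⟩ := h.V_split h1
  have h4 : v * (e 0 0 d') * v⁻¹ * d ∈ Q' :=
    mul_mem (mul_mem (mul_mem hv (h.E'_le 0 d')) (inv_mem hv)) hd
  have h5 : v * (e 0 0 d') * v⁻¹ * d = (v * e a b 0 * v⁻¹)⁻¹ * (u * d * u⁻¹) := by
    have e1 : v₀ = v * (e a b 0 * e 0 0 d') * v⁻¹ := by rw [← h2]; group
    have e2 : u * d * u⁻¹ = v₀ * d := by rw [hv₀]; group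
    rw [e2, e1]; group
  have h6 : v * (e 0 0 d') * v⁻¹ * d ∈ cj v Q := by
    rw [h5]
    refine mul_mem (inv_mem (conj_mem_cj h3)) ?_
    rw [hQ]; exact conj_mem_cj hd
  have h7 : v⁻¹ * (v * (e 0 0 d') * v⁻¹ * d) * v ∈ V := by
    apply h.meet
    exact mem_inf.2 ⟨mem_cj.1 h6, Q'.mul_mem (Q'.mul_mem (Q'.inv_mem hv) h4) hv⟩
  have h8 : v * (e 0 0 d') * v⁻¹ * d ∈ V := by
    have := (mem_normalizer_iff.1 hvV _).1 h7
    have e1 : v * (v⁻¹ * (v * (e 0 0 d') * v⁻¹ * d) * v) * v⁻¹ = v * (e 0 0 d') * v⁻¹ * d := by group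
    rwa [e1] at this
  have h9 : v * (e 0 0 d') * v⁻¹ ∈ V := (mem_normalizer_iff.1 hvV _).1 (h.e_mem _ _ _)
  have := mul_mem (inv_mem h9) h8
  rwa [inv_mul_cancel_left] at this

theorem card_D : V.relIndex (centralizer (V : Set G) ⊓ Q) = V.relIndex (centralizer (V : Set G) ⊓ Q') := by
  obtain ⟨n, hnV, h1, -⟩ := h.exists_swap
  have h2 : cj n (centralizer (V : Set G) ⊓ Q) = centralizer (V : Set G) ⊓ Q' := by
    ext x
    rw [mem_cj, mem_inf, mem_inf, ← h1, mem_cj]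
    refine and_congr_left fun _ => ⟨fun hx => ?_, fun hx => ?_⟩
    · have := h.CV hnV hx
      have e1 : n * (n⁻¹ * x * n) * n⁻¹ = x := by group
      rwa [e1] at this
    · have := h.CV (inv_mem hnV) hx
      rwa [inv_inv] at this
  have h3 : cj n V = V := by
    ext x
    rw [mem_cj]
    constructor
    · intro hx
      have := (mem_normalizer_iff.1 hnV _).1 hx
      have e1 : n * (n⁻¹ * x * n) * n⁻¹ = x := by group
      rwa [e1] at this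
    · intro hx
      have := (mem_normalizer_iff.1 (inv_mem hnV) _).1 hx
      rwa [inv_inv] at this
  calc V.relIndex (centralizer (V : Set G) ⊓ Q)
      = (cj n V).relIndex (cj n (centralizer (V : Set G) ⊓ Q)) :=
        (relIndex_map_map_of_injective _ _ (MulAut.conj n).injective).symm
    _ = V.relIndex (centralizer (V : Set G) ⊓ Q') := by rw [h3, h2]

omit [Finite G] in
/-- elements of `Q` commute modulo `R` -/
theorem Q_comm {x y : G} (hx : x ∈ Q) (hy : y ∈ Q) : x * y * x⁻¹ * y⁻¹ ∈ V := h.R_V (h.QQ x hx y hy)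

omit [Finite G] in
theorem cenR {x r : G} (hx : x ∈ Q) (hr : r ∈ R) : r * x = x * r := mem_centralizer_iff.1 (h.Q_cen hx) r hr

/-- **(al), surjective** -/
theorem al_surj {c : T} (hc : N c ≠ 0) {u w : G} (hu : u ∈ Q) (huc : IsU e N B u c) (hw : w ∈ Q)
    (hwV : w ∈ centralizer (V : Set G)) :
    ∃ d ∈ Q', d ∈ centralizer (V : Set G) ∧ ∃ v ∈ V, w = (u * d * u⁻¹ * d⁻¹) * v := by
  have hVC : ∀ {x v : G}, x ∈ centralizer (V : Set G) → v ∈ V → v * x = x * v := fun hx hv =>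
    mem_centralizer_iff.1 hx _ hv
  have huV : ∀ v ∈ V, u * v * u⁻¹ ∈ V := fun v hv => (mem_normalizer_iff.1 (h.Q_V hu) v).1 hv
  have key : ∀ a ∈ centralizer (V : Set G), a ∈ Q' → ∀ b ∈ centralizer (V : Set G), b ∈ Q' →
      ((u * a * u⁻¹ * a⁻¹)⁻¹ * (u * b * u⁻¹ * b⁻¹) ∈ V ↔ u * (a⁻¹ * b) * u⁻¹ * (a⁻¹ * b)⁻¹ ∈ V) := by
    intro a haV ha b hbV hb
    obtain ⟨h1, h2⟩ := h.com_mem2 haV hu
    obtain ⟨h3, h4⟩ := h.com_mem2 hbV hu
    -- `[u, a⁻¹ b] = ([u,a]^{-1} conjugated) ...`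
    have e1 : u * (a⁻¹ * b) * u⁻¹ * (a⁻¹ * b)⁻¹ =
        a⁻¹ * ((u * a * u⁻¹ * a⁻¹)⁻¹ * (u * b * u⁻¹ * b⁻¹)) * a := by
      have : u * (a⁻¹ * b) * u⁻¹ * (a⁻¹ * b)⁻¹ =
        (u * a * u⁻¹)⁻¹ * (u * b * u⁻¹ * b⁻¹) * a := by group
      rw [this]
      have h5 : (u * a * u⁻¹)⁻¹ = a⁻¹ * (u * a * u⁻¹ * a⁻¹)⁻¹ := by group
      rw [h5]; group
    rw [e1]
    constructor
    · intro h0
      have h5 := hVC (inv_mem haV) h0
      rw [← h5, inv_mul_cancel_right]; exact h0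
    · intro h0
      have h5 := hVC haV h0
      have h6 : a * (a⁻¹ * ((u * a * u⁻¹ * a⁻¹)⁻¹ * (u * b * u⁻¹ * b⁻¹)) * a) * a⁻¹ =
        (u * a * u⁻¹ * a⁻¹)⁻¹ * (u * b * u⁻¹ * b⁻¹) := by group
      rw [← h6, ← h5, mul_inv_cancel_right]; exact h0
  obtain ⟨d, hd, hdw⟩ := surj_of_inj (A := centralizer (V : Set G) ⊓ Q') (A' := centralizer (V : Set G) ⊓ Q)
    (V := V) h.card_D.le (fun d => u * d * u⁻¹ * d⁻¹) (fun a ha => by
      obtain ⟨h1, h2⟩ := h.com_mem2 ha.1 hu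
      exact ⟨h2, h1⟩) (fun a ha b hb hab => by
      rw [key a ha.1 ha.2 b hb.1 hb.2]
      exact mul_mem (huV _ hab) (inv_mem hab)) (fun a ha b hb hab => by
      rw [key a ha.1 ha.2 b hb.1 hb.2] at hab
      exact h.al_inj hc hu huc (mul_mem (inv_mem ha.2) hb.2) hab) (y := w) ⟨hwV, hw⟩
  refine ⟨d, hd.2, hd.1, _, hdw, ?_⟩
  group

/-! ### Characters -/

omit [Finite G] in
theorem exists_par : ∃ p : G → T, ∀ x c, IsU e N B x c → p x = c := by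
  classical
  refine ⟨fun x => if hx : ∃ c, IsU e N B x c then hx.choose else 0, fun x c hx => ?_⟩
  have hex : ∃ c, IsU e N B x c := ⟨c, hx⟩
  change (if hx : ∃ c, IsU e N B x c then hx.choose else 0) = c
  rw [dif_pos hex]
  exact h.isU_eq hex.choose_spec hx

theorem card_QC : (centralizer (V : Set G)).relIndex Q = Nat.card T := by
  obtain ⟨p, hp⟩ := h.exists_par
  apply NO1.Beta.Inst.relIndex_eq_card p
  · intro x hx y hy
    obtain ⟨c, hc⟩ := h.act x hx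
    obtain ⟨c', hc'⟩ := h.act y hy
    rw [hp x c hc, hp y c' hc', hp _ _ (h.isU_mul hc hc')]
  · intro c
    obtain ⟨y, hy, hc⟩ := h.act_surj c
    exact ⟨y, hy, hp y c hc⟩
  · intro x hx
    obtain ⟨c, hc⟩ := h.act x hx
    rw [hp x c hc]
    constructor
    · rintro rfl
      exact h.cen_of_isU hc
    · intro h0
      exact h.isU_eq hc (h.isU_one_of_cen h0)

theorem card_ER : R.relIndex (V ⊓ Q) = Nat.card T := by
  classical
  have hex : ∃ p : G → T, ∀ a b, p (e a b 0) = b := by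
    refine ⟨fun x => if hx : ∃ ab : F × T, e ab.1 ab.2 0 = x then hx.choose.2 else 0, fun a b => ?_⟩
    have hex : ∃ ab : F × T, e ab.1 ab.2 0 = e a b 0 := ⟨(a, b), rfl⟩
    change (if hx : ∃ ab : F × T, e ab.1 ab.2 0 = e a b 0 then hx.choose.2 else 0) = b
    rw [dif_pos hex]
    exact (h.e_eq hex.choose_spec).2.1
  obtain ⟨p, hp⟩ := hex
  apply NO1.Beta.Inst.relIndex_eq_card p
  · rintro x ⟨hx, hxQ⟩ y ⟨hy, hyQ⟩
    obtain ⟨a, b, rfl⟩ := h.mem_E hx hxQ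
    obtain ⟨a', b', rfl⟩ := h.mem_E hy hyQ
    rw [hp, hp, ← h.e_add, add_zero, hp]
  · intro b
    exact ⟨e 0 b 0, ⟨h.e_mem _ _ _, h.E_le _ _⟩, hp _ _⟩
  · rintro x ⟨hx, hxQ⟩
    obtain ⟨a, b, rfl⟩ := h.mem_E hx hxQ
    rw [hp, h.R_iff]
    constructor
    · rintro rfl
      exact ⟨a, rfl⟩
    · rintro ⟨a', h1⟩
      exact (h.e_eq h1).2.1.symm

/-- a nontrivial character of `R` -/
theorem exists_chi : ∃ χ : G → ℤˣ, (∀ a ∈ R, ∀ b ∈ R, χ (a * b) = χ a * χ b) ∧ ∃ r ∈ R, χ r ≠ 1 := by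
  obtain ⟨χ, h1, -, h3⟩ := exists_sep (E := R) (I := ⊥) (fun a ha b hb => h.V_comm (h.R_V ha) (h.R_V hb))
    (fun a ha => h.V_sq (h.R_V ha)) bot_le (h.e_R 1) (by
      rw [mem_bot]
      intro h0
      exact one_ne_zero (h.e_inj _ _ _ h0).1)
  refine ⟨χ, h1, _, h.e_R 1, ?_⟩
  rw [h3]; decide

omit [Finite G] in
/-- multiplicativity of `χ([x, y])` in `y` -/
theorem chi_mul {χ : G → ℤˣ} (hχ : ∀ a ∈ R, ∀ b ∈ R, χ (a * b) = χ a * χ b) {x y y' : G} (hx : x ∈ Q) (hy : y ∈ Q)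
    (hy' : y' ∈ Q) : χ (x * (y * y') * x⁻¹ * (y * y')⁻¹) = χ (x * y * x⁻¹ * y⁻¹) * χ (x * y' * x⁻¹ * y'⁻¹) := by
  rw [← hχ _ (h.QQ x hx y hy) _ (h.QQ x hx y' hy')]
  congr 1
  have h1 := h.cenR hy (h.QQ x hx y' hy')
  calc x * (y * y') * x⁻¹ * (y * y')⁻¹ = (x * y * x⁻¹) * (x * y' * x⁻¹ * y'⁻¹) * y⁻¹ := by group
    _ = (x * y * x⁻¹ * y⁻¹) * (y * (x * y' * x⁻¹ * y'⁻¹)) * y⁻¹ := by group
    _ = (x * y * x⁻¹ * y⁻¹) * ((x * y' * x⁻¹ * y'⁻¹) * y) * y⁻¹ := by rw [h1]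
    _ = _ := by group

omit [Finite G] in
/-- multiplicativity of `χ([x, y])` in `x` -/
theorem chi_mul_left {χ : G → ℤˣ} (hχ : ∀ a ∈ R, ∀ b ∈ R, χ (a * b) = χ a * χ b) {x x' y : G} (hx : x ∈ Q)
    (hx' : x' ∈ Q) (hy : y ∈ Q) :
    χ (x * x' * y * (x * x')⁻¹ * y⁻¹) = χ (x * y * x⁻¹ * y⁻¹) * χ (x' * y * x'⁻¹ * y⁻¹) := by
  rw [← hχ _ (h.QQ x hx y hy) _ (h.QQ x' hx' y hy)]
  congr 1
  have h1 := h.cenR hx (h.QQ x' hx' y hy)
  calc x * x' * y * (x * x')⁻¹ * y⁻¹ = x * (x' * y * x'⁻¹ * y⁻¹) * (y * x⁻¹ * y⁻¹) := by group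
    _ = (x' * y * x'⁻¹ * y⁻¹) * x * (y * x⁻¹ * y⁻¹) := by rw [← h1]
    _ = (x' * y * x'⁻¹ * y⁻¹) * (x * y * x⁻¹ * y⁻¹) := by group
    _ = (x * y * x⁻¹ * y⁻¹) * (x' * y * x'⁻¹ * y⁻¹) := h.V_comm (h.R_V (h.QQ x' hx' y hy)) (h.R_V (h.QQ x hx y hy))

omit [Finite G] in
theorem chi_one {χ : G → ℤˣ} (hχ : ∀ a ∈ R, ∀ b ∈ R, χ (a * b) = χ a * χ b) : χ 1 = 1 := by
  have := hχ 1 (one_mem _) 1 (one_mem _)
  rw [mul_one] at this
  exact left_eq_mul.1 this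

omit [Finite G] in
/-- the left kernel -/
theorem chi_ker {χ : G → ℤˣ} (hχ : ∀ a ∈ R, ∀ b ∈ R, χ (a * b) = χ a * χ b) (hn : ∃ r ∈ R, χ r ≠ 1) {x x' : G}
    (hx : x ∈ Q) (hx' : x' ∈ Q) (hxx : ∀ y ∈ Q, χ (x * y * x⁻¹ * y⁻¹) = χ (x' * y * x'⁻¹ * y⁻¹)) :
    x⁻¹ * x' ∈ R := by
  by_contra hcon
  obtain ⟨r, hr, hr1⟩ := hn
  obtain ⟨n, hn, h1⟩ := h.semi _ (mul_mem (inv_mem hx) hx') hcon r⁻¹ (inv_mem hr)
  apply hr1
  have h2 : (x⁻¹ * x') * n * (x⁻¹ * x')⁻¹ * n⁻¹ = r := by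
    rw [← inv_inv r, ← h1]; group
  rw [← h2, h.chi_mul_left hχ (inv_mem hx) hx' hn, ← hxx n hn, ← h.chi_mul_left hχ (inv_mem hx) hx hn]
  have h3 : x⁻¹ * x * n * (x⁻¹ * x)⁻¹ * n⁻¹ = 1 := by group
  rw [h3]
  exact h.chi_one hχ

/-- **`C_Q(D₀) = E`**, for one character of `R` -/
theorem cchi {χ : G → ℤˣ} (hχ : ∀ a ∈ R, ∀ b ∈ R, χ (a * b) = χ a * χ b) (hn : ∃ r ∈ R, χ r ≠ 1) {w : G} (hw : w ∈ Q)
    (hc : ∀ y ∈ Q, y ∈ centralizer (V : Set G) → χ (w * y * w⁻¹ * y⁻¹) = 1) : w ∈ V := by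
  obtain ⟨x, ⟨hxV, hxQ⟩, hx⟩ := NO1.Beta.exists_rep (X := V ⊓ Q) (P := Q) (Z := R) (K := centralizer (V : Set G))
    (fun x y => χ (x * y * x⁻¹ * y⁻¹)) (fun y hy k _ hk => h.CV (h.Q_V hy) hk)
    (fun x hx y hy y' hy' => h.chi_mul hχ hx.2 hy hy')
    (fun x hx k hk hkV => by
      have h1 := mem_centralizer_iff.1 hkV x hx.1
      have h2 : x * k * x⁻¹ * k⁻¹ = 1 := by rw [h1]; group
      change χ (x * k * x⁻¹ * k⁻¹) = 1
      rw [h2]; exact h.chi_one hχ)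
    (fun x hx x' hx' hxx => h.chi_ker hχ hn hx.2 hx'.2 hxx)
    (by rw [h.card_QC, h.card_ER]) (fun y => χ (w * y * w⁻¹ * y⁻¹))
    (fun y hy y' hy' => h.chi_mul hχ hw hy hy') (fun k hk hkV => hc k hk hkV)
  have h1 := h.chi_ker hχ hn hxQ hw hx
  have h2 := mul_mem hxV (h.R_V h1)
  rwa [mul_inv_cancel_left] at h2

/-- **`C_Q(D₀) = E`** -/
theorem cc {w : G} (hw : w ∈ Q) (hc : ∀ y ∈ Q, y ∈ centralizer (V : Set G) → y * w = w * y) : w ∈ V := by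
  obtain ⟨χ, hχ, hn⟩ := h.exists_chi
  apply h.cchi hχ hn hw
  intro y hy hyV
  have h1 : w * y * w⁻¹ * y⁻¹ = 1 := by rw [← hc y hy hyV]; group
  rw [h1]; exact h.chi_one hχ

/-- every character of `E/R` is `y ↦ χ([x, y])` -/
theorem rep {χ : G → ℤˣ} (hχ : ∀ a ∈ R, ∀ b ∈ R, χ (a * b) = χ a * χ b) (hn : ∃ r ∈ R, χ r ≠ 1) (g : G → ℤˣ)
    (hg : ∀ a ∈ V ⊓ Q, ∀ b ∈ V ⊓ Q, g (a * b) = g a * g b) (hgR : ∀ a ∈ R, g a = 1) :
    ∃ x ∈ Q, ∀ y ∈ V ⊓ Q, χ (x * y * x⁻¹ * y⁻¹) = g y := by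
  refine NO1.Beta.exists_rep (X := Q) (P := V ⊓ Q) (Z := centralizer (V : Set G)) (K := R)
    (fun x y => χ (x * y * x⁻¹ * y⁻¹)) (fun y hy k _ hk => ?_)
    (fun x hx y hy y' hy' => h.chi_mul hχ hx hy.2 hy'.2)
    (fun x hx k hk hkR => ?_) (fun x hx x' hx' hxx => ?_) (by rw [h.card_QC, h.card_ER]) g hg
    (fun k _ hkR => hgR k hkR)
  · have h1 := h.cenR hy.2 hk
    rw [← h1, mul_inv_cancel_right]; exact hk
  · have h1 := h.cenR hx hkR
    have h2 : x * k * x⁻¹ * k⁻¹ = 1 := by rw [← h1]; group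
    change χ (x * k * x⁻¹ * k⁻¹) = 1
    rw [h2]; exact h.chi_one hχ
  · -- `x⁻¹ x' ∈ C(V)`
    have hz := mul_mem (inv_mem hx) hx'
    obtain ⟨c, hc⟩ := h.act _ hz
    have h0 : c = 0 := by
      by_contra hc0
      obtain ⟨r, hr, hr1⟩ := hn
      obtain ⟨a, rfl⟩ := (h.R_iff r).1 hr
      obtain ⟨b, hb⟩ := h.form.B_surj c hc0 a
      have hb' : e 0 b 0 ∈ V ⊓ Q := ⟨h.e_mem _ _ _, h.E_le _ _⟩
      apply hr1
      have h1 : x⁻¹ * x' * e 0 b 0 * (x⁻¹ * x')⁻¹ * (e 0 b 0)⁻¹ = e a 0 0 := by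
        rw [hc, h.e_inv, ← h.e_add, h.form.B_symm, hb]
        simp [h.form.T2]
      rw [← h1, h.chi_mul_left hχ (inv_mem hx) hx' hb'.2, ← hxx _ hb', ← h.chi_mul_left hχ (inv_mem hx) hx hb'.2]
      have h3 : x⁻¹ * x * e 0 b 0 * (x⁻¹ * x)⁻¹ * (e 0 b 0)⁻¹ = 1 := by group
      rw [h3]
      exact h.chi_one hχ
    subst h0
    exact h.cen_of_isU hc

end Pair

end Cfsg.Agent.Omega.All.NOne
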