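import Cfsg.Agent.Omega.All.NOne.TwoB

/-!
# THEOREM ALL-N1: the two-point data, part C

* `Pair.norm` : an element `c ∈ C(V)` with `[c, C_Q(V)] ≤ V` lies in `V C_{Q'}(V) C_Q(V)`.
-/

set_option autoImplicit false
set_option linter.unusedSectionVars false
set_option linter.unusedVariables false

namespace Cfsg.Agent.Omega.All.NOne

open Subgroup Cfsg Cfsg.Agent.ZN
open Cfsg.Agent.MinSimple.VModule (le_normalizer_o2 o2_isPGroup)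

universe u

variable {G : Type u} [Group G] {F T : Type*} [Field F] [AddCommGroup T] [Module F T]

namespace Pair

variable {S V R Q R' Q' : Subgroup G} {e : F → T → F → G} {N : T → F} {B : T → T → F}
  (h : Pair S V R Q R' Q' e N B)
include h

theorem exists_tau : ∃ τ : G → T, ∀ a b, τ (e a b 0) = b := by
  classical
  refine ⟨fun x => if hx : ∃ ab : F × T, e ab.1 ab.2 0 = x then hx.choose.2 else 0, fun a b => ?_⟩
  have hex : ∃ ab : F × T, e ab.1 ab.2 0 = e a b 0 := ⟨(a, b), rfl⟩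
  change (if hx : ∃ ab : F × T, e ab.1 ab.2 0 = e a b 0 then hx.choose.2 else 0) = b
  rw [dif_pos hex]
  exact (h.e_eq hex.choose_spec).2.1

theorem V_Cn {x : G} (hx : x ∈ centralizer (V : Set G)) {v : G} (hv : v ∈ V) : x * v * x⁻¹ = v := by
  have := mem_centralizer_iff.1 hx v hv
  rw [← this, mul_inv_cancel_right]

variable [Finite G]

/-- `L = V D D₀` -/
def LL (h : Pair S V R Q R' Q' e N B) : Subgroup G where
  carrier := {x | ∃ v ∈ V, ∃ d ∈ Q', d ∈ centralizer (V : Set G) ∧ ∃ w ∈ Q, w ∈ centralizer (V : Set G) ∧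
    x = v * d * w}
  one_mem' := ⟨1, one_mem _, 1, one_mem _, one_mem _, 1, one_mem _, one_mem _, by group⟩
  mul_mem' := by
    rintro _ _ ⟨v, hv, d, hd, hdV, w, hw, hwV, rfl⟩ ⟨v', hv', d', hd', hdV', w', hw', hwV', rfl⟩
    refine ⟨v * v', mul_mem hv hv', d * d', mul_mem hd hd', mul_mem hdV hdV', (d'⁻¹ * w * d') * w', ?_, ?_, ?_⟩
    · have := h.CQ (inv_mem hdV') hw
      rw [inv_inv] at this
      exact mul_mem this hw'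
    · exact mul_mem (mul_mem (mul_mem (inv_mem hdV') hwV) hdV') hwV'
    · have h1 := VC (mul_mem hdV hwV) hv'
      calc v * d * w * (v' * d' * w') = v * ((d * w) * v') * d' * w' := by group
        _ = v * (v' * (d * w)) * d' * w' := by rw [h1]
        _ = v * v' * (d * d') * (d'⁻¹ * w * d' * w') := by group
  inv_mem' := by
    rintro _ ⟨v, hv, d, hd, hdV, w, hw, hwV, rfl⟩
    refine ⟨v⁻¹, inv_mem hv, d⁻¹, inv_mem hd, inv_mem hdV, d * w⁻¹ * d⁻¹, h.CQ hdV (inv_mem hw),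
      mul_mem (mul_mem hdV (inv_mem hwV)) (inv_mem hdV), ?_⟩
    have h1 := VC (mul_mem (inv_mem hwV) (inv_mem hdV)) (inv_mem hv)
    calc (v * d * w)⁻¹ = (w⁻¹ * d⁻¹) * v⁻¹ := by group
      _ = v⁻¹ * (w⁻¹ * d⁻¹) := by rw [h1]
      _ = v⁻¹ * d⁻¹ * (d * w⁻¹ * d⁻¹) := by group

theorem V_LL : V ≤ h.LL := fun v hv => ⟨v, hv, 1, one_mem _, one_mem _, 1, one_mem _, one_mem _, by group⟩

theorem D_LL {d : G} (hd : d ∈ Q') (hdV : d ∈ centralizer (V : Set G)) : d ∈ h.LL :=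
  ⟨1, one_mem _, d, hd, hdV, 1, one_mem _, one_mem _, by group⟩

theorem D₀_LL {w : G} (hw : w ∈ Q) (hwV : w ∈ centralizer (V : Set G)) : w ∈ h.LL :=
  ⟨1, one_mem _, 1, one_mem _, one_mem _, w, hw, hwV, by group⟩

/-- `[C(V), ⟨Q, Q'⟩] ≤ L` -/
theorem com_LL {x c : G} (hx : x ∈ Q ⊔ Q') (hc : c ∈ centralizer (V : Set G)) : x * c * x⁻¹ * c⁻¹ ∈ h.LL := by
  let Y : Subgroup G :=
    { carrier := {x | (∀ l ∈ h.LL, x * l * x⁻¹ ∈ h.LL) ∧ (∀ l ∈ h.LL, x⁻¹ * l * x ∈ h.LL) ∧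
        ∀ c ∈ centralizer (V : Set G), x * c * x⁻¹ * c⁻¹ ∈ h.LL}
      one_mem' := ⟨fun l hl => by simpa using hl, fun l hl => by simpa using hl, fun c hc => by
        have : (1 : G) * c * 1⁻¹ * c⁻¹ = 1 := by group
        rw [this]; exact one_mem _⟩
      mul_mem' := by
        rintro a b ⟨ha1, ha2, ha3⟩ ⟨hb1, hb2, hb3⟩
        refine ⟨fun l hl => ?_, fun l hl => ?_, fun c hc => ?_⟩
        · have e1 : a * b * l * (a * b)⁻¹ = a * (b * l * b⁻¹) * a⁻¹ := by group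
          rw [e1]; exact ha1 _ (hb1 l hl)
        · have e1 : (a * b)⁻¹ * l * (a * b) = b⁻¹ * (a⁻¹ * l * a) * b := by group
          rw [e1]; exact hb2 _ (ha2 l hl)
        · have e1 : a * b * c * (a * b)⁻¹ * c⁻¹ = (a * (b * c * b⁻¹ * c⁻¹) * a⁻¹) * (a * c * a⁻¹ * c⁻¹) := by group
          rw [e1]; exact mul_mem (ha1 _ (hb3 c hc)) (ha3 c hc)
      inv_mem' := by
        rintro a ⟨ha1, ha2, ha3⟩
        refine ⟨fun l hl => ?_, fun l hl => ?_, fun c hc => ?_⟩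
        · rw [inv_inv]; exact ha2 l hl
        · rw [inv_inv]; exact ha1 l hl
        · have e1 : a⁻¹ * c * a⁻¹⁻¹ * c⁻¹ = a⁻¹ * (a * c * a⁻¹ * c⁻¹)⁻¹ * a := by group
          rw [e1]; exact ha2 _ (inv_mem (ha3 c hc)) }
  have hQ : ∀ x ∈ Q, ∀ l ∈ h.LL, x * l * x⁻¹ ∈ h.LL := by
    rintro x hx _ ⟨v, hv, d, hd, hdV, w, hw, hwV, rfl⟩
    have e1 : x * (v * d * w) * x⁻¹ = (x * v * x⁻¹) * ((x * d * x⁻¹ * d⁻¹) * d) * (x * w * x⁻¹) := by group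
    rw [e1]
    obtain ⟨h1, h2⟩ := h.com_mem2 hdV hx
    exact mul_mem (mul_mem (h.V_LL ((mem_normalizer_iff.1 (h.Q_V hx) _).1 hv))
      (mul_mem (h.D₀_LL h1 h2) (h.D_LL hd hdV)))
      (h.D₀_LL (mul_mem (mul_mem hx hw) (inv_mem hx)) (h.CV (h.Q_V hx) hwV))
  have hQ' : ∀ x ∈ Q', ∀ l ∈ h.LL, x * l * x⁻¹ ∈ h.LL := by
    rintro x hx _ ⟨v, hv, d, hd, hdV, w, hw, hwV, rfl⟩
    have e1 : x * (v * d * w) * x⁻¹ = (x * v * x⁻¹) * (x * d * x⁻¹) * ((x * w * x⁻¹ * w⁻¹) * w) := by group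
    rw [e1]
    obtain ⟨h1, h2⟩ := h.com_mem2' hwV hx
    exact mul_mem (mul_mem (h.V_LL ((mem_normalizer_iff.1 (h.Q'_V hx) _).1 hv))
      (h.D_LL (mul_mem (mul_mem hx hd) (inv_mem hx)) (h.CV (h.Q'_V hx) hdV)))
      (mul_mem (h.D_LL h1 h2) (h.D₀_LL hw hwV))
  have hle : Q ⊔ Q' ≤ Y := by
    apply sup_le
    · intro x hx
      refine ⟨hQ x hx, fun l hl => ?_, fun c hc => ?_⟩
      · have := hQ x⁻¹ (inv_mem hx) l hl
        rwa [inv_inv] at this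
      · obtain ⟨h1, h2⟩ := h.com_mem2 hc hx
        exact h.D₀_LL h1 h2
    · intro x hx
      refine ⟨hQ' x hx, fun l hl => ?_, fun c hc => ?_⟩
      · have := hQ' x⁻¹ (inv_mem hx) l hl
        rwa [inv_inv] at this
      · obtain ⟨h1, h2⟩ := h.com_mem2' hc hx
        exact h.D_LL h1 h2
  exact (hle hx).2.2 c hc

/-- an element acting as `t(l)` normalises `R`, `R'` -/
theorem t_norm {l : F} (hl : l ≠ 0) {t : G}
    (hta : ∀ a b d, t * e a b d * t⁻¹ = e (l ^ 2 * a) b ((l ^ 2)⁻¹ * d)) :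
    t ∈ normalizer (R : Set G) ∧ t ∈ normalizer (R' : Set G) := by
  have hl2 : l ^ 2 ≠ 0 := pow_ne_zero 2 hl
  have hinv : ∀ a b d, t⁻¹ * e a b d * t = e ((l ^ 2)⁻¹ * a) b (l ^ 2 * d) := by
    intro a b d
    have h1 := hta ((l ^ 2)⁻¹ * a) b (l ^ 2 * d)
    have e1 : l ^ 2 * ((l ^ 2)⁻¹ * a) = a := by field_simp
    have e2 : (l ^ 2)⁻¹ * (l ^ 2 * d) = d := by field_simp
    rw [e1, e2] at h1
    rw [← h1]; group
  constructor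
  · apply mem_norm_of
    · intro x hx
      obtain ⟨a, rfl⟩ := (h.R_iff x).1 hx
      rw [hta, mul_zero]; exact h.e_R _
    · intro x hx
      obtain ⟨a, rfl⟩ := (h.R_iff x).1 hx
      rw [hinv, mul_zero]; exact h.e_R _
  · apply mem_norm_of
    · intro x hx
      obtain ⟨a, rfl⟩ := (h.R'_iff x).1 hx
      rw [hta, mul_zero]; exact (h.R'_iff _).2 ⟨_, rfl⟩
    · intro x hx
      obtain ⟨a, rfl⟩ := (h.R'_iff x).1 hx
      rw [hinv, mul_zero]; exact (h.R'_iff _).2 ⟨_, rfl⟩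

theorem isU_t {l : F} (hl : l ≠ 0) {t x : G} {c : T}
    (hta : ∀ a b d, t * e a b d * t⁻¹ = e (l ^ 2 * a) b ((l ^ 2)⁻¹ * d)) (hx : IsU e N B x c) :
    IsU e N B (t * x * t⁻¹) (l ^ 2 • c) := by
  have hf := h.form
  have hl2 : l ^ 2 ≠ 0 := pow_ne_zero 2 hl
  intro a b d
  have hinv : t⁻¹ * e a b d * t = e ((l ^ 2)⁻¹ * a) b (l ^ 2 * d) := by
    have h1 := hta ((l ^ 2)⁻¹ * a) b (l ^ 2 * d)
    have e1 : l ^ 2 * ((l ^ 2)⁻¹ * a) = a := by field_simp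
    have e2 : (l ^ 2)⁻¹ * (l ^ 2 * d) = d := by field_simp
    rw [e1, e2] at h1
    rw [← h1]; group
  have e1 : t * x * t⁻¹ * e a b d * (t * x * t⁻¹)⁻¹ = t * (x * (t⁻¹ * e a b d * t) * x⁻¹) * t⁻¹ := by group
  rw [e1, hinv, hx, hta]
  congr 1
  · rw [hf.B_smul', hf.N_smul]; field_simp
  · rw [smul_smul, mul_comm]
  · field_simp

section torus

variable {l : F} (hl : l ≠ 0) {t : G} (ht : t ∈ Q ⊔ Q')
  (hta : ∀ a b d, t * e a b d * t⁻¹ = e (l ^ 2 * a) b ((l ^ 2)⁻¹ * d))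
  (htf : ∀ w ∈ Q, w ∈ centralizer (V : Set G) → t * w * t⁻¹ * w⁻¹ ∈ V → w ∈ V)
include hl ht hta htf

/-- `λ ∘ t = λ` implies `λ = 0` -/
theorem lam_zero {x : G} (hx : x ∈ centralizer (V : Set G))
    (hxV : ∀ w ∈ Q, w ∈ centralizer (V : Set G) → x * w * x⁻¹ * w⁻¹ ∈ V)
    (hxt : ∀ w ∈ Q, w ∈ centralizer (V : Set G) →
      (x * (t * w * t⁻¹) * x⁻¹ * (t * w * t⁻¹)⁻¹) * (x * w * x⁻¹ * w⁻¹)⁻¹ ∈ R) :
    ∀ w ∈ Q, w ∈ centralizer (V : Set G) → x * w * x⁻¹ * w⁻¹ ∈ R := by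
  intro y hy hyV
  obtain ⟨htR, htR'⟩ := h.t_norm hl hta
  obtain ⟨a, ⟨haV, haQ⟩, v, hv, hya⟩ := fpf_surj (A := centralizer (V : Set G) ⊓ Q) inf_le_left (h.X_V ht)
    (fun a ha => ⟨h.CV (h.X_V ht) ha.1, (mem_normalizer_iff.1 (h.nor_Q htR) a).1 ha.2⟩)
    (fun g hg => htf g hg.2 hg.1) (y := y) ⟨hyV, hy⟩
  set p := t * a * t⁻¹ with hp
  have hpV : p ∈ centralizer (V : Set G) := h.CV (h.X_V ht) haV
  have hpQ : p ∈ Q := (mem_normalizer_iff.1 (h.nor_Q htR) a).1 haQ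
  have h1 := hxt a haQ haV
  have h2 := hxV a haQ haV
  have h3 := hxV p hpQ hpV
  rw [← hp] at h1
  set κ := x * a * x⁻¹ * a⁻¹ with hκ
  set μ := x * p * x⁻¹ * p⁻¹ with hμ
  have h4 : x * y * x⁻¹ * y⁻¹ = μ * κ⁻¹ := by
    have h5 := h.V_Cn hx hv
    have h6 := h.V_Cn (mul_mem hpV (inv_mem haV)) (inv_mem h2)
    calc x * y * x⁻¹ * y⁻¹ = (x * p * x⁻¹) * (x * a * x⁻¹)⁻¹ * (x * v * x⁻¹) * y⁻¹ := by rw [hya]; group
      _ = (x * p * x⁻¹) * (x * a * x⁻¹)⁻¹ * v * y⁻¹ := by rw [h5]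
      _ = (μ * p) * (κ * a)⁻¹ * v * (p * a⁻¹ * v)⁻¹ := by rw [hya, hμ, hκ]; group
      _ = μ * ((p * a⁻¹) * κ⁻¹ * (p * a⁻¹)⁻¹) := by group
      _ = μ * κ⁻¹ := by rw [h6]
  rw [h4]; exact h1

/-- `t` is fixed-point-free on `D V / V` -/
theorem fpfD {g : G} (hg : g ∈ Q') (hgV : g ∈ centralizer (V : Set G)) (h0 : t * g * t⁻¹ * g⁻¹ ∈ V) : g ∈ V := by
  obtain ⟨htR, htR'⟩ := h.t_norm hl hta
  have hxV : ∀ w ∈ Q, w ∈ centralizer (V : Set G) → g * w * g⁻¹ * w⁻¹ ∈ V := by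
    intro w hw hwV
    apply h.meet
    exact mem_inf.2 ⟨(h.com_mem hgV hw).1, (h.com_mem2' hwV hg).1⟩
  apply h.mem_V_of_com hg hgV
  apply h.lam_zero hl ht hta htf hgV hxV
  intro w hw hwV
  set p := t * w * t⁻¹ with hp
  have hpV : p ∈ centralizer (V : Set G) := h.CV (h.X_V ht) hwV
  obtain ⟨v, hv, h1⟩ := EqV.of_mul h0 hgV
  have h2 : g * p * g⁻¹ * p⁻¹ = t * (g * w * g⁻¹ * w⁻¹) * t⁻¹ := by
    have h3 := h.V_Cn hpV (v := v⁻¹) (inv_mem hv)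
    have h4 : v * p * v⁻¹ = p := by
      have h5 := VC hpV hv
      rw [h5, mul_inv_cancel_right]
    calc g * p * g⁻¹ * p⁻¹ = g * (v * p * v⁻¹) * g⁻¹ * p⁻¹ := by rw [h4]
      _ = (g * v) * p * (g * v)⁻¹ * p⁻¹ := by group
      _ = (t * g * t⁻¹) * p * (t * g * t⁻¹)⁻¹ * p⁻¹ := by rw [← h1]
      _ = t * (g * w * g⁻¹ * w⁻¹) * t⁻¹ := by rw [hp]; group
  rw [h2]
  obtain ⟨a, b, hab⟩ := h.mem_E (hxV w hw hwV) (h.com_mem hgV hw).1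
  rw [← hab, hta, mul_zero, h.e_inv, ← h.e_add, h.form.T2, add_zero]
  exact h.e_R _

end torus

/-- **(N1L)** -/
theorem norm {c : G} (hc : c ∈ centralizer (V : Set G))
    (hcQ : ∀ w ∈ Q, w ∈ centralizer (V : Set G) → c * w * c⁻¹ * w⁻¹ ∈ V) :
    ∃ v ∈ V, ∃ d ∈ Q', d ∈ centralizer (V : Set G) ∧ ∃ w ∈ Q, w ∈ centralizer (V : Set G) ∧ c = v * d * w := by
  have hf := h.form
  obtain ⟨l, hl, hl1⟩ := h.exists_two
  obtain ⟨t, ht, hta, htf⟩ := h.exists_t' hl hl1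
  obtain ⟨htR, htR'⟩ := h.t_norm hl hta
  have htV := h.X_V ht
  have htQ : ∀ x ∈ Q, t * x * t⁻¹ ∈ Q := fun x hx => (mem_normalizer_iff.1 (h.nor_Q htR) x).1 hx
  have htQ' : ∀ x ∈ Q', t * x * t⁻¹ ∈ Q' := fun x hx => (mem_normalizer_iff.1 (h.nor_Q' htR') x).1 hx
  obtain ⟨v, hv, d', hd', hdV', w', hw', hwV', htc⟩ := h.com_LL ht hc
  obtain ⟨a, ⟨haV, haQ⟩, v'', hv'', hda⟩ := fpf_surj (A := centralizer (V : Set G) ⊓ Q') inf_le_left htV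
    (fun a ha => ⟨h.CV htV ha.1, htQ' a ha.2⟩) (fun g hg => h.fpfD hl ht hta htf hg.2 hg.1) (y := d') ⟨hdV', hd'⟩
  -- `c₁ = a⁻¹ c`
  set c₁ := a⁻¹ * c with hc₁
  have hc₁V : c₁ ∈ centralizer (V : Set G) := mul_mem (inv_mem haV) hc
  set w'' := a⁻¹ * w' * a with hw''
  have hw''Q : w'' ∈ Q := by
    have := h.CQ (inv_mem haV) hw'
    rwa [inv_inv] at this
  have hw''V : w'' ∈ centralizer (V : Set G) := mul_mem (mul_mem (inv_mem haV) hwV') haV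
  have hv₃ : v'' * v ∈ V := mul_mem hv'' hv
  have htc₁ : t * c₁ * t⁻¹ = w'' * c₁ * (v'' * v) := by
    have h1 : t * a * t⁻¹ = d' * v''⁻¹ * a := by rw [hda]; group
    have h2 : t * c * t⁻¹ = v * d' * w' * c := by rw [← htc]; group
    have h3 : t * c₁ * t⁻¹ = (t * a * t⁻¹)⁻¹ * (t * c * t⁻¹) := by rw [hc₁]; group
    have h4 := VC (mul_mem (mul_mem hdV' hwV') hc) hv
    have h5 := VC (mul_mem (mul_mem (mul_mem (inv_mem hdV') (mul_mem (mul_mem hdV' hwV') hc)) (h.V_cen hv)) (one_mem _)) hv''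
    rw [mul_one] at h5
    calc t * c₁ * t⁻¹ = a⁻¹ * (v'' * (d'⁻¹ * (v * (d' * w' * c)))) := by rw [h3, h1, h2]; group
      _ = a⁻¹ * (v'' * (d'⁻¹ * (d' * w' * c) * v)) := by rw [h4]; group
      _ = a⁻¹ * (d'⁻¹ * (d' * w' * c) * v * v'') := by rw [h5]
      _ = a⁻¹ * w' * c * (v * v'') := by group
      _ = w'' * c₁ * (v'' * v) := by rw [h.V_comm hv hv'', hw'', hc₁]; group
  -- `[c₁, D₀] ≤ V`
  have hx1 : ∀ w ∈ Q, w ∈ centralizer (V : Set G) → c₁ * w * c₁⁻¹ * w⁻¹ ∈ V := by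
    intro w hw hwV
    have h1 := hcQ w hw hwV
    have h2 : a⁻¹ * w * a * w⁻¹ ∈ V := by
      apply h.meet
      have h3 := (h.com_mem (inv_mem haV) hw).1
      have h4 := (h.com_mem2' hwV (inv_mem haQ)).1
      rw [inv_inv] at h3 h4
      exact mem_inf.2 ⟨h3, h4⟩
    have e1 : c₁ * w * c₁⁻¹ * w⁻¹ = a⁻¹ * (c * w * c⁻¹ * w⁻¹) * a⁻¹⁻¹ * (a⁻¹ * w * a * w⁻¹) := by
      rw [hc₁]; group
    rw [e1, h.V_Cn (inv_mem haV) h1]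
    exact mul_mem h1 h2
  -- `[c₁, D₀] ≤ R`
  have hlam := h.lam_zero hl ht hta htf hc₁V hx1 (by
    intro w hw hwV
    set p := t * w * t⁻¹ with hp
    have hpV : p ∈ centralizer (V : Set G) := h.CV htV hwV
    have hpQ : p ∈ Q := htQ w hw
    have h2 : t * (c₁ * w * c₁⁻¹ * w⁻¹) * t⁻¹ = (c₁ * p * c₁⁻¹ * p⁻¹) * (w'' * p * w''⁻¹ * p⁻¹) := by
      have h4 : (v'' * v) * p * (v'' * v)⁻¹ = p := by
        rw [VC hpV hv₃, mul_inv_cancel_right]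
      have h5 := h.V_Cn hw''V (hx1 p hpQ hpV)
      calc t * (c₁ * w * c₁⁻¹ * w⁻¹) * t⁻¹ = (t * c₁ * t⁻¹) * p * (t * c₁ * t⁻¹)⁻¹ * p⁻¹ := by rw [hp]; group
        _ = w'' * c₁ * ((v'' * v) * p * (v'' * v)⁻¹) * c₁⁻¹ * w''⁻¹ * p⁻¹ := by rw [htc₁]; group
        _ = (w'' * (c₁ * p * c₁⁻¹ * p⁻¹) * w''⁻¹) * (w'' * p * w''⁻¹ * p⁻¹) := by rw [h4]; group
        _ = _ := by rw [h5]
    have h3 : (c₁ * p * c₁⁻¹ * p⁻¹) * (c₁ * w * c₁⁻¹ * w⁻¹)⁻¹ =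
        (t * (c₁ * w * c₁⁻¹ * w⁻¹) * t⁻¹) * (c₁ * w * c₁⁻¹ * w⁻¹)⁻¹ * (w'' * p * w''⁻¹ * p⁻¹)⁻¹ := by
      rw [h2]
      have h6 := h.R_V (h.QQ w'' hw''Q p hpQ)
      have h7 := h.V_comm h6 (inv_mem (hx1 w hw hwV))
      rw [mul_assoc (c₁ * p * c₁⁻¹ * p⁻¹) (w'' * p * w''⁻¹ * p⁻¹), h7]
      group
    rw [h3]
    refine mul_mem ?_ (inv_mem (h.QQ w'' hw''Q p hpQ))
    obtain ⟨a, b, hab⟩ := h.mem_E (hx1 w hw hwV) (h.com_mem hc₁V hw).1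
    rw [← hab, hta, mul_zero, h.e_inv, ← h.e_add, hf.T2, add_zero]
    exact h.e_R _)
  -- `ν`
  obtain ⟨τ, hτ⟩ := h.exists_tau
  have hEx : ∀ x ∈ Q, ∃ a b, e a b 0 = c₁ * x * c₁⁻¹ * x⁻¹ := fun x hx =>
    h.mem_E (h.com_V hc₁V hlam hx) (h.com_mem hc₁V hx).1
  choose yy hyy hyc using h.act_surj
  set ν : T → T := fun c' => τ (c₁ * yy c' * c₁⁻¹ * (yy c')⁻¹) with hν
  have hν1 : ∀ x ∈ Q, ∀ c', IsU e N B x c' → ∃ a, c₁ * x * c₁⁻¹ * x⁻¹ = e a (ν c') 0 := by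
    intro x hx c' hxc
    obtain ⟨a₁, b₁, h1⟩ := hEx _ (hyy c')
    have hzQ : (yy c')⁻¹ * x ∈ Q := mul_mem (inv_mem (hyy c')) hx
    have hzV : (yy c')⁻¹ * x ∈ centralizer (V : Set G) := by
      apply h.cen_of_isU
      have := h.isU_mul (h.isU_inv (hyc c')) hxc
      rwa [hf.T2] at this
    have h2 := hlam _ hzQ hzV
    have h3 : c₁ * x * c₁⁻¹ * x⁻¹ = (c₁ * yy c' * c₁⁻¹ * (yy c')⁻¹) *
        (yy c' * (c₁ * ((yy c')⁻¹ * x) * c₁⁻¹ * ((yy c')⁻¹ * x)⁻¹) * (yy c')⁻¹) := by group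
    have h4 := h.cenR (hyy c') h2
    rw [← h4, mul_inv_cancel_right] at h3
    obtain ⟨a₂, h5⟩ := (h.R_iff _).1 h2
    refine ⟨a₁ + a₂, ?_⟩
    have h6 : ν c' = b₁ := by rw [hν]; change τ _ = _; rw [← h1, hτ]
    rw [h3, ← h1, ← h5, ← h.e_add, h6, add_zero, add_zero]
  have hν_add : ∀ c' c'', ν (c' + c'') = ν c' + ν c'' := by
    intro c' c''
    obtain ⟨a₁, h1⟩ := hν1 _ (mul_mem (hyy c') (hyy c'')) _ (h.isU_mul (hyc c') (hyc c''))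
    obtain ⟨a₂, h2⟩ := hν1 _ (hyy c') _ (hyc c')
    obtain ⟨a₃, h3⟩ := hν1 _ (hyy c'') _ (hyc c'')
    have h4 : c₁ * (yy c' * yy c'') * c₁⁻¹ * (yy c' * yy c'')⁻¹ = (c₁ * yy c' * c₁⁻¹ * (yy c')⁻¹) *
        (yy c' * (c₁ * yy c'' * c₁⁻¹ * (yy c'')⁻¹) * (yy c')⁻¹) := by group
    rw [h1, h2, h3, hyc, ← h.e_add] at h4
    simpa using (h.e_eq h4).2.1
  obtain ⟨a₃, b₃, d₃, hv₃e⟩ := h.e_surj _ hv₃
  have hν_rel : ∀ c', ν c' = d₃ • (l ^ 2 • c') + ν (l ^ 2 • c') := by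
    intro c'
    set x := yy c' with hx
    set y := t * x * t⁻¹ with hy
    have hxQ := hyy c'
    have hyQ : y ∈ Q := htQ _ hxQ
    have hyU : IsU e N B y (l ^ 2 • c') := h.isU_t hl hta (hyc c')
    obtain ⟨a₁, h1⟩ := hν1 x hxQ c' (hyc c')
    obtain ⟨a₂, h2⟩ := hν1 y hyQ _ hyU
    have hε : ∃ a₄, (v'' * v) * y * (v'' * v)⁻¹ * y⁻¹ = e a₄ (d₃ • (l ^ 2 • c')) 0 := by
      have h4 : (v'' * v) * y * (v'' * v)⁻¹ * y⁻¹ = (v'' * v) * (y * (v'' * v)⁻¹ * y⁻¹) := by group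
      have k1 : b₃ + (b₃ + d₃ • (l ^ 2 • c')) = d₃ • (l ^ 2 • c') := by rw [← add_assoc, hf.T2, zero_add]
      have k2 : d₃ + d₃ = 0 := hf.F2 _
      rw [h4, ← hv₃e, h.e_inv, hyU, ← h.e_add, k1, k2]
      exact ⟨_, rfl⟩
    obtain ⟨a₄, hε⟩ := hε
    have h3 : t * (c₁ * x * c₁⁻¹ * x⁻¹) * t⁻¹ = e a₄ (d₃ • (l ^ 2 • c')) 0 * (c₁ * y * c₁⁻¹ * y⁻¹) *
        (w'' * y * w''⁻¹ * y⁻¹) := by
      have h5 := h.V_Cn (mul_mem hw''V hc₁V) (h.e_mem a₄ (d₃ • (l ^ 2 • c')) 0)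
      have h6 := h.V_Cn hw''V (h.com_V hc₁V hlam hyQ)
      calc t * (c₁ * x * c₁⁻¹ * x⁻¹) * t⁻¹ = (t * c₁ * t⁻¹) * y * (t * c₁ * t⁻¹)⁻¹ * y⁻¹ := by rw [hy]; group
        _ = (w'' * c₁ * ((v'' * v) * y * (v'' * v)⁻¹ * y⁻¹) * (w'' * c₁)⁻¹) *
            ((w'' * (c₁ * y * c₁⁻¹ * y⁻¹) * w''⁻¹) * (w'' * y * w''⁻¹ * y⁻¹)) := by rw [htc₁]; group
        _ = _ := by rw [hε, h5, h6]; group
    obtain ⟨a₅, h7⟩ := (h.R_iff _).1 (h.QQ w'' hw''Q y hyQ)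
    rw [h1, h2, ← h7, hta, ← h.e_add, ← h.e_add] at h3
    simpa using (h.e_eq h3).2.1
  have hs : 1 + l ^ 2 ≠ 0 := by
    intro h0
    apply hl1
    have h1 : (l + 1) * (l + 1) = 0 := by linear_combination h0 + hf.F2 l
    have h2 := eq_neg_of_add_eq_zero_left (mul_self_eq_zero.1 h1)
    rwa [hf.neg_F] at h2
  set d₂ := d₃ * (l ^ 2 * (1 + l ^ 2)⁻¹) with hd₂
  have hν2 : ∀ c₀, ν c₀ = d₂ • c₀ := by
    intro c₀
    set c' := (1 + l ^ 2)⁻¹ • c₀ with hc'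
    have h1 : c₀ = c' + l ^ 2 • c' := by
      have : c' + l ^ 2 • c' = (1 + l ^ 2) • c' := by rw [add_smul, one_smul]
      rw [this, hc', smul_smul, mul_inv_cancel₀ hs, one_smul]
    calc ν c₀ = ν c' + ν (l ^ 2 • c') := by rw [h1, hν_add]
      _ = d₃ • (l ^ 2 • c') + (ν (l ^ 2 • c') + ν (l ^ 2 • c')) := by rw [hν_rel c']; abel
      _ = d₂ • c₀ := by
          rw [hf.T2, add_zero, hc', smul_smul, smul_smul, hd₂]
          congr 1; ring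
  -- `c₂ = c₁ v₂`
  have hv₂ := h.e_mem 0 0 d₂
  have hc₂ : c₁ * e 0 0 d₂ ∈ centralizer (V : Set G) := mul_mem hc₁V (h.V_cen hv₂)
  have hc₂Q : c₁ * e 0 0 d₂ ∈ Q := by
    apply h.ker (centralizer_le h.R_V hc₂)
    intro x hx
    obtain ⟨c', hxc⟩ := h.act x hx
    obtain ⟨a₁, h1⟩ := hν1 x hx c' hxc
    have hε : ∃ a₄, e 0 0 d₂ * x * (e 0 0 d₂)⁻¹ * x⁻¹ = e a₄ (d₂ • c') 0 := by
      have h4 : e 0 0 d₂ * x * (e 0 0 d₂)⁻¹ * x⁻¹ = e 0 0 d₂ * (x * (e 0 0 d₂)⁻¹ * x⁻¹) := by group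
      have k1 : (0 : T) + (0 + d₂ • c') = d₂ • c' := by rw [zero_add, zero_add]
      have k2 : d₂ + d₂ = 0 := hf.F2 _
      rw [h4, h.e_inv, hxc, ← h.e_add, k1, k2]
      exact ⟨_, rfl⟩
    obtain ⟨a₄, hε⟩ := hε
    have h5 := h.V_Cn hc₁V (h.e_mem a₄ (d₂ • c') 0)
    have h2 : c₁ * e 0 0 d₂ * x * (c₁ * e 0 0 d₂)⁻¹ * x⁻¹ = e a₄ (d₂ • c') 0 * e a₁ (d₂ • c') 0 := by
      calc c₁ * e 0 0 d₂ * x * (c₁ * e 0 0 d₂)⁻¹ * x⁻¹ =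
          (c₁ * (e 0 0 d₂ * x * (e 0 0 d₂)⁻¹ * x⁻¹) * c₁⁻¹) * (c₁ * x * c₁⁻¹ * x⁻¹) := by group
        _ = _ := by rw [hε, h5, h1, hν2]
    rw [h2, ← h.e_add, hf.T2, add_zero]
    exact h.e_R _
  -- conclusion
  refine ⟨(e 0 0 d₂)⁻¹, inv_mem hv₂, a, haQ, haV, c₁ * e 0 0 d₂, hc₂Q, hc₂, ?_⟩
  have h1 := h.V_Cn hc hv₂
  calc c = (e 0 0 d₂)⁻¹ * (e 0 0 d₂) * c := by group
    _ = (e 0 0 d₂)⁻¹ * (c * e 0 0 d₂ * c⁻¹) * c := by rw [h1]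
    _ = (e 0 0 d₂)⁻¹ * a * (c₁ * e 0 0 d₂) := by rw [hc₁]; group

end Pair

end Cfsg.Agent.Omega.All.NOne
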