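import Cfsg.Agent.Omega.All.NOne.TwoC
import Cfsg.Agent.Omega.All.NOne.Main

/-!
# THEOREM ALL-N1: the two-point data give `Ext`

* `Pair.big` : for `l ∈ V D D₀ - V D₀` there is `s ∈ S` with `E ≤ [D₀, l] [D₀, l^s] R`;
* `Pair.ext` : `Ext S V R Q (C(V) ∩ Q') e`.
-/

set_option autoImplicit false
set_option linter.unusedSectionVars false
set_option linter.unusedVariables false

namespace Cfsg.Agent.Omega.All.NOne

open Subgroup Cfsg Cfsg.Agent.ZN Cfsg.Agent.Omega.MinPar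
open Cfsg.Agent.MinSimple.VModule (le_normalizer_o2 o2_isPGroup le_o2)

universe u

variable {G : Type u} [Group G] {F T : Type*} [Field F] [AddCommGroup T] [Module F T]

namespace Pair

variable {S V R Q R' Q' : Subgroup G} {e : F → T → F → G} {N : T → F} {B : T → T → F}
  (h : Pair S V R Q R' Q' e N B)
include h

section com

variable {v d w : G} (hv : v ∈ V) (hd : d ∈ Q') (hdV : d ∈ centralizer (V : Set G)) (hw : w ∈ Q)
  (hwV : w ∈ centralizer (V : Set G))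
include hv hd hdV hw hwV

/-- `[y, v d w] = [y, d] [y, w]` -/
theorem com_l [Finite G] {y : G} (hy : y ∈ Q) (hyV : y ∈ centralizer (V : Set G)) :
    y * d * y⁻¹ * d⁻¹ ∈ V ∧
      y * (v * d * w) * y⁻¹ * (v * d * w)⁻¹ = (y * d * y⁻¹ * d⁻¹) * (y * w * y⁻¹ * w⁻¹) := by
  have hε : y * d * y⁻¹ * d⁻¹ ∈ V := by
    apply h.meet
    exact mem_inf.2 ⟨(h.com_mem2 hdV hy).1, (h.com_mem' hyV hd).1⟩
  refine ⟨hε, ?_⟩
  have hρ := h.R_V (h.QQ y hy w hw)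
  set ε := y * d * y⁻¹ * d⁻¹ with hεd
  set ρ := y * w * y⁻¹ * w⁻¹ with hρd
  have h1 := h.V_Cn hyV hv
  have h2 := h.V_Cn (mul_mem (h.V_cen hv) (one_mem _)) hε
  have h3 := h.V_Cn (mul_mem (mul_mem (h.V_cen hv) (h.V_cen hε)) hdV) hρ
  calc y * (v * d * w) * y⁻¹ * (v * d * w)⁻¹ = (y * v * y⁻¹) * ε * d * ρ * (v * d)⁻¹ := by
        rw [hεd, hρd]; group
    _ = (v * ε * d * ρ * (v * ε * d)⁻¹) * (v * 1 * ε * (v * 1)⁻¹) := by rw [h1]; group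
    _ = ρ * ε := by rw [h3, h2]
    _ = ε * ρ := h.V_comm hρ hε

end com

theorem big [Finite G] {v d w : G} (hv : v ∈ V) (hd : d ∈ Q') (hdV : d ∈ centralizer (V : Set G)) (hw : w ∈ Q)
    (hwV : w ∈ centralizer (V : Set G))
    (hl : ¬ ∃ v' ∈ V, ∃ w' ∈ Q, w' ∈ centralizer (V : Set G) ∧ v * d * w = v' * w') :
    ∃ s ∈ S, ∀ b, ∃ w₁ ∈ Q, w₁ ∈ centralizer (V : Set G) ∧ ∃ w₂ ∈ Q, w₂ ∈ centralizer (V : Set G) ∧
      ∃ r ∈ R, e 0 b 0 = w₁ * (v * d * w) * w₁⁻¹ * (v * d * w)⁻¹ *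
        (w₂ * (s * (v * d * w) * s⁻¹) * w₂⁻¹ * (s * (v * d * w) * s⁻¹)⁻¹) * r := by
  have hf := h.form
  have hdn : d ∉ V := fun h0 => hl ⟨v * d, mul_mem hv h0, w, hw, hwV, rfl⟩
  obtain ⟨χ, hχ, hn⟩ := h.exists_chi
  set l := v * d * w with hld
  have hlV : l ∈ centralizer (V : Set G) := mul_mem (mul_mem (h.V_cen hv) hdV) hwV
  have hcom : ∀ y ∈ Q, y ∈ centralizer (V : Set G) → y * d * y⁻¹ * d⁻¹ ∈ V ∧ y * l * y⁻¹ * l⁻¹ ∈ V ∧
      y * l * y⁻¹ * l⁻¹ ∈ Q ∧ ∃ r ∈ R, y * d * y⁻¹ * d⁻¹ = y * l * y⁻¹ * l⁻¹ * r := by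
    intro y hy hyV
    obtain ⟨h1, h2⟩ := h.com_l hv hd hdV hw hwV hy hyV
    have h3 := h.QQ y hy w hw
    refine ⟨h1, ?_, (h.com_mem2 hlV hy).1, (y * w * y⁻¹ * w⁻¹)⁻¹, inv_mem h3, ?_⟩
    · rw [hld, h2]; exact mul_mem h1 (h.R_V h3)
    · rw [hld, h2, mul_inv_cancel_right]
  have hcmul : ∀ y ∈ Q, y ∈ centralizer (V : Set G) → ∀ y' ∈ Q, y' ∈ centralizer (V : Set G) →
      (y * y') * l * (y * y')⁻¹ * l⁻¹ = (y * l * y⁻¹ * l⁻¹) * (y' * l * y'⁻¹ * l⁻¹) := by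
    intro y hy hyV y' hy' hyV'
    obtain ⟨-, h1, -, -⟩ := hcom y hy hyV
    obtain ⟨-, h2, -, -⟩ := hcom y' hy' hyV'
    have h3 := h.V_Cn hyV h2
    calc (y * y') * l * (y * y')⁻¹ * l⁻¹ = (y * (y' * l * y'⁻¹ * l⁻¹) * y⁻¹) * (y * l * y⁻¹ * l⁻¹) := by group
      _ = _ := by rw [h3, h.V_comm h2 h1]
  -- the subgroup `I = [D₀, l] R`
  let I : Subgroup G :=
    { carrier := {x | ∃ y ∈ Q, y ∈ centralizer (V : Set G) ∧ ∃ r ∈ R, x = y * l * y⁻¹ * l⁻¹ * r}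
      one_mem' := ⟨1, one_mem _, one_mem _, 1, one_mem _, by group⟩
      mul_mem' := by
        rintro _ _ ⟨y, hy, hyV, r, hr, rfl⟩ ⟨y', hy', hyV', r', hr', rfl⟩
        refine ⟨y * y', mul_mem hy hy', mul_mem hyV hyV', r * r', mul_mem hr hr', ?_⟩
        rw [hcmul y hy hyV y' hy' hyV']
        obtain ⟨-, h2, -, -⟩ := hcom y' hy' hyV'
        have h3 := h.V_comm (h.R_V hr) h2
        calc y * l * y⁻¹ * l⁻¹ * r * (y' * l * y'⁻¹ * l⁻¹ * r') =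
            y * l * y⁻¹ * l⁻¹ * (r * (y' * l * y'⁻¹ * l⁻¹)) * r' := by group
          _ = _ := by rw [h3]; group
      inv_mem' := by
        rintro _ ⟨y, hy, hyV, r, hr, rfl⟩
        refine ⟨y⁻¹, inv_mem hy, inv_mem hyV, r⁻¹, inv_mem hr, ?_⟩
        have h1 := hcmul y⁻¹ (inv_mem hy) (inv_mem hyV) y hy hyV
        have h2 : y⁻¹ * y * l * (y⁻¹ * y)⁻¹ * l⁻¹ = 1 := by group
        rw [h2] at h1
        have h3 : y⁻¹ * l * y⁻¹⁻¹ * l⁻¹ = (y * l * y⁻¹ * l⁻¹)⁻¹ := (inv_eq_of_mul_eq_one_left h1.symm).symm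
        obtain ⟨-, h4, -, -⟩ := hcom y hy hyV
        rw [h3, mul_inv_rev, h.V_comm (inv_mem (h.R_V hr)) (inv_mem h4)] }
  have hRI : R ≤ I := fun r hr => ⟨1, one_mem _, one_mem _, r, hr, by group⟩
  have hIE : I ≤ V ⊓ Q := by
    rintro _ ⟨y, hy, hyV, r, hr, rfl⟩
    obtain ⟨-, h1, h2, -⟩ := hcom y hy hyV
    exact mem_inf.2 ⟨mul_mem h1 (h.R_V hr), mul_mem h2 (h.R_Q hr)⟩
  -- the annihilator
  let A : AddSubgroup T :=
    { carrier := {c | ∃ x ∈ Q, IsU e N B x c ∧ d * x * d⁻¹ * x⁻¹ ∈ V}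
      zero_mem' := ⟨1, one_mem _, h.isU_one_of_cen (one_mem _), by
        have : d * 1 * d⁻¹ * 1⁻¹ = 1 := by group
        rw [this]; exact one_mem _⟩
      add_mem' := by
        rintro _ _ ⟨x, hx, hxc, h1⟩ ⟨x', hx', hxc', h2⟩
        refine ⟨x * x', mul_mem hx hx', h.isU_mul hxc hxc', ?_⟩
        have e1 : d * (x * x') * d⁻¹ * (x * x')⁻¹ = (d * x * d⁻¹ * x⁻¹) * (x * (d * x' * d⁻¹ * x'⁻¹) * x⁻¹) := by
          group
        rw [e1]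
        exact mul_mem h1 ((mem_normalizer_iff.1 (h.Q_V hx) _).1 h2)
      neg_mem' := by
        rintro c hc
        rwa [hf.neg_T] }
  have hA : ∀ c ∈ A, N c = 0 := by
    rintro c ⟨x, hx, hxc, h1⟩
    by_contra hc
    apply hdn
    apply h.al_inj hc hx hxc hd
    have e1 : x * d * x⁻¹ * d⁻¹ = (d * x * d⁻¹ * x⁻¹)⁻¹ := by group
    rw [e1]; exact inv_mem h1
  -- the key
  have key : ∀ i : T, (∀ c ∈ A, B i c = 0) → e 0 i 0 ∈ I := by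
    intro i hi
    by_contra hiI
    obtain ⟨g, hg1, hg2, hg3⟩ := exists_sep (E := V ⊓ Q) (I := I)
      (fun a ha b hb => h.V_comm (mem_inf.1 ha).1 (mem_inf.1 hb).1) (fun a ha => h.V_sq (mem_inf.1 ha).1) hIE
      (x := e 0 i 0) (mem_inf.2 ⟨h.e_mem _ _ _, h.E_le _ _⟩) hiI
    obtain ⟨x, hx, hxg⟩ := h.rep hχ hn g hg1 (fun a ha => hg2 a (hRI ha))
    obtain ⟨c, hxc⟩ := h.act x hx
    obtain ⟨hzQ, hzV⟩ := h.com_mem hdV hx
    have hcA : c ∈ A := by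
      refine ⟨x, hx, hxc, ?_⟩
      apply h.cchi hχ hn hzQ
      intro y hy hyV
      obtain ⟨h1, -, -, r, hr, h2⟩ := hcom y hy hyV
      set ε := y * d * y⁻¹ * d⁻¹ with hε
      have hεI : ε ∈ I := ⟨y, hy, hyV, r, hr, h2⟩
      have hεE : ε ∈ V ⊓ Q := hIE hεI
      have h3 : d⁻¹ * y * d = y * ε := by
        have h4 := h.V_Cn (inv_mem hdV) h1
        have h5 := VC hyV h1
        calc d⁻¹ * y * d = d⁻¹ * (ε * d * y) := by rw [hε]; group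
          _ = (d⁻¹ * ε * d⁻¹⁻¹) * y := by group
          _ = y * ε := by rw [h4, h5]
      set z := d * x * d⁻¹ * x⁻¹ with hz
      have h4 : z * x * y * (z * x)⁻¹ * y⁻¹ = x * (y * ε) * x⁻¹ * (y * ε)⁻¹ := by
        have h5 : x * (y * ε) * x⁻¹ * (y * ε)⁻¹ ∈ R := h.QQ x hx _ (mul_mem hy (mem_inf.1 hεE).2)
        have h6 := h.V_Cn hdV (h.R_V h5)
        calc z * x * y * (z * x)⁻¹ * y⁻¹ = d * (x * (d⁻¹ * y * d) * x⁻¹ * (d⁻¹ * y * d)⁻¹) * d⁻¹ := by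
              rw [hz]; group
          _ = _ := by rw [h3, h6]
      have h5 := h.chi_mul_left hχ hzQ hx hy
      rw [h4, h.chi_mul hχ hx hy (mem_inf.1 hεE).2, hxg ε hεE, hg2 ε hεI, mul_one] at h5
      exact right_eq_mul.1 h5
    have h1 := hi c hcA
    have h2 := hxg (e 0 i 0) (mem_inf.2 ⟨h.e_mem _ _ _, h.E_le _ _⟩)
    rw [hg3] at h2
    have h3 : x * e 0 i 0 * x⁻¹ * (e 0 i 0)⁻¹ = 1 := by
      rw [hxc, h1, h.e_inv, ← h.e_add]
      simp only [mul_zero, add_zero, zero_smul, hf.T2]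
      exact h.e_zero
    rw [h3, h.chi_one hχ] at h2
    exact absurd h2 (by decide)
  obtain ⟨s, hs, hsep⟩ := h.sep A hA
  refine ⟨s, hs, fun b => ?_⟩
  obtain ⟨a, i, i', hi, hi', hb⟩ := hsep b
  obtain ⟨w₁, hw₁, hw₁V, r₁, hr₁, h1⟩ := key i hi
  obtain ⟨w₂, hw₂, hw₂V, r₂, hr₂, h2⟩ := key i' hi'
  have hsV := h.S_V hs
  have hsR := h.S_R hs
  have hr₃ : s * r₂ * s⁻¹ ∈ R := (mem_normalizer_iff.1 hsR _).1 hr₂
  refine ⟨w₁, hw₁, hw₁V, s * w₂ * s⁻¹, (mem_normalizer_iff.1 (h.nor_Q hsR) _).1 hw₂, h.CV hsV hw₂V,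
    e a 0 0 * r₁ * (s * r₂ * s⁻¹), mul_mem (mul_mem (h.e_R a) hr₁) hr₃, ?_⟩
  have h3 : s * w₂ * s⁻¹ * (s * l * s⁻¹) * (s * w₂ * s⁻¹)⁻¹ * (s * l * s⁻¹)⁻¹ =
    s * (w₂ * l * w₂⁻¹ * l⁻¹) * s⁻¹ := by group
  obtain ⟨-, h4, -, -⟩ := hcom w₁ hw₁ hw₁V
  obtain ⟨-, h5, -, -⟩ := hcom w₂ hw₂ hw₂V
  have h6 : s * (w₂ * l * w₂⁻¹ * l⁻¹) * s⁻¹ ∈ V := (mem_normalizer_iff.1 hsV _).1 h5
  rw [hb, h1, h2, h3]
  have h7 := h.V_comm (mul_mem (h.R_V (h.e_R a)) (one_mem _)) (mul_mem h4 h6)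
  have h8 := h.V_comm (h.R_V hr₁) h6
  set p := w₁ * l * w₁⁻¹ * l⁻¹ with hp
  set q := s * (w₂ * l * w₂⁻¹ * l⁻¹) * s⁻¹ with hq
  have h9 : s * (w₂ * l * w₂⁻¹ * l⁻¹ * r₂) * s⁻¹ = q * (s * r₂ * s⁻¹) := by rw [hq]; group
  rw [h9]
  calc e a 0 0 * (p * r₁) * (q * (s * r₂ * s⁻¹)) = e a 0 0 * 1 * p * (r₁ * q) * (s * r₂ * s⁻¹) := by group
    _ = (e a 0 0 * 1 * (p * q)) * (r₁ * (s * r₂ * s⁻¹)) := by rw [h8]; group
    _ = p * q * (e a 0 0 * r₁ * (s * r₂ * s⁻¹)) := by rw [h7]; group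

end Pair

/-- **the two-point data give `Ext`** -/
theorem Pair.ext [Finite G] (S : Sylow 2 G) {V R Q R' Q' : Subgroup G} {e : F → T → F → G} {N : T → F}
    {B : T → T → F} (h : Pair (S : Subgroup G) V R Q R' Q' e N B) :
    Ext (S : Subgroup G) V R Q (centralizer (V : Set G) ⊓ Q') e where
  D_V := inf_le_left
  D_S := by
    have h1 : centralizer (V : Set G) ⊓ Q' ≤ o2 (centralizer (V : Set G)) := by
      apply le_o2 inf_le_left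
      · have h2 : IsPGroup 2 Q' := by rw [h.Q'_eq]; exact o2_isPGroup _
        exact h2.to_le inf_le_right
      · intro c hc
        apply mem_norm_of
        · intro x hx
          exact mem_inf.2 ⟨mul_mem (mul_mem hc (mem_inf.1 hx).1) (inv_mem hc), h.CQ' hc (mem_inf.1 hx).2⟩
        · intro x hx
          have h3 := h.CQ' (inv_mem hc) (mem_inf.1 hx).2
          rw [inv_inv] at h3
          exact mem_inf.2 ⟨mul_mem (mul_mem (inv_mem hc) (mem_inf.1 hx).1) hc, h3⟩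
    refine h1.trans (le_of_le_normalizer S (o2_isPGroup _) ?_)
    intro s hs
    have hsV := h.S_V hs
    have h4 : ∀ s ∈ normalizer (V : Set G), ∀ x ∈ o2 (centralizer (V : Set G)), s * x * s⁻¹ ∈ o2 (centralizer (V : Set G)) := by
      intro s hs x hx
      have h5 : cj s (centralizer (V : Set G)) = centralizer (V : Set G) := by
        ext y
        rw [mem_cj]
        constructor
        · intro hy
          have := h.CV hs hy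
          have e1 : s * (s⁻¹ * y * s) * s⁻¹ = y := by group
          rwa [e1] at this
        · intro hy
          have := h.CV (inv_mem hs) hy
          rwa [inv_inv] at this
      have h6 := Pair.cj_o2 s (centralizer (V : Set G))
      rw [h5] at h6
      rw [← h6]
      exact conj_mem_cj hx
    exact mem_norm_of (h4 s hsV) fun x hx => by
      have := h4 s⁻¹ (inv_mem hsV) x hx
      rwa [inv_inv] at this
  D_nor := fun c hc y hy => mem_inf.2 ⟨mul_mem (mul_mem hc (mem_inf.1 hy).1) (inv_mem hc), h.CQ' hc (mem_inf.1 hy).2⟩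
  D_Q := fun y hy hyQ => h.meet (mem_inf.2 ⟨hyQ, (mem_inf.1 hy).2⟩)
  D_R := by
    intro y hy hyR
    obtain ⟨a, rfl⟩ := (h.R_iff y).1 hyR
    have := h.V_Q' (mem_inf.1 hy).2
    rw [this, h.e_zero]
  sp := by
    intro w hw hwV
    obtain ⟨c, hc, -⟩ := h.form.exists_ne
    have hc' : N c ≠ 0 := by rw [hc]; exact one_ne_zero
    obtain ⟨u, hu, huc⟩ := h.act_surj c
    obtain ⟨d, hd, hdV, v, hv, h1⟩ := h.al_surj hc' hu huc (inv_mem hw) (inv_mem hwV)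
    refine ⟨u, hu, d, mem_inf.2 ⟨hdV, hd⟩, d⁻¹, mem_inf.2 ⟨inv_mem hdV, inv_mem hd⟩, v⁻¹, inv_mem hv, ?_⟩
    have h2 : w = v⁻¹ * (u * d * u⁻¹ * d⁻¹)⁻¹ := by
      rw [← mul_inv_rev, ← h1, inv_inv]
    rw [h2]; group
  cc := fun w hw hc => h.cc hw hc
  norm := by
    intro c hc _ hcQ
    obtain ⟨v, hv, d, hd, hdV, w, hw, hwV, h1⟩ := h.norm hc hcQ
    exact ⟨v, hv, d, mem_inf.2 ⟨hdV, hd⟩, w, hw, hwV, h1⟩
  big := fun v hv d hd w hw hwV hl => h.big hv (mem_inf.1 hd).2 (mem_inf.1 hd).1 hw hwV hl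

end Cfsg.Agent.Omega.All.NOne
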